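import Cfsg.Agent.Lib.ThOut.Solver
import Cfsg.Agent.Lib.ThOut.HData

/-!
The centraliser of `a` in the group of `a, b, c, d, e, s, t`, and the order of the group of words without `b`.
-/

set_option autoImplicit false
set_option maxRecDepth 100000
set_option Elab.async false

namespace Cfsg.Agent.ThOut

open Cfsg.Agent.HN Cfsg.Agent.Th

noncomputable section

/-- Representative `i` of the cosets of the centraliser of `a`. -/
def omW (i : ℕ) : List ℕ := unp (HData.om.get i)

/-- The checks on one representative. -/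
def omOK (i : ℕ) : Bool :=
  letOK 9 (omW i) && Nat.beq (pts.actW (omW i) 0) i &&
    (Nat.beq i 0 || !(eqH ([0] ++ omW i) (omW i ++ [0]))) && allLo (fun l =>
      Nat.blt (ap (pts.perm l) i) 819 && Nat.blt (pairAt (HData.hstep.get i) l).1 512 &&
        Nat.blt (pairAt (HData.hstep.get i) l).2 1512 &&
        eqH (omW i ++ [l]) (qW (pairAt (HData.hstep.get i) l).1 ++ rW (pairAt (HData.hstep.get i) l).2 ++
          omW (ap (pts.perm l) i))) 9

theorem omOK0 : allLo omOK 420 = true := by decide +kernel

theorem omOK1 : allLo (fun i => omOK (Nat.add 420 i)) 399 = true := by decide +kernel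

theorem om_ok {i : ℕ} (hi : i < 819) : omOK i = true := by
  by_cases h0 : i < 420
  · exact allLo_spec omOK0 h0
  have := allLo_spec omOK1 (i := i - 420) (by omega)
  rwa [show Nat.add 420 (i - 420) = i from by show 420 + (i - 420) = i; omega] at this

theorem klet_ok : allLo (fun l => Nat.beq l 1 || (Nat.beq (ap (pts.perm l) 0) 0 &&
    eqH [0, l] [l, 0])) 9 = true := by decide +kernel

theorem acomm_ok : allLo (fun l => Nat.beq l 1 || eqS true [0, l] [l, 0]) 11 = true ∧
    omW 0 = [] := by decide +kernel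

theorem kWord_append {u v : List ℕ} (hu : kWord u = true) (hv : kWord v = true) : kWord (u ++ v) = true := by
  simp_all [kWord]

theorem kWord_qr {q r : ℕ} (hq : q < 512) (hr : r < 1512) : kWord (qW q ++ rW r) = true := by
  have := allLo_spec words_ok.1 hq
  simp only [Bool.and_eq_true] at this
  exact kWord_append this.1 (allLo_spec words_ok.2.1 hr)

theorem kWord_fix : ∀ w : List ℕ, kWord w = true → pts.actW w 0 = 0 := by
  intro w
  induction w with
  | nil => intro _; rfl
  | cons l w ih =>
    intro h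
    simp only [kWord, List.all_cons, Bool.and_eq_true, Nat.blt_eq, Bool.not_eq_true'] at h
    have := allLo_spec klet_ok h.1.1
    simp only [h.1.2, Bool.false_or, Bool.and_eq_true, Nat.beq_eq] at this
    show pts.actW w (ap (pts.perm l) 0) = 0
    rw [this.1]
    exact ih (by simpa [kWord] using h.2)

theorem kWord_comm : ∀ w : List ℕ, kWord w = true → el [0] * el w = el w * el [0] := by
  intro w
  induction w with
  | nil => intro _; rw [el_nil, one_mul, mul_one]
  | cons l w ih =>
    intro h
    simp only [kWord, List.all_cons, Bool.and_eq_true, Nat.blt_eq, Bool.not_eq_true'] at h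
    have := allLo_spec klet_ok h.1.1
    simp only [h.1.2, Bool.false_or, Bool.and_eq_true] at this
    have e := el_eq this.2
    rw [show [0, l] = [0] ++ [l] from rfl, show [l, 0] = [l] ++ [0] from rfl, el_append, el_append] at e
    rw [show l :: w = [l] ++ w from rfl, el_append, ← mul_assoc, e, mul_assoc,
      ih (by simpa [kWord] using h.2), ← mul_assoc]

/-- Every element is a word without `b`, times a representative. -/
theorem decomp (h : H0) : ∃ κ, kWord κ = true ∧ ∃ i < 819, h = el κ * el (omW i) := by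
  obtain ⟨w, hw, rfl⟩ : ∃ w, (∀ l ∈ w, l < 9) ∧ el w = h := by
    have hx : h ∈ Subgroup.closure (g9 '' {l | l < 9}) := by rw [closure_g9]; trivial
    induction hx using Subgroup.closure_induction with
    | mem y hy =>
      obtain ⟨l, hl, rfl⟩ := hy
      exact ⟨[l], by simpa using hl, wv_singleton _ _⟩
    | one => exact ⟨[], by simp, el_nil⟩
    | mul y z _ _ hy hz =>
      obtain ⟨u, hu, rfl⟩ := hy
      obtain ⟨v, hv, rfl⟩ := hz
      exact ⟨u ++ v, by simpa [or_imp, forall_and] using ⟨hu, hv⟩, el_append u v⟩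
    | inv y _ hy =>
      obtain ⟨u, hu, rfl⟩ := hy
      refine ⟨winv iv9 u, fun l hl => ?_, el_winv u⟩
      simp only [winv, List.mem_map, List.mem_reverse] at hl
      obtain ⟨m, hm, rfl⟩ := hl
      have := hu m hm
      interval_cases m <;> decide
  induction w using List.reverseRecOn with
  | nil => exact ⟨[], rfl, 0, by norm_num, by rw [acomm_ok.2, el_nil, one_mul]⟩
  | append_singleton w l ih =>
    obtain ⟨κ, hκ, i, hi, e⟩ := ih fun m hm => hw m (List.mem_append_left _ hm)
    have h := om_ok hi
    simp only [omOK, Bool.and_eq_true] at h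
    have hl := allLo_spec h.2 (hw l (by simp))
    simp only [Bool.and_eq_true, Nat.blt_eq] at hl
    obtain ⟨⟨⟨h1, h2⟩, h3⟩, h4⟩ := hl
    refine ⟨κ ++ (qW (pairAt (HData.hstep.get i) l).1 ++ rW (pairAt (HData.hstep.get i) l).2),
      kWord_append hκ (kWord_qr h2 h3), _, h1, ?_⟩
    rw [el_append, e, mul_assoc, ← el_append, el_eq h4, el_append, el_append κ, mul_assoc]

/-- The centraliser of `a` in the group of `a, b, c, d, e, s, t`. -/
def kH : Subgroup H0 := Subgroup.centralizer {el [0]}

theorem mem_kH {h : H0} : h ∈ kH ↔ el [0] * h = h * el [0] := by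
  rw [kH, Subgroup.mem_centralizer_iff]
  exact ⟨fun e => e _ rfl, fun e g hg => by rw [Set.mem_singleton_iff.1 hg]; exact e⟩

/-- An element commuting with `a` is a word without `b`. -/
theorem kH_word {h : H0} (hh : h ∈ kH) : ∃ κ, kWord κ = true ∧ h = el κ := by
  obtain ⟨κ, hκ, i, hi, rfl⟩ := decomp h
  refine ⟨κ, hκ, ?_⟩
  rcases Nat.eq_zero_or_pos i with rfl | hpos
  · rw [acomm_ok.2, el_nil, mul_one]
  exfalso
  rw [mem_kH, ← mul_assoc, kWord_comm κ hκ, mul_assoc, mul_assoc, mul_left_cancel_iff, ← el_append,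
    ← el_append] at hh
  have h := om_ok hi
  simp only [omOK, Bool.and_eq_true, Bool.or_eq_true, Nat.beq_eq, Bool.not_eq_true'] at h
  obtain ⟨⟨⟨hl, -⟩, hne⟩, -⟩ := h
  rcases hne with hne | hne
  · omega
  have hl := letOK_spec hl
  rw [eqH_of_el (by simpa using hl) (by simpa [or_imp, forall_and] using hl) hh] at hne
  exact Bool.noConfusion hne

/-- The order of that centraliser. -/
theorem card_kH : Nat.card kH = 774144 := by
  have hb : Function.Bijective (fun p : kH × Fin 819 => (p.1 : H0) * el (omW p.2)) := by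
    refine ⟨fun p p' e => ?_, fun h => ?_⟩
    · have key : ∀ (k : kH) (i : Fin 819), ((rep ((k : H0) * el (omW i)))⁻¹ ⟨0, by decide⟩ : ℕ) = i := by
        intro k i
        obtain ⟨κ, hκ, hk⟩ := kH_word k.2
        have h := om_ok i.2
        simp only [omOK, Bool.and_eq_true, Nat.beq_eq] at h
        obtain ⟨⟨⟨hl, ha⟩, -⟩, -⟩ := h
        have hall : ∀ l ∈ κ ++ omW i, l < pts.k := by
          intro l hl'
          rcases List.mem_append.1 hl' with h' | h'
          · exact (kWord_ok hκ).2 l h'
          · exact letOK_spec hl l h'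
        rw [hk, ← el_append, el, rep_wv, wv_sig_inv_apply pts_ok _ hall]
        have : ∀ (u v : List ℕ) (q : ℕ), pts.actW (u ++ v) q = pts.actW v (pts.actW u q) := by
          intro u v
          induction u with
          | nil => intro q; rfl
          | cons a u ih => intro q; exact ih _
        rw [this, kWord_fix κ hκ, ha]
      have h2 : p.2 = p'.2 := Fin.ext (by rw [← key p.1 p.2, ← key p'.1 p'.2]; simp only at e; rw [e])
      simp only [h2, mul_right_cancel_iff] at e
      exact Prod.ext (Subtype.ext e) h2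
    · obtain ⟨κ, hκ, i, hi, rfl⟩ := decomp h
      exact ⟨(⟨el κ, mem_kH.2 (kWord_comm κ hκ)⟩, ⟨i, hi⟩), rfl⟩
  have := Nat.card_eq_of_bijective _ hb
  rw [Nat.card_prod, Nat.card_fin, card_H0] at this
  omega

theorem el_kH_psi {κ : List ℕ} (hκ : kWord κ = true) : psi (el κ) ∈ centC := by
  rw [psi_el (kWord_ok hκ).2]
  exact mem_centC (kWord_ok hκ).1

theorem kH_centC {h : H0} (hh : h ∈ kH) : psi h ∈ centC := by
  obtain ⟨κ, hκ, rfl⟩ := kH_word hh
  exact el_kH_psi hκ

/-- `a` is central in the group of words without `b`. -/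
theorem centC_comm {x : Cfsg.Spor.Th} (hx : x ∈ centC) : g11 0 * x = x * g11 0 := by
  obtain ⟨w, hw, rfl⟩ := hx
  induction w with
  | nil => rw [wv_nil, mul_one, one_mul]
  | cons l w ih =>
    simp only [okSide, cond_true, List.all_cons, Bool.and_eq_true, Nat.blt_eq, Bool.not_eq_true'] at hw
    have h := allLo_spec acomm_ok.1 hw.1.1
    rw [hw.1.2, Bool.false_or] at h
    have e := eqS_eq h
    simp only [wv_cons, wv_nil, mul_one] at e
    rw [wv_cons, ← mul_assoc, e, mul_assoc, ih (by simpa [okSide] using hw.2), ← mul_assoc]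

/-- Elements of both groups commute with `a`. -/
theorem range_inter {h : H0} (hinj : Function.Injective psi) (hh : psi h ∈ centC) : h ∈ kH := by
  refine mem_kH.2 (hinj ?_)
  rw [map_mul, map_mul, psi_el (w := [0]) (by simp), wv_singleton]
  exact centC_comm hh

theorem form_mul {x : Cfsg.Spor.Th} (hx : x ∈ centC) :
    ∃ k : kH, ∃ j : Fin 120, x = psi k * tauC j := by
  obtain ⟨w, hw, rfl⟩ := hx
  obtain ⟨q, hq, r, hr, j, hj, e⟩ := form w hw
  refine ⟨⟨el (qW q ++ rW r), mem_kH.2 (kWord_comm _ (kWord_qr hq hr))⟩, ⟨j, hj⟩, ?_⟩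
  rw [e, wv_append, (wv_tauW hj).1, psi_el (kWord_ok (kWord_qr hq hr)).2]

/-- **The order of the group of words without `b`.** -/
theorem card_centC (hinj : Function.Injective psi) : Nat.card centC = 92897280 := by
  have hmem : ∀ p : kH × Fin 120, psi p.1 * tauC p.2 ∈ centC := fun p =>
    mul_mem (kH_centC p.1.2) ((wv_tauW p.2.2).1 ▸ mem_centC (wv_tauW p.2.2).2)
  have hb : Function.Bijective (fun p : kH × Fin 120 => (⟨_, hmem p⟩ : centC)) := by
    refine ⟨fun p p' e => ?_, fun x => ?_⟩
    · have e : psi p.1 * tauC p.2 = psi p'.1 * tauC p'.2 := congrArg Subtype.val e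
      have h2 : p.2 = p'.2 := Fin.ext (tauC_inj p.2.2 p'.2.2 (h := (p.1 : H0)⁻¹ * p'.1)
        (by rw [map_mul, map_inv, mul_assoc, ← e, inv_mul_cancel_left]))
      rw [h2] at e
      exact Prod.ext (Subtype.ext (hinj (mul_right_cancel e))) h2
    · obtain ⟨k, j, e⟩ := form_mul x.2
      exact ⟨(k, j), Subtype.ext e.symm⟩
  rw [← Nat.card_eq_of_bijective _ hb, Nat.card_prod, Nat.card_fin, card_kH]

end

end Cfsg.Agent.ThOut
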