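import Cfsg.Agent.Lib.ThOut.CardC
import Cfsg.Agent.Lib.Th.Graph.Index
import Cfsg.Agent.Lib.Th.Final

/-!
The centraliser of `a` in the Thompson group consists of the words without `b`: for each double coset of the
cover, the conjugate of `a` by the representative lies outside the group of `a, b, c, d, e, s, t`, or is not
conjugate to `a` in it.
-/

set_option autoImplicit false
set_option maxRecDepth 100000
set_option Elab.async false

namespace Cfsg.Agent.ThOut

open Cfsg.Agent.HN Cfsg.Agent.ThRep Cfsg.Agent.Th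

noncomputable section

/-- The words of the representatives. -/
def pathW (m : ℕ) : List ℕ :=
  ([[], [], [10, 3, 10], [10], [10, 4, 1, 2, 3, 2, 1], [10, 4, 1, 2, 3, 2, 1, 5, 5, 3, 10], [10, 3, 10, 3, 4, 1, 2, 3, 2, 0, 1], [10, 4, 1, 2, 3, 2, 1, 5, 5, 3, 10, 1, 2, 3, 1, 2, 0, 1], [10, 3, 10, 1], [10, 3, 10, 1, 10, 3, 10], [10, 4, 1, 2, 3, 2, 1, 5, 5, 3, 10, 1, 2, 3, 1, 2, 0, 1, 7, 6, 10], [10, 4, 1, 2, 3, 2, 1, 5, 5, 3, 10, 1, 2, 3, 1, 2, 0, 1, 4, 6, 10, 4, 3, 10], [10, 3, 10, 1, 10, 3, 10, 3, 4, 1, 2, 3, 2, 0, 1], [10, 4, 1, 2, 3, 2, 1, 5, 5, 3, 10, 1, 2, 3, 1, 2, 0, 1, 7, 6, 10, 3, 4, 1, 2, 3, 2, 1], [10, 3, 10, 3, 4, 1, 2, 3, 2, 0, 1, 10], [10, 4, 1, 2, 3, 2, 1, 5, 5, 3, 10, 1], [10, 3, 10, 1, 10, 3, 10, 6, 6, 4, 3, 2, 1], [10, 4, 1, 2, 3, 2, 1, 5, 5, 3, 10, 1, 2, 3, 1, 2, 0, 1, 7, 6, 10, 5, 4, 3, 2, 1], [10, 3, 10, 1, 10, 3, 10, 6, 6, 4, 3, 2, 1, 7, 6, 10, 3, 10], [10, 3, 10, 1, 10, 3, 10, 5, 4, 3, 2, 1], [10, 3, 10, 3, 4, 1, 2, 3, 2, 0, 1,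 6, 10], [10, 3, 10, 3, 4, 1, 2, 3, 2, 0, 1, 6, 10, 3, 4, 1, 2, 3, 2, 1], [10, 3, 10, 3, 4, 1, 2, 3, 2, 0, 1, 5, 10], [10, 4, 1, 2, 3, 2, 1, 5, 5, 3, 10, 1, 2, 3, 1, 2, 0, 1, 7, 6, 10, 4, 2, 3, 1, 2, 0, 1]] : List (List ℕ)).getD m []

theorem path_ok : allLo (fun m =>
    bif Nat.blt (Graph.dd.defs.getD m (0, 0)).1 m then
      eqW (pathW m) (pathW (Graph.dd.defs.getD m (0, 0)).1 ++ unp (Graph.dd.defs.getD m (0, 0)).2)
    else eqW (pathW m) []) 24 = true := by decide +kernel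

theorem node_path : ∀ m < 24, Graph.dd.node m = wv g11 (pathW m) := by
  intro m
  induction m using Nat.strongRecOn with
  | _ m ih =>
    intro hm
    have h := allLo_spec path_ok hm
    cases hb : Nat.blt (Graph.dd.defs.getD m (0, 0)).1 m with
    | true =>
      rw [hb, cond_true] at h
      rw [Nat.blt_eq] at hb
      rw [DData.node, dif_pos hb, ih _ hb (hb.trans hm), ← wv_append, eq_of_eqW h]
    | false =>
      rw [hb, cond_false] at h
      rw [node_root hb, eq_of_eqW h, wv_nil]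

/-- The conjugate of `a` by a representative. -/
def conjW (m : ℕ) : List ℕ := pathW m ++ [0] ++ winv iv11 (pathW m)

theorem outside_ok : allLo (fun m => Nat.beq m 1 || Nat.beq m 4 || !(Graph.dd.side m) ||
    !(Nat.beq (cosKey (conjW m)) (cosKey []))) 24 = true ∧ pathW 1 = [] ∧
    Graph.dd.sides.length = 24 := by decide +kernel

/-- The conjugate at node 4 as a word in the group of `a, b, c, d, e, s, t`. -/
def fourW : List ℕ := [3, 2, 3, 4, 1, 0, 2, 1, 3, 2, 3]

theorem four_eq : Nat.beq (runV one (conjW 4)) (runV one fourW) = true := by decide +kernel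

theorem four_ok : allLo (fun i => !(eqH fourW (winv iv9 (omW i) ++ [0] ++ omW i))) 819 = true := by
  decide +kernel

theorem el_winv11 {w : List ℕ} (hw : ∀ l ∈ w, l < 9) : winv iv11 w = winv iv9 w := by
  simp only [winv]
  congr 1
  refine List.map_congr_left fun l hl => ?_
  have := hw l hl
  interval_cases l <;> rfl

/-- **The centraliser of `a`.** -/
theorem mem_centC_of_comm {g : Cfsg.Spor.Th} (hg : g11 0 * g = g * g11 0) : g ∈ centC := by
  obtain ⟨x, y, m, hm, hs, e⟩ := Graph.covered.all g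
  obtain ⟨wy, hwy, rfl⟩ := exists_word y
  have hside : okSide (Graph.dd.side m) wy = true := by
    rw [hs]; simpa [okSide, letOK, Nat.blt_eq] using hwy
  obtain ⟨x', j, v, ⟨hj, hjs⟩, hv, e'⟩ := Graph.covered.cross m hm wy hside
  rw [hs, Bool.not_false] at hjs hv
  rw [psi_el hwy, mul_assoc, e', ← mul_assoc, ← mul_assoc, ← map_mul] at e
  have hv' := centC_comm (mem_centC hv)
  obtain ⟨κ, hκ, i, hi, hh⟩ := decomp (x * x')
  rw [outside_ok.2.2] at hj
  rw [node_path j hj] at e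
  have hω : ∀ l ∈ omW i, l < 9 := by
    have h := om_ok hi
    simp only [omOK, Bool.and_eq_true] at h
    exact letOK_spec h.1.1.1
  have ha : psi (el [0]) = g11 0 := by rw [psi_el (w := [0]) (by simp), wv_singleton]
  have hka : psi (el κ) * g11 0 = g11 0 * psi (el κ) := by
    rw [← ha, ← map_mul, ← map_mul, kWord_comm κ hκ]
  have key : psi (x * x') * wv g11 (pathW j) * g11 0 =
      g11 0 * (psi (x * x') * wv g11 (pathW j)) := by
    rw [e] at hg
    refine mul_right_cancel (b := wv g11 v) ?_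
    rw [mul_assoc _ (g11 0) (wv g11 v), hv', ← mul_assoc, mul_assoc (g11 0), hg]
  have hw0 : ∀ l ∈ winv iv11 (omW i) ++ [0] ++ omW i, l < 9 := by
    intro l hl
    simp only [winv, List.mem_append, List.mem_map, List.mem_reverse, List.mem_singleton] at hl
    rcases hl with (⟨n, hn, rfl⟩ | rfl) | hl
    · have := hω n hn
      interval_cases n <;> decide
    · decide
    · exact hω l hl
  have hconj : wv g11 (conjW j) = psi (el (winv iv11 (omW i) ++ [0] ++ omW i)) := by
    rw [el_winv11 hω, el_append, el_append, el_winv, map_mul, map_mul, map_inv, ha,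
      conjW, wv_append, wv_append, wv_winv g11 g11_inv, wv_singleton]
    rw [hh, map_mul] at key
    calc wv g11 (pathW j) * g11 0 * (wv g11 (pathW j))⁻¹
        = (psi (el (omW i)))⁻¹ * (psi (el κ))⁻¹ *
            (psi (el κ) * psi (el (omW i)) * wv g11 (pathW j) * g11 0) * (wv g11 (pathW j))⁻¹ := by group
      _ = (psi (el (omW i)))⁻¹ * (psi (el κ))⁻¹ * (g11 0 * psi (el κ)) * psi (el (omW i)) := by
          rw [key]; group
      _ = _ := by rw [← hka]; group
  by_cases h1 : j = 1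
  · subst h1
    rw [outside_ok.2.1, wv_nil, mul_one] at e key
    rw [e]
    refine mul_mem (kH_centC (mem_kH.2 (psi_injective ?_))) (mem_centC hv)
    rw [map_mul psi (el [0]), map_mul psi (x * x') (el [0]), ha]
    exact key.symm
  exfalso
  by_cases h4 : j = 4
  · subst h4
    have h := allLo_spec four_ok hi
    rw [Bool.not_eq_true', ← el_winv11 hω] at h
    have hf9 : ∀ l ∈ fourW, l < 9 := by decide
    rw [eqH_of_el hf9 hw0 (psi_injective ?_)] at h
    · exact Bool.noConfusion h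
    rw [psi_el hf9, ← hconj]
    exact (eq_of_runV hom_injective four_eq).symm
  have h := allLo_spec outside_ok.1 hj
  simp only [Bool.or_eq_true, Nat.beq_eq, Bool.not_eq_true', h1, h4, hjs, Bool.true_eq_false, false_or] at h
  exact not_mem_range h ⟨_, hconj.symm⟩

end

end Cfsg.Agent.ThOut
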