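import Cfsg.Agent.Lib.HN.Word

/-! Lists for a Sylow 2-subgroup of the centraliser of a and its involutions. -/

set_option autoImplicit false
set_option maxRecDepth 100000

namespace Cfsg.Agent.ThOut.FusData

open Cfsg.Agent.HN

noncomputable section

/-- words for six elements of the Sylow 2-subgroup -/
def pgens : List (List ℕ) := [[3], [4, 3, 9, 3, 4], [5, 4, 3, 6, 4, 6], [4, 3, 5, 4, 3, 5, 4], [4, 3, 5, 8, 9, 3, 6, 4], [7, 6, 9, 3, 6, 9, 5, 8]]

/-- representatives of the classes of involutions modulo the normal subgroup -/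
def reps : List (List ℕ) := [[], [3], [4, 3, 9, 3, 4]]

/-- part of the sequences of generators -/
def pseq0 : Trie :=
  (.node (.node (.node (.node (.node (.node (.leaf 0x0) (.leaf 0x631)) (.node (.leaf 0x43) (.leaf 0x653))) (.node (.node (.leaf 0x31) (.leaf 0x542)) (.node (.leaf 0x46) (.leaf 0x246)))) (.node (.node (.node (.leaf 0x4) (.leaf 0x461)) (.node (.leaf 0x54) (.leaf 0x654))) (.node (.node (.leaf 0x32) (.leaf 0x462)) (.node (.leaf 0x521) (.leaf 0x6321))))) (.node (.node (.node (.node (.leaf 0x2) (.leaf 0x641)) (.node (.leaf 0x63) (.leaf 0x524))) (.node (.node (.leaf 0x51) (.leaf 0x452)) (.node (.leaf 0x321) (.leaf 0x456)))) (.node (.node (.node (.leaf 0x6) (.leaf 0x532)) (.node (.leaf 0x45) (.leaf 0x245))) (.node (.node (.leaf 0x52) (.leaf 0x543)) (.node (.leaf 0x431) (.leaf 0x5462)))))) (.node (.node (.node (.node (.node (.leaf 0x1) (.leaf 0x241)) (.node (.leaf 0x53) (.leaf 0x563))) (.node (.node (.leaf 0x41) (.leaf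 0x642)) (.node (.leaf 0x56) (.leaf 0x546)))) (.node (.node (.node (.leaf 0x5) (.leaf 0x561)) (.node (.leaf 0x64) (.leaf 0x564))) (.node (.node (.leaf 0x42) (.leaf 0x562)) (.node (.leaf 0x621) (.leaf 0x5641))))) (.node (.node (.node (.node (.leaf 0x3) (.leaf 0x651)) (.node (.leaf 0x24) (.leaf 0x624))) (.node (.node (.leaf 0x61) (.leaf 0x652)) (.node (.leaf 0x421) (.leaf 0x656)))) (.node (.node (.node (.leaf 0x21) (.leaf 0x632)) (.node (.leaf 0x65) (.leaf 0x645))) (.node (.node (.leaf 0x62) (.leaf 0x453)) (.node (.leaf 0x531) (.leaf 0x4562)))))))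

/-- the sequences of generators -/
def pseq : Trie :=
  pseq0

/-- part of the steps -/
def pstep0 : Trie :=
  (.node (.node (.node (.node (.node (.node (.leaf 0x900000800000700000600000500000400000300000200000100189c00380c001000000c0000080c000400001800001400001000000c00000800000400) (.leaf 0x80d90081880081110080e200818400800c00812c008161008001002000005d42008816002c5700f1230048120021cc00ad74008816002c5700f19d004812)) (.node (.leaf 0x40030040050040020041fe00400800400400400900400700400100612700a80c000c00001000006c0c0078000061f500b800000c00001000006c00007800) (.leaf 0xc10400c0bf00c0c400c15b00c15d00c00c00c13a00c15c00c0010044000074c700f94800b54800951d005dca004496002d8e00f94800b54800958e005dca))) (.node (.node (.leaf 0x20080020090021fe0020020020030020040020050020060020010081ca00ecc300780000040000680c000c00008000007c00007800000400006800000c00) (.leaf 0xa10500a1a800a10d00a1a200a16600a00400a10a00a13400a00100d4d400340000700000a80000bc0000d80000d4c100780c00700000a80000bc0c00d800))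 (.node (.leaf 0x61610060e200612f0061880060da00600c0061110060d90060010041f400dd7a00180000549900e00400903100412700e40000180000549900e000009031) (.leaf 0xe13200e18600e13800e12a00e12b00e00c00e1b500e0ce00e001006c4300e40000f0d200ccfe00600000a514006c4600dcfa00f0d200ccfe00600400a514)))) (.node (.node (.node (.leaf 0x10060010020010050010090010070010040011fe00100800100100545100c80c000000004000004c0c002400005400005000000000004000004c00002400) (.leaf 0x912c00918200915e0090e400918900900c0090e000910700900100782c00d0fa002c0000889300a47600602a00799200e82a002c0000889300a43600602a)) (.node (.leaf 0x50d300512900516c00516a0050ea00500400516400510b00500100d1cb00100000280000580000c80c00b80000d000004c0000280000580000c80000b800) (.leaf 0xd15a00d13a00d16000d0bb00d10000d00c00d0bf00d0d800d00100500000a54c005c9900dc9600e97500f8480051ce0090fa005c9900dc9600e8f000f848))) (.node (.node (.leaf 0x31020031100031a600316200313000300400310f0031a3003001009c3a004400008400000800000c00006800009c00009800008400000800000c0c006800)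 (.leaf 0xb18600b12d00b1a100b0bd00b1b500b00c00b12b00b13100b00100842d00f5de003c0000a5f70089de00cc9300851600f800003c0000a5f70089fb00cc93)) (.node (.leaf 0x71a200713400716600710500710d0070040070db0071a800700100c527001c0000a00000380000280000ed5600c4fe00040c00a00000380000280c00ed56) (.leaf 0xf13100f0bd00f12b00f12d00f13500f00c00f1a400f18600f00100680000acc300e0d200741c00819d009c500069ee005d1400e0d200741c008123009c50))))) (.node (.node (.node (.node (.leaf 0x8e10009a600091000090f0009a3000804000962000930000801003c41001400003400003000000000001c00003c0000380000340000300000000c001c00) (.leaf 0x88e20089610089840088d900891100880c0088e400898800880100240000f9fa00803500909a00b1fa00543b00247e00f40000803500909a00b1df00543b)) (.node (.leaf 0x49070048e40048e00049820048e600480c00496100492c004801000c00008d4800541f00187e009d9d008019000c9c00c40000541f00187e009d23008019) (.leaf 0xc9a800c90500c8db00c93400c90a00c80400c96600c9a200c80100e81b004c0000980000d80000500000a80000e97b00100c00980000d80000500c00a800)))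 (.node (.node (.leaf 0x296a00290b0028ea0028d300296c0028040028bc002929002801008c5000040000500000140000700c007c00008c00001c00005000001400007000007c00) (.leaf 0xa8db00a90d00a9a800a90a00a93400a80400a9a200a96600a80100f4c6006c0000380000a00000b80000c80000f4d500400c00380000a00000b80c00c800)) (.node (.leaf 0x69a60068e10069020069300069620068040069a300690f00680100f1f0007c00004c00001c0000200000300000f00000ed56004c00001c0000200c003000) (.leaf 0xe8de00e8df00e90800e93700e98700e80c00e96900e8e700e80100c97b00903100640000e40000d0f000f49700c82800a51400640000e40000d17500f497)))) (.node (.node (.node (.leaf 0x19880018d90018da00196100192f00180c0019820018e200180100000000b4f4006000004875003cf4002c310000a0006400006000004875003d79002c31) (.leaf 0x99340099a200990a0099a80098db00980400990d00990500980100954b00300000c80000ed56004400003800009547000c0c00c80000ed5600440c003800)) (.node (.leaf 0x58bc00596c00592900596400590b00580400596a0058ea00580100ddce00240000140000500000d80c00bc0000dc0000840000140000500000d80000bc00)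 (.leaf 0xd90d00d8db00d90500d96600d9a200d80400d93400d90a00d80100e42700840000ed5600c80000580000a00000e59c00240c00ed5600c80000580c00a000))) (.node (.node (.leaf 0x390a0039660039340038db0039a800380400390500390d00380100ac1900080000a80000700000140000980000ac0000000c00a80000700000140c009800) (.leaf 0xb96c00b8bc00b8d300b8ea00b96a00b80400b90b00b96400b80100f81c004000007c0000bc0000a80c00500000f999006c00007c0000bc0000a800005000)) (.node (.leaf 0x78020078060078030078080079fe00780400780700780900780100919200a00c00200000240000340c00400000903f00bc00002000002400003400004000) (.leaf 0xf96000f95c00f95d00f90000f8bb00f80c00f8d800f8bf00f80100b99900b00000c14800fc0000f5de00d03b00b82f0089fb00c14800fc0000f5fb00d03b)))))) (.node (.node (.node (.node (.node (.leaf 0x4070005fe000409000405000406000404000402000403000401002dcc00700c002400002000001c0c000000002c00002800002400002000001c00000000) (.leaf 0x85620085a30085300085020085a60084040084e100851000840100b116005800003000003400002400004c0000b04600d80000300000340000240c004c00))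 (.node (.leaf 0x450b00456a0045640045290044bc00440400456c0044d300440100c092000c0000bc00007c0000980c00140000c00000300000bc00007c00009800001400) (.leaf 0xc58700c56b00c53700c50800c4de00c40c00c4df00c58b00c4010070fe00480000f41d00ad92008d4800647e007127009d2300f41d00ad92008cc200647e))) (.node (.node (.leaf 0x24050024030024060024070024090024040024080025fe00240100887500d80c00040000780000840c001000008800005800000400007800008400001000) (.leaf 0xa53800a5a400a53200a52800a52a00a40c00a4bd00a5b400a40100340000e914009dfd00b1f600901d00e11400341c00d14c009dfd00b1f600908300e114)) (.node (.leaf 0x65370064e70065870064de00650800640c00658b0064df00640100ec3100180000e80000943100b4f400c47500ec00003d7900e80000943100b57900c475) (.leaf 0xe58b00e50800e4df00e56900e4e700e40c00e53700e58700e40100d99c00600000943100e80000dd7a00d49900d81400e00000943100e80000dcfa00d499)))) (.node (.node (.node (.leaf 0x15640014ea00150b0014bc0015290014040014d300156c001401005c4a00000000580000280000380c004400005c00000800005800002800003800004400)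 (.leaf 0x956b0095870094e700958a0094e900940c0094e5009501009401009947002c0000e42a00642a00c18e00ac3300994b0074f400e42a00642a00c11d00ac33)) (.node (.leaf 0x558200552c0054e60055070054e000540c0055880054e400540100100000fd740048440060a300ccfa00884800105700d4000048440060a300cd7a008848) (.leaf 0xd4e900d4de00d58a00d4e700d56b00d40c00d58500d53900d40100a0c100540000adaf00f44800fd7400e4a300a0d400cd7a00adaf00f44800fced00e4a3))) (.node (.node (.leaf 0x350f0035300035a30034e10035100034040035020035a600340100a42f00bc00000800008400007800006c0000a40000a00000080000840000780c006c00) (.leaf 0xb4d800b4bb00b4bf00b53a00b55c00b40c00b56000b55d00b401007db3003c0000fc0000c148006579008c47007d420018f400fc0000c1480064f4008c47)) (.node (.leaf 0x75b40075280074ce0075a400758300740c00752d007538007401001c000094f400cc3200f02f002cf4003c96001df000c0c700cc3200f02f002d79003c96) (.leaf 0xf50800f58a00f4de00f58700f53700f40c00f4eb00f56900f40100a8d500880000c43600d43b00f9fa00e89b00a8c600b1df00c43600d43b00f9df00e89b)))))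 (.node (.node (.node (.node (.leaf 0xdfe000c07000c08000c03000c02000c04000c06000c05000c010048a000980c00400000000000300c002000004800004400004000000000003000002000) (.leaf 0x8cbf008d04008cdc008d5c008d3b008c0c008d5a008d5b008c01002800009cf500dc9a005c9d00c4c200b43400284a00494800dc9a005c9d00c54800b434)) (.node (.leaf 0x4d30004d0f004d62004da6004d02004c04004d10004ce1004c0100cc14005000006800006c0000100000840000cc0000c800006800006c0000100c008400) (.leaf 0xcda400cd3800cd8300cdb400ccce00cc0c00cd3100cd2800cc01004c0000d57a00743900e0fe00557a00b09a004c2700fc9a00743900e0fe0054fa00b09a))) (.node (.node (.leaf 0x2ce4002d07002d89002d2c002d5e002c0c002ce2002d82002c0100040000c18e00900000805100757900182a0005ca0094000090000080510074f400182a) (.leaf 0xaceb00ad3900ad6b00acdf00ad8a00ac0c00ad0100ace500ac0100380000817400d5af00c592005d7b00944000381200f0c300d5af00c592005cfc009440)) (.node (.leaf 0x6da3006d62006d0f006d10006ce1006c04006da6006d02006c0100e02d00b800001c00004c0000400000340000e01800a800001c00004c0000400c003400)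 (.leaf 0xed6800ed0a00eda000ed0d00ed0500ec0400eda900ecdb00ec0100640000695600d956009956007d5600715600642a0020c300d956009956007cc3007156)))) (.node (.node (.node (.leaf 0x1d10001d02001ce1001da3001d0f001c04001d30001d62001c010075ee002800006c00006800000400000800007400007000006c0000680000040c000800) (.leaf 0x9d28009db4009d2a009d38009d32009c0c009d86009da4009c0100300000c52300a5fc003c1400492300f04a003041008cf500a5fc003c1400499d00f04a)) (.node (.leaf 0x5cbb005cd8005d00005d5a005d60005c0c005d5c005d3a005c0100140000f11400d0a3008ca400acfc00c1cc00145000814200d0a3008ca400ad7b00c1cc) (.leaf 0xdd5c00dd5b00dd3b00dcbf00dcdc00dc0c00dcbb00dd0400dc0100580000e0fa008c9300d09200e4fa00fdae0059cb00617a008c9300d09200e57a00fdae))) (.node (.node (.leaf 0x3cbd003d31003db5003d86003da1003c0c003d38003d2d003c0100080000657900b000009c2700197900749200083a00b40000b000009c270018f4007492) (.leaf 0xbd2900bcd300bcbc00bd0b00bd6400bc0400bcea00bd6a00bc0100fc5200780000440000b80000a00c00580000fcfc00340000440000b80000a000005800))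 (.node (.leaf 0x7cea007d64007d6a007d6c007cd3007c04007d29007cbc007c0100b54200200000b80000440000ecc300280000b5b300680000b80000440000ed56002800) (.leaf 0xfd3a00fd5d00fd5c00fcd800fcbf00fc0c00fd0000fcbb00fc0100bcfc00cc9300b40000f80000d4ed00ddae00bc5d00557400b40000f80000d57400ddae)))))))

/-- the steps -/
def pstep : Trie :=
  pstep0

/-- part of conjugations to the representatives -/
def pwit0 : Trie :=
  (.node (.node (.node (.node (.node (.node (.leaf 0x1) (.leaf 0x9754b750f021)) (.node (.leaf 0x56500011) (.leaf 0x577590e521))) (.node (.node (.leaf 0x565800011) (.leaf 0x0)) (.node (.leaf 0x0) (.leaf 0x0)))) (.node (.node (.node (.leaf 0x57500011) (.leaf 0x0)) (.node (.leaf 0x0) (.leaf 0x0))) (.node (.node (.leaf 0x56b75817011) (.leaf 0x0)) (.node (.leaf 0x0) (.leaf 0x77b45b61fc11))))) (.node (.node (.node (.node (.leaf 0x21) (.leaf 0x0)) (.node (.leaf 0x754b4b70ee11) (.leaf 0x0))) (.node (.node (.leaf 0x0) (.leaf 0x0)) (.node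 (.leaf 0x547547500021) (.leaf 0x5658b0de11)))) (.node (.node (.node (.leaf 0x7b66b00b11) (.leaf 0x0)) (.node (.leaf 0x0) (.leaf 0x0))) (.node (.node (.leaf 0x0) (.leaf 0x0)) (.node (.leaf 0x575800011) (.leaf 0x56b6650c611)))))) (.node (.node (.node (.node (.node (.leaf 0x11) (.leaf 0x0)) (.node (.leaf 0x0) (.leaf 0x5787541c221))) (.node (.node (.leaf 0x565900011) (.leaf 0x0)) (.node (.leaf 0x0) (.leaf 0x0)))) (.node (.node (.node (.leaf 0x0) (.leaf 0x5787508521)) (.node (.leaf 0x0) (.leaf 0x5658b405811))) (.node (.node (.leaf 0x0) (.leaf 0x0)) (.node (.leaf 0x65861c021) (.leaf 0x0))))) (.node (.node (.node (.node (.leaf 0x575900011) (.leaf 0x57754916921)) (.node (.leaf 0x0) (.leaf 0x0))) (.node (.node (.leaf 0x7b61cf21) (.leaf 0x0)) (.node (.leaf 0x0) (.leaf 0x0)))) (.node (.node (.node (.leaf 0x78b4b702e11) (.leaf 0x566b75807b11)) (.node (.leaf 0x0) (.leaf 0x56b66540a611))) (.node (.node (.leaf 0x547548650a721) (.leaf 0x0))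 (.node (.leaf 0x0) (.leaf 0x0)))))))

/-- conjugations to the representatives -/
def pwit : Trie :=
  pwit0

/-- part of conjugates of the nine generators -/
def qconj0 : Trie :=
  (.node (.node (.node (.node (.leaf 0x90000800007000060000500004000030000200001) (.leaf 0xcb001b1000e8000e7001af00197000f70000200001)) (.node (.leaf 0x5001fe00008000070000400006000030000200001) (.leaf 0))) (.node (.node (.leaf 0x7001fe00009000050000600004000020000300001) (.leaf 0)) (.node (.leaf 0x800005001fe000070000900004000030000200001) (.leaf 0)))) (.node (.node (.node (.leaf 0x11000100000f0000e0000d0000c0000b0000200001) (.leaf 0xc6001b0000db000eb001ad00194000f40000200001)) (.node (.leaf 0x1fe0000700006000040000900005000030000200001) (.leaf 0))) (.node (.node (.leaf 0x1fe0000600005000080000700003000040000200001) (.leaf 0)) (.node (.leaf 0x50000900006001fe0000800004000030000200001) (.leaf 0)))))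

/-- conjugates of the nine generators -/
def qconj : Trie :=
  qconj0

/-- part of the order of the keys -/
def qord0 : Trie :=
  (.node (.node (.node (.node (.node (.node (.node (.leaf 0x2) (.leaf 0x1ad)) (.node (.leaf 0x1d) (.leaf 0x125))) (.node (.node (.leaf 0x9f) (.leaf 0x8a)) (.node (.leaf 0x94) (.leaf 0xd4)))) (.node (.node (.node (.leaf 0x1ff) (.leaf 0x17c)) (.node (.leaf 0xcd) (.leaf 0x97))) (.node (.node (.leaf 0x1c2) (.leaf 0x1f7)) (.node (.leaf 0xb0) (.leaf 0x10c))))) (.node (.node (.node (.node (.leaf 0x20) (.leaf 0xdd)) (.node (.leaf 0x37) (.leaf 0x18e))) (.node (.node (.leaf 0x14d) (.leaf 0x111)) (.node (.leaf 0xf2) (.leaf 0xb6)))) (.node (.node (.node (.leaf 0x1ec) (.leaf 0x108)) (.node (.leaf 0xd2) (.leaf 0xf6))) (.node (.node (.leaf 0x7) (.leaf 0x118)) (.node (.leaf 0x1e2) (.leaf 0x1a2)))))) (.node (.node (.node (.node (.node (.leaf 0x11c) (.leaf 0x1ef)) (.node (.leaf 0x1c) (.leaf 0x6a))) (.node (.node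 (.leaf 0x174) (.leaf 0x1bf)) (.node (.leaf 0x19c) (.leaf 0x136)))) (.node (.node (.node (.leaf 0x1c1) (.leaf 0x1e3)) (.node (.leaf 0x54) (.leaf 0x67))) (.node (.node (.leaf 0x1b7) (.leaf 0x1ae)) (.node (.leaf 0x1d7) (.leaf 0x2b))))) (.node (.node (.node (.node (.leaf 0x1fc) (.leaf 0x169)) (.node (.leaf 0x23) (.leaf 0x187))) (.node (.node (.leaf 0xb9) (.leaf 0x182)) (.node (.leaf 0xc3) (.leaf 0xff)))) (.node (.node (.node (.leaf 0x4d) (.leaf 0x14e)) (.node (.leaf 0x1f6) (.leaf 0x11b))) (.node (.node (.leaf 0x2f) (.leaf 0x193)) (.node (.leaf 0xb2) (.leaf 0x40))))))) (.node (.node (.node (.node (.node (.node (.leaf 0x13) (.leaf 0x7c)) (.node (.leaf 0x1e) (.leaf 0x1a4))) (.node (.node (.leaf 0x107) (.leaf 0x1c6)) (.node (.leaf 0x19d) (.leaf 0x188)))) (.node (.node (.node (.leaf 0xf7) (.leaf 0xe3)) (.node (.leaf 0xe0) (.leaf 0x1dd))) (.node (.node (.leaf 0x99) (.leaf 0x115)) (.node (.leaf 0x2d) (.leaf 0xc7))))) (.node (.node (.node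 (.node (.leaf 0x15) (.leaf 0x152)) (.node (.leaf 0x2a) (.leaf 0x77))) (.node (.node (.leaf 0x12e) (.leaf 0x109)) (.node (.leaf 0x1db) (.leaf 0x180)))) (.node (.node (.node (.leaf 0x53) (.leaf 0x163)) (.node (.leaf 0x86) (.leaf 0xcc))) (.node (.node (.leaf 0x43) (.leaf 0xdc)) (.node (.leaf 0xeb) (.leaf 0x191)))))) (.node (.node (.node (.node (.node (.leaf 0xb) (.leaf 0x61)) (.node (.leaf 0x29) (.leaf 0x25))) (.node (.node (.leaf 0x104) (.leaf 0x154)) (.node (.leaf 0x18c) (.leaf 0x1f4)))) (.node (.node (.node (.leaf 0x133) (.leaf 0x192)) (.node (.leaf 0x1bd) (.leaf 0xfc))) (.node (.node (.leaf 0x76) (.leaf 0x11e)) (.node (.leaf 0xc9) (.leaf 0xe8))))) (.node (.node (.node (.node (.leaf 0x197) (.leaf 0x16c)) (.node (.leaf 0x139) (.leaf 0x8d))) (.node (.node (.leaf 0x93) (.leaf 0x112)) (.node (.leaf 0x1f9) (.leaf 0x110)))) (.node (.node (.node (.leaf 0x1b) (.leaf 0xa3)) (.node (.leaf 0x1d0) (.leaf 0x79))) (.node (.node (.leaf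 0x24) (.leaf 0x1e7)) (.node (.leaf 0x1b6) (.leaf 0xc8))))))))

/-- part of the order of the keys -/
def qord2 : Trie :=
  (.node (.node (.node (.node (.node (.node (.node (.leaf 0x0) (.leaf 0x1f5)) (.node (.leaf 0x1eb) (.leaf 0x1ce))) (.node (.node (.leaf 0x16f) (.leaf 0x7f)) (.node (.leaf 0x159) (.leaf 0x1d4)))) (.node (.node (.node (.leaf 0x5) (.leaf 0x9d)) (.node (.leaf 0x57) (.leaf 0x1e9))) (.node (.node (.leaf 0x1b8) (.leaf 0xb4)) (.node (.leaf 0x121) (.leaf 0x1dc))))) (.node (.node (.node (.node (.leaf 0x14) (.leaf 0xa2)) (.node (.leaf 0x26) (.leaf 0xe2))) (.node (.node (.leaf 0x150) (.leaf 0x10e)) (.node (.leaf 0x13b) (.leaf 0x33)))) (.node (.node (.node (.leaf 0x4b) (.leaf 0x14c)) (.node (.leaf 0x46) (.leaf 0x170))) (.node (.node (.leaf 0x3c) (.leaf 0x96)) (.node (.leaf 0x1cd) (.leaf 0xdf)))))) (.node (.node (.node (.node (.node (.leaf 0x1be) (.leaf 0xbd)) (.node (.leaf 0x1f) (.leaf 0x151))) (.node (.node (.leaf 0x120)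 (.leaf 0x157)) (.node (.leaf 0xe5) (.leaf 0x89)))) (.node (.node (.node (.leaf 0x11f) (.leaf 0x6c)) (.node (.leaf 0xbf) (.leaf 0x5b))) (.node (.node (.leaf 0x153) (.leaf 0x47)) (.node (.leaf 0x72) (.leaf 0x1c9))))) (.node (.node (.node (.node (.leaf 0x27) (.leaf 0xab)) (.node (.leaf 0x51) (.leaf 0x78))) (.node (.node (.leaf 0x1cc) (.leaf 0x138)) (.node (.leaf 0x80) (.leaf 0x102)))) (.node (.node (.node (.leaf 0x1ed) (.leaf 0x11d)) (.node (.leaf 0x6b) (.leaf 0x198))) (.node (.node (.leaf 0x1a9) (.leaf 0x161)) (.node (.leaf 0x30) (.leaf 0xca))))))) (.node (.node (.node (.node (.node (.node (.leaf 0x50) (.leaf 0xa5)) (.node (.leaf 0x45) (.leaf 0x2c))) (.node (.node (.leaf 0x10a) (.leaf 0xa8)) (.node (.leaf 0x196) (.leaf 0x16a)))) (.node (.node (.node (.leaf 0x130) (.leaf 0x42)) (.node (.leaf 0x1f8) (.leaf 0xda))) (.node (.node (.leaf 0x9c) (.leaf 0x186)) (.node (.leaf 0xd7) (.leaf 0x1b1))))) (.node (.node (.node (.node (.leaf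 0x21) (.leaf 0xef)) (.node (.leaf 0x1a0) (.leaf 0x189))) (.node (.node (.leaf 0x14b) (.leaf 0x127)) (.node (.leaf 0x3f) (.leaf 0x38)))) (.node (.node (.node (.leaf 0x6f) (.leaf 0x13e)) (.node (.leaf 0x1b4) (.leaf 0x1a6))) (.node (.node (.leaf 0x1fe) (.leaf 0xc0)) (.node (.leaf 0x141) (.leaf 0x140)))))) (.node (.node (.node (.node (.node (.leaf 0x19) (.leaf 0x64)) (.node (.leaf 0x1d8) (.leaf 0x15b))) (.node (.node (.leaf 0xf4) (.leaf 0x146)) (.node (.leaf 0xd3) (.leaf 0x74)))) (.node (.node (.node (.leaf 0x62) (.leaf 0x184)) (.node (.leaf 0x16e) (.leaf 0x183))) (.node (.node (.leaf 0x35) (.leaf 0x12f)) (.node (.leaf 0x3a) (.leaf 0x13f))))) (.node (.node (.node (.node (.leaf 0xf) (.leaf 0x168)) (.node (.leaf 0x5d) (.leaf 0x1b3))) (.node (.node (.leaf 0xde) (.leaf 0xd6)) (.node (.leaf 0xbb) (.leaf 0x92)))) (.node (.node (.node (.leaf 0x5e) (.leaf 0xa0)) (.node (.leaf 0xe4) (.leaf 0x119))) (.node (.node (.leaf 0x12c) (.leaf 0x137))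 (.node (.leaf 0x177) (.leaf 0xf9))))))))

/-- part of the order of the keys -/
def qord1 : Trie :=
  (.node (.node (.node (.node (.node (.node (.node (.leaf 0xa) (.leaf 0x49)) (.node (.leaf 0x44) (.leaf 0x15f))) (.node (.node (.leaf 0x129) (.leaf 0x83)) (.node (.leaf 0x143) (.leaf 0x82)))) (.node (.node (.node (.leaf 0x11) (.leaf 0x160)) (.node (.leaf 0x90) (.leaf 0x1e5))) (.node (.node (.leaf 0x1b9) (.leaf 0xf8)) (.node (.leaf 0x167) (.leaf 0x158))))) (.node (.node (.node (.node (.leaf 0x4) (.leaf 0xdb)) (.node (.leaf 0x31) (.leaf 0xf5))) (.node (.node (.leaf 0x15a) (.leaf 0x117)) (.node (.leaf 0xa7) (.leaf 0x88)))) (.node (.node (.node (.leaf 0x6e) (.leaf 0x10d)) (.node (.leaf 0x1f1) (.leaf 0x73))) (.node (.node (.leaf 0x6) (.leaf 0x128)) (.node (.leaf 0x1e0) (.leaf 0xd9)))))) (.node (.node (.node (.node (.node (.leaf 0x162) (.leaf 0xc4)) (.node (.leaf 0x1c8) (.leaf 0x5f))) (.node (.node (.leaf 0x106) (.leaf 0x144)) (.node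 (.leaf 0xee) (.leaf 0x11a)))) (.node (.node (.node (.leaf 0x165) (.leaf 0x70)) (.node (.leaf 0xbc) (.leaf 0x1e4))) (.node (.node (.leaf 0x18d) (.leaf 0x1f2)) (.node (.leaf 0x95) (.leaf 0x19e))))) (.node (.node (.node (.node (.leaf 0x18) (.leaf 0x1c7)) (.node (.leaf 0x52) (.leaf 0x103))) (.node (.node (.leaf 0x1c3) (.leaf 0x16d)) (.node (.leaf 0x8e) (.leaf 0x155)))) (.node (.node (.node (.leaf 0x4e) (.leaf 0x101)) (.node (.leaf 0x1e8) (.leaf 0x84))) (.node (.node (.leaf 0x69) (.leaf 0x1ba)) (.node (.leaf 0xfa) (.leaf 0x7b))))))) (.node (.node (.node (.node (.node (.node (.leaf 0xc) (.leaf 0x1da)) (.node (.leaf 0x1fa) (.leaf 0xd5))) (.node (.node (.leaf 0x114) (.leaf 0x1ca)) (.node (.leaf 0xfb) (.leaf 0x142)))) (.node (.node (.node (.leaf 0x176) (.leaf 0x1b2)) (.node (.leaf 0xc1) (.leaf 0xcb))) (.node (.node (.leaf 0xa6) (.leaf 0x71)) (.node (.leaf 0x1f3) (.leaf 0xac))))) (.node (.node (.node (.node (.leaf 0x1a) (.leaf 0xf3))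 (.node (.leaf 0xe6) (.leaf 0x7e))) (.node (.node (.leaf 0x166) (.leaf 0x100)) (.node (.leaf 0x1b0) (.leaf 0x75)))) (.node (.node (.node (.leaf 0x58) (.leaf 0x135)) (.node (.leaf 0x1d6) (.leaf 0x1d1))) (.node (.node (.leaf 0x8) (.leaf 0x5a)) (.node (.leaf 0xa1) (.leaf 0x1af)))))) (.node (.node (.node (.node (.node (.leaf 0x1) (.leaf 0x59)) (.node (.leaf 0x1ab) (.leaf 0x19f))) (.node (.node (.leaf 0x194) (.leaf 0x12d)) (.node (.leaf 0x195) (.leaf 0x12b)))) (.node (.node (.node (.leaf 0x5c) (.leaf 0x17b)) (.node (.leaf 0x15e) (.leaf 0x13d))) (.node (.node (.leaf 0x7a) (.leaf 0xad)) (.node (.leaf 0xba) (.leaf 0x10f))))) (.node (.node (.node (.node (.leaf 0xe) (.leaf 0x1c4)) (.node (.leaf 0xb7) (.leaf 0xa4))) (.node (.node (.leaf 0x98) (.leaf 0x87)) (.node (.leaf 0xce) (.leaf 0x185)))) (.node (.node (.node (.leaf 0x63) (.leaf 0xa9)) (.node (.leaf 0x1a7) (.leaf 0x16b))) (.node (.node (.leaf 0x172) (.leaf 0xb5)) (.node (.leaf 0x131)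 (.leaf 0x8f))))))))

/-- part of the order of the keys -/
def qord3 : Trie :=
  (.node (.node (.node (.node (.node (.node (.node (.leaf 0x12) (.leaf 0xcf)) (.node (.leaf 0xb3) (.leaf 0x1a1))) (.node (.node (.leaf 0x18b) (.leaf 0xb8)) (.node (.leaf 0x1c5) (.leaf 0x1ac)))) (.node (.node (.node (.leaf 0x56) (.leaf 0xea)) (.node (.leaf 0xe9) (.leaf 0x1df))) (.node (.node (.leaf 0x1d2) (.leaf 0x134)) (.node (.leaf 0x85) (.leaf 0x1a8))))) (.node (.node (.node (.node (.leaf 0x16) (.leaf 0x14f)) (.node (.leaf 0x3d) (.leaf 0x1de))) (.node (.node (.leaf 0x132) (.leaf 0x173)) (.node (.leaf 0x181) (.leaf 0x13a)))) (.node (.node (.node (.leaf 0x28) (.leaf 0x147)) (.node (.leaf 0xd1) (.leaf 0x12a))) (.node (.node (.leaf 0x1fd) (.leaf 0xd8)) (.node (.leaf 0x1a5) (.leaf 0xec)))))) (.node (.node (.node (.node (.node (.leaf 0xae) (.leaf 0x34)) (.node (.leaf 0x36) (.leaf 0x10b))) (.node (.node (.leaf 0x105) (.leaf 0x15d)) (.node (.leaf 0x19a)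 (.leaf 0xc2)))) (.node (.node (.node (.leaf 0x179) (.leaf 0x65)) (.node (.leaf 0x190) (.leaf 0x22))) (.node (.node (.leaf 0x81) (.leaf 0x19b)) (.node (.leaf 0x48) (.leaf 0x8b))))) (.node (.node (.node (.node (.leaf 0xd) (.leaf 0x126)) (.node (.leaf 0x17f) (.leaf 0x39))) (.node (.node (.leaf 0xaf) (.leaf 0x13c)) (.node (.leaf 0x9e) (.leaf 0x148)))) (.node (.node (.node (.leaf 0x4f) (.leaf 0x1d3)) (.node (.leaf 0x60) (.leaf 0xed))) (.node (.node (.leaf 0xd0) (.leaf 0x171)) (.node (.leaf 0x18f) (.leaf 0x1a3))))))) (.node (.node (.node (.node (.node (.node (.leaf 0x4a) (.leaf 0x1e1)) (.node (.leaf 0xc5) (.leaf 0x1e6))) (.node (.node (.leaf 0x178) (.leaf 0x9a)) (.node (.leaf 0xfe) (.leaf 0x124)))) (.node (.node (.node (.leaf 0xb1) (.leaf 0x6d)) (.node (.leaf 0x1ea) (.leaf 0x1f0))) (.node (.node (.leaf 0x1bb) (.leaf 0x1d5)) (.node (.leaf 0x8c) (.leaf 0xe7))))) (.node (.node (.node (.node (.leaf 0x17) (.leaf 0x123)) (.node (.leaf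 0x1aa) (.leaf 0x113))) (.node (.node (.leaf 0x14a) (.leaf 0x17e)) (.node (.leaf 0x32) (.leaf 0x164)))) (.node (.node (.node (.leaf 0x4c) (.leaf 0x15c)) (.node (.leaf 0xbe) (.leaf 0x1ee))) (.node (.node (.leaf 0x9) (.leaf 0x41)) (.node (.leaf 0x149) (.leaf 0x1cb)))))) (.node (.node (.node (.node (.node (.leaf 0x3) (.leaf 0x9b)) (.node (.leaf 0x1fb) (.leaf 0x17a))) (.node (.node (.leaf 0x145) (.leaf 0x18a)) (.node (.leaf 0x1b5) (.leaf 0x1cf)))) (.node (.node (.node (.leaf 0x68) (.leaf 0x116)) (.node (.leaf 0x91) (.leaf 0xfd))) (.node (.node (.leaf 0x2e) (.leaf 0x175)) (.node (.leaf 0x66) (.leaf 0x199))))) (.node (.node (.node (.node (.leaf 0x10) (.leaf 0x122)) (.node (.leaf 0x3e) (.leaf 0xe1))) (.node (.node (.leaf 0x1bc) (.leaf 0x3b)) (.node (.leaf 0xf1) (.leaf 0x156)))) (.node (.node (.node (.leaf 0x55) (.leaf 0x1c0)) (.node (.leaf 0xc6) (.leaf 0x7d))) (.node (.node (.leaf 0xaa) (.leaf 0x17d)) (.node (.leaf 0x1d9) (.leaf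 0xf0))))))))

/-- the order of the keys -/
def qord : Trie :=
  (.node (.node qord0 qord2) (.node qord1 qord3))

/-- part of its inverse -/
def qpos0 : Trie :=
  (.node (.node (.node (.node (.node (.node (.node (.leaf 0x2) (.leaf 0x155)) (.node (.leaf 0xda) (.leaf 0x1d4))) (.node (.node (.leaf 0x1f8) (.leaf 0x1f6)) (.node (.leaf 0x176) (.leaf 0x13f)))) (.node (.node (.node (.leaf 0x10) (.leaf 0x4a)) (.node (.leaf 0x13e) (.leaf 0x96))) (.node (.node (.leaf 0xbb) (.leaf 0x121)) (.node (.leaf 0xa4) (.leaf 0xf1))))) (.node (.node (.node (.node (.leaf 0x1f) (.leaf 0x1dc)) (.node (.leaf 0xa1) (.leaf 0xab))) (.node (.node (.leaf 0x6) (.leaf 0x52)) (.node (.leaf 0x7b) (.leaf 0xbc)))) (.node (.node (.node (.leaf 0xfa) (.leaf 0x26)) (.node (.leaf 0xe0) (.leaf 0xd5))) (.node (.node (.leaf 0x129) (.leaf 0x1b2)) (.node (.leaf 0x1ff) (.leaf 0x1a7)))))) (.node (.node (.node (.node (.node (.leaf 0x75) (.leaf 0x130)) (.node (.leaf 0x1d1)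 (.leaf 0x1c4))) (.node (.node (.leaf 0xeb) (.leaf 0x1db)) (.node (.leaf 0x1fc) (.leaf 0x89)))) (.node (.node (.node (.leaf 0x33) (.leaf 0x171)) (.node (.leaf 0x146) (.leaf 0x1e3))) (.node (.node (.leaf 0x2f) (.leaf 0x11e)) (.node (.leaf 0x1ec) (.leaf 0xb9))))) (.node (.node (.node (.node (.leaf 0x19) (.leaf 0x170)) (.node (.leaf 0x5d) (.leaf 0x1ba))) (.node (.node (.leaf 0x35) (.leaf 0x1e1)) (.node (.leaf 0x173) (.leaf 0x8e)))) (.node (.node (.node (.leaf 0x1d6) (.leaf 0x15a)) (.node (.leaf 0x143) (.leaf 0x62))) (.node (.node (.leaf 0x19a) (.leaf 0x47)) (.node (.leaf 0x161) (.leaf 0xa6))))))) (.node (.node (.node (.node (.node (.node (.leaf 0x11) (.leaf 0x4c)) (.node (.leaf 0x1b9) (.leaf 0x12e))) (.node (.node (.leaf 0x81) (.leaf 0x149)) (.node (.leaf 0x109) (.leaf 0x11d)))) (.node (.node (.node (.leaf 0x7c) (.leaf 0x1c7)) (.node (.leaf 0x19d) (.leaf 0x184))) (.node (.node (.leaf 0x10e) (.leaf 0x1d7)) (.node (.leaf 0xbe)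 (.leaf 0x1a9))))) (.node (.node (.node (.node (.leaf 0x12) (.leaf 0x45)) (.node (.leaf 0xc0) (.leaf 0x4d))) (.node (.node (.leaf 0xa8) (.leaf 0x14c)) (.node (.leaf 0x1c0) (.leaf 0x1c2)))) (.node (.node (.node (.leaf 0x10b) (.leaf 0x163)) (.node (.leaf 0x162) (.leaf 0xb6))) (.node (.node (.leaf 0x1ce) (.leaf 0x48)) (.node (.leaf 0x4e) (.leaf 0x1cc)))))) (.node (.node (.node (.node (.node (.leaf 0x5) (.leaf 0x1e0)) (.node (.leaf 0xe7) (.leaf 0xcc))) (.node (.node (.leaf 0x37) (.leaf 0x132)) (.node (.leaf 0x1b4) (.leaf 0x5a)))) (.node (.node (.node (.leaf 0x186) (.leaf 0x7e)) (.node (.leaf 0x1e5) (.leaf 0x1c3))) (.node (.node (.leaf 0x12a) (.leaf 0x11c)) (.node (.leaf 0x1f3) (.leaf 0x30))))) (.node (.node (.node (.node (.leaf 0x88) (.leaf 0x8)) (.node (.leaf 0x66) (.leaf 0xc8))) (.node (.node (.leaf 0x2d) (.leaf 0x137)) (.node (.leaf 0x174) (.leaf 0x1e2)))) (.node (.node (.node (.leaf 0x72) (.leaf 0x15b)) (.node (.leaf 0xa9)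 (.leaf 0x5f))) (.node (.node (.leaf 0x104) (.leaf 0x120)) (.node (.leaf 0x1ac) (.leaf 0x18))))))))

/-- part of its inverse -/
def qpos2 : Trie :=
  (.node (.node (.node (.node (.node (.node (.node (.leaf 0x0) (.leaf 0x1da)) (.node (.leaf 0x1c1) (.leaf 0x158))) (.node (.node (.leaf 0x126) (.leaf 0x1c5)) (.node (.leaf 0x1cb) (.leaf 0x60)))) (.node (.node (.node (.leaf 0x1ab) (.leaf 0x11f)) (.node (.leaf 0x112) (.leaf 0x1f0))) (.node (.node (.leaf 0x2e) (.leaf 0x9)) (.node (.leaf 0x192) (.leaf 0xf0))))) (.node (.node (.node (.node (.leaf 0x3) (.leaf 0x15c)) (.node (.leaf 0x1de) (.leaf 0x12c))) (.node (.node (.leaf 0x99) (.leaf 0x114)) (.node (.leaf 0xb0) (.leaf 0x63)))) (.node (.node (.node (.leaf 0xd7) (.leaf 0x53)) (.node (.leaf 0xf8) (.leaf 0x125))) (.node (.node (.leaf 0xea) (.leaf 0x7d)) (.node (.leaf 0xd0) (.leaf 0x169)))))) (.node (.node (.node (.node (.node (.leaf 0x1) (.leaf 0x46)) (.node (.leaf 0x140) (.leaf 0x14f)))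 (.node (.node (.leaf 0x7) (.leaf 0x57)) (.node (.leaf 0x1fa) (.leaf 0x145)))) (.node (.node (.node (.leaf 0x94) (.leaf 0x1b3)) (.node (.leaf 0x7f) (.leaf 0x97))) (.node (.node (.leaf 0x188) (.leaf 0x1c6)) (.node (.leaf 0x123) (.leaf 0xa7))))) (.node (.node (.node (.node (.leaf 0x15) (.leaf 0x1c9)) (.node (.leaf 0x147) (.leaf 0xcb))) (.node (.node (.leaf 0x175) (.leaf 0x51)) (.node (.leaf 0x1a6) (.leaf 0x105)))) (.node (.node (.node (.leaf 0xee) (.leaf 0x1d3)) (.node (.leaf 0xed) (.leaf 0x179))) (.node (.node (.leaf 0x6d) (.leaf 0x18f)) (.node (.leaf 0xf9) (.leaf 0x85))))))) (.node (.node (.node (.node (.node (.node (.leaf 0x71) (.leaf 0x49)) (.node (.leaf 0xb4) (.leaf 0x166))) (.node (.node (.leaf 0xb2) (.leaf 0x14e)) (.node (.leaf 0xbf) (.leaf 0x144)))) (.node (.node (.node (.leaf 0x92) (.leaf 0x11b)) (.node (.leaf 0x65) (.leaf 0x1b6))) (.node (.node (.leaf 0xef) (.leaf 0x55)) (.node (.leaf 0x95) (.leaf 0x187))))) (.node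 (.node (.node (.node (.leaf 0x13) (.leaf 0x12f)) (.node (.leaf 0x172) (.leaf 0xc6))) (.node (.node (.leaf 0x23) (.leaf 0x1df)) (.node (.leaf 0x15e) (.leaf 0xb5)))) (.node (.node (.node (.leaf 0x8b) (.leaf 0x1c8)) (.node (.leaf 0x1d0) (.leaf 0xfc))) (.node (.node (.leaf 0x6c) (.leaf 0x25)) (.node (.leaf 0x1b0) (.leaf 0xb8)))))) (.node (.node (.node (.node (.node (.leaf 0x1d) (.leaf 0x152)) (.node (.leaf 0xd9) (.leaf 0x190))) (.node (.node (.leaf 0x39) (.leaf 0x138)) (.node (.leaf 0xdd) (.leaf 0x182)))) (.node (.node (.node (.leaf 0x6f) (.leaf 0x54)) (.node (.leaf 0xb) (.leaf 0x168))) (.node (.node (.leaf 0x31) (.leaf 0xae)) (.node (.leaf 0xc9) (.leaf 0x1b7))))) (.node (.node (.node (.node (.leaf 0x84) (.leaf 0x16c)) (.node (.leaf 0xdb) (.leaf 0x1e9))) (.node (.node (.leaf 0x3e) (.leaf 0xad)) (.node (.leaf 0x5e) (.leaf 0x193)))) (.node (.node (.node (.leaf 0x9f) (.leaf 0x136)) (.node (.leaf 0xb7) (.leaf 0xa))) (.node (.node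 (.leaf 0x195) (.leaf 0x157)) (.node (.leaf 0xc7) (.leaf 0x76))))))))

/-- part of its inverse -/
def qpos1 : Trie :=
  (.node (.node (.node (.node (.node (.node (.node (.leaf 0xd) (.leaf 0x139)) (.node (.leaf 0x6b) (.leaf 0xd3))) (.node (.node (.leaf 0x177) (.leaf 0xf6)) (.node (.leaf 0xa5) (.leaf 0x28)))) (.node (.node (.node (.leaf 0x16) (.leaf 0xe2)) (.node (.leaf 0xf5) (.leaf 0x183))) (.node (.node (.leaf 0x10c) (.leaf 0x17a)) (.node (.leaf 0x19f) (.leaf 0x107))))) (.node (.node (.node (.node (.leaf 0x21) (.leaf 0x150)) (.node (.leaf 0xaf) (.leaf 0x1f4))) (.node (.node (.leaf 0x9a) (.leaf 0x18a)) (.node (.leaf 0xb3) (.leaf 0x1b5)))) (.node (.node (.node (.leaf 0x91) (.leaf 0xfd)) (.node (.leaf 0x27) (.leaf 0x1e6))) (.node (.node (.leaf 0x165) (.leaf 0x17b)) (.node (.leaf 0xdf) (.leaf 0xb1)))))) (.node (.node (.node (.node (.node (.leaf 0x77) (.leaf 0x154)) (.node (.leaf 0x1ca) (.leaf 0x196))) (.node (.node (.leaf 0x101)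 (.leaf 0xf7)) (.node (.leaf 0xec) (.leaf 0x1ea)))) (.node (.node (.node (.leaf 0x8c) (.leaf 0x41)) (.node (.leaf 0x13d) (.leaf 0x7a))) (.node (.node (.leaf 0x79) (.leaf 0x118)) (.node (.leaf 0xa3) (.leaf 0x1a2))))) (.node (.node (.node (.node (.leaf 0xe) (.leaf 0x1be)) (.node (.leaf 0x64) (.leaf 0x1ef))) (.node (.node (.leaf 0x10d) (.leaf 0xc2)) (.node (.leaf 0x1f1) (.leaf 0xff)))) (.node (.node (.node (.leaf 0x19b) (.leaf 0x9c)) (.node (.leaf 0x58) (.leaf 0x61))) (.node (.node (.leaf 0x1bc) (.leaf 0x2b)) (.node (.leaf 0x1fe) (.leaf 0xdc))))))) (.node (.node (.node (.node (.node (.node (.leaf 0x22) (.leaf 0x4b)) (.node (.leaf 0xe3) (.leaf 0x1dd))) (.node (.node (.leaf 0x86) (.leaf 0x4f)) (.node (.leaf 0x87) (.leaf 0xc3)))) (.node (.node (.node (.leaf 0x18c) (.leaf 0x180)) (.node (.leaf 0x106) (.leaf 0xf3))) (.node (.node (.leaf 0x12b) (.leaf 0x29)) (.node (.leaf 0xca) (.leaf 0x1a1))))) (.node (.node (.node (.node (.leaf 0x14)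 (.leaf 0x164)) (.node (.leaf 0xe9) (.leaf 0xcd))) (.node (.node (.leaf 0x3f) (.leaf 0x1d9)) (.node (.leaf 0x185) (.leaf 0x167)))) (.node (.node (.node (.leaf 0x6e) (.leaf 0x135)) (.node (.leaf 0x17d) (.leaf 0xcf))) (.node (.node (.leaf 0x1d5) (.leaf 0x16f)) (.node (.leaf 0x191) (.leaf 0x102)))))) (.node (.node (.node (.node (.node (.leaf 0x1b) (.leaf 0x131)) (.node (.leaf 0x19c) (.leaf 0x69))) (.node (.node (.leaf 0x38) (.leaf 0x50)) (.node (.leaf 0xa0) (.leaf 0xf2)))) (.node (.node (.node (.leaf 0xe4) (.leaf 0x14d)) (.node (.leaf 0x16d) (.leaf 0x100))) (.node (.node (.leaf 0x127) (.leaf 0x159)) (.node (.leaf 0x1bb) (.leaf 0x3a))))) (.node (.node (.node (.node (.leaf 0x80) (.leaf 0x13a)) (.node (.leaf 0x122) (.leaf 0xc4))) (.node (.node (.leaf 0x9e) (.leaf 0x14b)) (.node (.leaf 0x110) (.leaf 0x1a4)))) (.node (.node (.node (.leaf 0x93) (.leaf 0x1ad)) (.node (.leaf 0x10a) (.leaf 0xac))) (.node (.node (.leaf 0x1bf) (.leaf 0x17f))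 (.node (.leaf 0x1af) (.leaf 0x73))))))))

/-- part of its inverse -/
def qpos3 : Trie :=
  (.node (.node (.node (.node (.node (.node (.node (.leaf 0xf) (.leaf 0x199)) (.node (.leaf 0x141) (.leaf 0x1ae))) (.node (.node (.leaf 0x74) (.leaf 0xc1)) (.node (.leaf 0xd8) (.leaf 0x59)))) (.node (.node (.node (.leaf 0x98) (.leaf 0x117)) (.node (.leaf 0x13c) (.leaf 0x1fb))) (.node (.node (.leaf 0x3d) (.leaf 0x134)) (.node (.leaf 0x124) (.leaf 0x128))))) (.node (.node (.node (.node (.leaf 0x4) (.leaf 0x197)) (.node (.leaf 0x5c) (.leaf 0x178))) (.node (.node (.leaf 0x34) (.leaf 0x6a)) (.node (.leaf 0xce) (.leaf 0x13b)))) (.node (.node (.node (.leaf 0x1d2) (.leaf 0x2c)) (.node (.leaf 0x83) (.leaf 0x19e))) (.node (.node (.leaf 0x1b1) (.leaf 0x153)) (.node (.leaf 0x115) (.leaf 0xe5)))))) (.node (.node (.node (.node (.node (.leaf 0xc) (.leaf 0x18b)) (.node (.leaf 0x1eb) (.leaf 0x43))) (.node (.node (.leaf 0x32) (.leaf 0x56)) (.node (.leaf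 0x1a5) (.leaf 0x1f7)))) (.node (.node (.node (.leaf 0x1e8) (.leaf 0x1cd)) (.node (.leaf 0x11a) (.leaf 0x8d))) (.node (.node (.leaf 0xba) (.leaf 0x1bd)) (.node (.leaf 0xf4) (.leaf 0x82))))) (.node (.node (.node (.node (.leaf 0x3c) (.leaf 0x1b8)) (.node (.leaf 0x10f) (.leaf 0x16b))) (.node (.node (.leaf 0x1aa) (.leaf 0x18e)) (.node (.leaf 0x111) (.leaf 0xd4)))) (.node (.node (.node (.leaf 0x15f) (.leaf 0xd2)) (.node (.leaf 0xde) (.leaf 0x67))) (.node (.node (.leaf 0x1f9) (.leaf 0x12d)) (.node (.leaf 0xc5) (.leaf 0x8f))))))) (.node (.node (.node (.node (.node (.node (.leaf 0x70) (.leaf 0x44)) (.node (.leaf 0x15d) (.leaf 0x198))) (.node (.node (.leaf 0x16a) (.leaf 0x133)) (.node (.leaf 0x1e4) (.leaf 0x119)))) (.node (.node (.node (.leaf 0x1a) (.leaf 0x156)) (.node (.leaf 0xd1) (.leaf 0xbd))) (.node (.node (.leaf 0x1a8) (.leaf 0xe1)) (.node (.leaf 0x1e7) (.leaf 0x17c))))) (.node (.node (.node (.node (.leaf 0x17) (.leaf 0x151))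 (.node (.leaf 0x1a0) (.leaf 0x1c))) (.node (.node (.leaf 0xa2) (.leaf 0x14a)) (.node (.leaf 0xe6) (.leaf 0xe8)))) (.node (.node (.node (.leaf 0x90) (.leaf 0x17e)) (.node (.leaf 0x9d) (.leaf 0x68))) (.node (.node (.leaf 0x194) (.leaf 0xfe)) (.node (.leaf 0x24) (.leaf 0x160)))))) (.node (.node (.node (.node (.node (.leaf 0x1e) (.leaf 0x1ed)) (.node (.leaf 0x1fd) (.leaf 0xfb))) (.node (.node (.leaf 0x3b) (.leaf 0x113)) (.node (.leaf 0x103) (.leaf 0x1cf)))) (.node (.node (.node (.leaf 0x78) (.leaf 0x16e)) (.node (.leaf 0x5b) (.leaf 0x1f5))) (.node (.node (.leaf 0x36) (.leaf 0x42)) (.node (.leaf 0x116) (.leaf 0x108))))) (.node (.node (.node (.node (.leaf 0x8a) (.leaf 0x2a)) (.node (.leaf 0x40) (.leaf 0x18d))) (.node (.node (.leaf 0x189) (.leaf 0x181)) (.node (.leaf 0x1f2) (.leaf 0x1a3)))) (.node (.node (.node (.leaf 0xd6) (.leaf 0x1ee)) (.node (.leaf 0xaa) (.leaf 0x148))) (.node (.node (.leaf 0x142) (.leaf 0x9b)) (.node (.leaf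 0x1d8) (.leaf 0x20))))))))

/-- its inverse -/
def qpos : Trie :=
  (.node (.node qpos0 qpos2) (.node qpos1 qpos3))

/-- part of conjugations of the involutions -/
def cwit0 : Trie :=
  (.node (.node (.node (.node (.node (.node (.node (.leaf 0x1) (.leaf 0x0)) (.node (.leaf 0x4) (.leaf 0))) (.node (.node (.leaf 0x74a665403) (.leaf 0x0)) (.node (.leaf 0x0) (.leaf 0)))) (.node (.node (.node (.leaf 0x0) (.leaf 0x0)) (.node (.leaf 0x0) (.leaf 0))) (.node (.node (.leaf 0x7564b5403) (.leaf 0x0)) (.node (.leaf 0x0) (.leaf 0))))) (.node (.node (.node (.node (.leaf 0x0) (.leaf 0x0)) (.node (.leaf 0x0) (.leaf 0))) (.node (.node (.leaf 0x85654a5403) (.leaf 0x0)) (.node (.leaf 0xb664a64a04) (.leaf 0)))) (.node (.node (.node (.leaf 0x956b403) (.leaf 0x0)) (.node (.leaf 0x7543456304) (.leaf 0))) (.node (.node (.leaf 0x0) (.leaf 0x0)) (.node (.leaf 0x0) (.leaf 0)))))) (.node (.node (.node (.node (.node (.leaf 0x0) (.leaf 0x0)) (.node (.leaf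 0x0) (.leaf 0))) (.node (.node (.leaf 0x457b403) (.leaf 0x0)) (.node (.leaf 0x0) (.leaf 0)))) (.node (.node (.node (.leaf 0x0) (.leaf 0x0)) (.node (.leaf 0x0) (.leaf 0))) (.node (.node (.leaf 0x97a5403) (.leaf 0x0)) (.node (.leaf 0x0) (.leaf 0))))) (.node (.node (.node (.node (.leaf 0x0) (.leaf 0x0)) (.node (.leaf 0x0) (.leaf 0))) (.node (.node (.leaf 0x5754a65403) (.leaf 0x0)) (.node (.leaf 0x0) (.leaf 0)))) (.node (.node (.node (.leaf 0x77a5403) (.leaf 0x0)) (.node (.leaf 0x0) (.leaf 0))) (.node (.node (.leaf 0x0) (.leaf 0x0)) (.node (.leaf 0x0) (.leaf 0))))))) (.node (.node (.node (.node (.node (.node (.leaf 0x5653403) (.leaf 0x0)) (.node (.leaf 0x0) (.leaf 0))) (.node (.node (.leaf 0x54b65403) (.leaf 0x0)) (.node (.leaf 0x0) (.leaf 0)))) (.node (.node (.node (.leaf 0x0) (.leaf 0x0)) (.node (.leaf 0x0) (.leaf 0))) (.node (.node (.leaf 0x87b65403) (.leaf 0x0)) (.node (.leaf 0x0) (.leaf 0))))) (.node (.node (.node (.node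 (.leaf 0x0) (.leaf 0x0)) (.node (.leaf 0xa434a04) (.leaf 0))) (.node (.node (.leaf 0x9654b5403) (.leaf 0x0)) (.node (.leaf 0x0) (.leaf 0)))) (.node (.node (.node (.leaf 0x7a75403) (.leaf 0x0)) (.node (.leaf 0x0) (.leaf 0))) (.node (.node (.leaf 0x0) (.leaf 0x0)) (.node (.leaf 0x0) (.leaf 0)))))) (.node (.node (.node (.node (.node (.leaf 0x0) (.leaf 0x0)) (.node (.leaf 0x0) (.leaf 0))) (.node (.node (.leaf 0xa4a403) (.leaf 0x0)) (.node (.leaf 0x0) (.leaf 0)))) (.node (.node (.node (.leaf 0x0) (.leaf 0x0)) (.node (.leaf 0x0) (.leaf 0))) (.node (.node (.leaf 0xb565403) (.leaf 0x0)) (.node (.leaf 0x0) (.leaf 0))))) (.node (.node (.node (.node (.leaf 0x0) (.leaf 0x0)) (.node (.leaf 0x0) (.leaf 0))) (.node (.node (.leaf 0x6457b403) (.leaf 0x0)) (.node (.leaf 0x0) (.leaf 0)))) (.node (.node (.node (.leaf 0x957b403) (.leaf 0x0)) (.node (.leaf 0x0) (.leaf 0))) (.node (.node (.leaf 0x0) (.leaf 0x0)) (.node (.leaf 0x0) (.leaf 0))))))))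

/-- part of conjugations of the involutions -/
def cwit8 : Trie :=
  (.node (.node (.node (.node (.node (.node (.node (.leaf 0x565403) (.leaf 0x0)) (.node (.leaf 0x0) (.leaf 0))) (.node (.node (.leaf 0x774a403) (.leaf 0x0)) (.node (.leaf 0x0) (.leaf 0)))) (.node (.node (.node (.leaf 0x0) (.leaf 0x0)) (.node (.leaf 0x0) (.leaf 0))) (.node (.node (.leaf 0x4b965403) (.leaf 0x0)) (.node (.leaf 0x0) (.leaf 0))))) (.node (.node (.node (.node (.leaf 0x0) (.leaf 0x0)) (.node (.leaf 0x74b74b704) (.leaf 0))) (.node (.node (.leaf 0xa4a665403) (.leaf 0x0)) (.node (.leaf 0x0) (.leaf 0)))) (.node (.node (.node (.leaf 0xa757a403) (.leaf 0x0)) (.node (.leaf 0x0) (.leaf 0))) (.node (.node (.leaf 0x0) (.leaf 0x0)) (.node (.leaf 0x0) (.leaf 0)))))) (.node (.node (.node (.node (.node (.leaf 0x0) (.leaf 0x0)) (.node (.leaf 0x0) (.leaf 0))) (.node (.node (.leaf 0xa74a65403) (.leaf 0x0)) (.node (.leaf 0x0) (.leaf 0)))) (.node (.node (.node (.leaf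 0x0) (.leaf 0x0)) (.node (.leaf 0x0) (.leaf 0))) (.node (.node (.leaf 0x6b403) (.leaf 0x0)) (.node (.leaf 0x0) (.leaf 0))))) (.node (.node (.node (.node (.leaf 0x0) (.leaf 0x0)) (.node (.leaf 0x0) (.leaf 0))) (.node (.node (.leaf 0x574a5403) (.leaf 0x0)) (.node (.leaf 0x0) (.leaf 0)))) (.node (.node (.node (.leaf 0xa665403) (.leaf 0x0)) (.node (.leaf 0x0) (.leaf 0))) (.node (.node (.leaf 0x0) (.leaf 0x0)) (.node (.leaf 0x0) (.leaf 0))))))) (.node (.node (.node (.node (.node (.node (.leaf 0x0) (.leaf 0x0)) (.node (.leaf 0x0) (.leaf 0))) (.node (.node (.leaf 0x864a65403) (.leaf 0x0)) (.node (.leaf 0x0) (.leaf 0)))) (.node (.node (.node (.leaf 0x0) (.leaf 0x0)) (.node (.leaf 0x0) (.leaf 0))) (.node (.node (.leaf 0x57b403) (.leaf 0x0)) (.node (.leaf 0x0) (.leaf 0))))) (.node (.node (.node (.node (.leaf 0x0) (.leaf 0x0)) (.node (.leaf 0x0) (.leaf 0))) (.node (.node (.leaf 0x5654a5403) (.leaf 0x0)) (.node (.leaf 0xa664b64b04) (.leaf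 0)))) (.node (.node (.node (.leaf 0x6b665403) (.leaf 0x0)) (.node (.leaf 0x0) (.leaf 0))) (.node (.node (.leaf 0x0) (.leaf 0x0)) (.node (.leaf 0x0) (.leaf 0)))))) (.node (.node (.node (.node (.node (.leaf 0x0) (.leaf 0x0)) (.node (.leaf 0x0) (.leaf 0))) (.node (.node (.leaf 0x6654a403) (.leaf 0x0)) (.node (.leaf 0x0) (.leaf 0)))) (.node (.node (.node (.leaf 0x0) (.leaf 0x0)) (.node (.leaf 0x0) (.leaf 0))) (.node (.node (.leaf 0x0) (.leaf 0x0)) (.node (.leaf 0x0) (.leaf 0))))) (.node (.node (.node (.node (.leaf 0x0) (.leaf 0x0)) (.node (.leaf 0x0) (.leaf 0))) (.node (.node (.leaf 0x774b5403) (.leaf 0x0)) (.node (.leaf 0x0) (.leaf 0)))) (.node (.node (.node (.leaf 0x97a65403) (.leaf 0x0)) (.node (.leaf 0x0) (.leaf 0))) (.node (.node (.leaf 0x0) (.leaf 0x0)) (.node (.leaf 0x0) (.leaf 0))))))))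

/-- part of conjugations of the involutions -/
def cwit4 : Trie :=
  (.node (.node (.node (.node (.node (.node (.node (.leaf 0x5403) (.leaf 0x0)) (.node (.leaf 0xb434a04) (.leaf 0))) (.node (.node (.leaf 0x74b665403) (.leaf 0x0)) (.node (.leaf 0x0) (.leaf 0)))) (.node (.node (.node (.leaf 0x0) (.leaf 0x0)) (.node (.leaf 0x0) (.leaf 0))) (.node (.node (.leaf 0x974a403) (.leaf 0x0)) (.node (.leaf 0x0) (.leaf 0))))) (.node (.node (.node (.node (.leaf 0x0) (.leaf 0x0)) (.node (.leaf 0x0) (.leaf 0))) (.node (.node (.leaf 0x654a5403) (.leaf 0x0)) (.node (.leaf 0x0) (.leaf 0)))) (.node (.node (.node (.leaf 0x7a775403) (.leaf 0x0)) (.node (.leaf 0x0) (.leaf 0))) (.node (.node (.leaf 0x0) (.leaf 0x0)) (.node (.leaf 0x0) (.leaf 0)))))) (.node (.node (.node (.node (.node (.leaf 0x0) (.leaf 0x0)) (.node (.leaf 0x0) (.leaf 0))) (.node (.node (.leaf 0x64b965403) (.leaf 0x0)) (.node (.leaf 0x0) (.leaf 0)))) (.node (.node (.node (.leaf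 0x0) (.leaf 0x0)) (.node (.leaf 0x6b434a704) (.leaf 0))) (.node (.node (.leaf 0x6957a403) (.leaf 0x0)) (.node (.leaf 0x0) (.leaf 0))))) (.node (.node (.node (.node (.leaf 0x0) (.leaf 0x0)) (.node (.leaf 0x0) (.leaf 0))) (.node (.node (.leaf 0x564b65403) (.leaf 0x0)) (.node (.leaf 0x0) (.leaf 0)))) (.node (.node (.node (.leaf 0xb965403) (.leaf 0x0)) (.node (.leaf 0x0) (.leaf 0))) (.node (.node (.leaf 0x0) (.leaf 0x0)) (.node (.leaf 0x0) (.leaf 0))))))) (.node (.node (.node (.node (.node (.node (.leaf 0x0) (.leaf 0x0)) (.node (.leaf 0x0) (.leaf 0))) (.node (.node (.leaf 0xa74a5403) (.leaf 0x0)) (.node (.leaf 0x0) (.leaf 0)))) (.node (.node (.node (.leaf 0x0) (.leaf 0x0)) (.node (.leaf 0x0) (.leaf 0))) (.node (.node (.leaf 0xb5403) (.leaf 0x0)) (.node (.leaf 0x0) (.leaf 0))))) (.node (.node (.node (.node (.leaf 0x0) (.leaf 0x0)) (.node (.leaf 0x0) (.leaf 0))) (.node (.node (.leaf 0x9654a5403) (.leaf 0x0)) (.node (.leaf 0x0)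 (.leaf 0)))) (.node (.node (.node (.leaf 0x4b775403) (.leaf 0x0)) (.node (.leaf 0x0) (.leaf 0))) (.node (.node (.leaf 0x0) (.leaf 0x0)) (.node (.leaf 0x0) (.leaf 0)))))) (.node (.node (.node (.node (.node (.leaf 0x0) (.leaf 0x0)) (.node (.leaf 0x0) (.leaf 0))) (.node (.node (.leaf 0x574b65403) (.leaf 0x0)) (.node (.leaf 0x0) (.leaf 0)))) (.node (.node (.node (.leaf 0x0) (.leaf 0x0)) (.node (.leaf 0x0) (.leaf 0))) (.node (.node (.leaf 0x6656a403) (.leaf 0x0)) (.node (.leaf 0x0) (.leaf 0))))) (.node (.node (.node (.node (.leaf 0x0) (.leaf 0x0)) (.node (.leaf 0x0) (.leaf 0))) (.node (.node (.leaf 0x74a5403) (.leaf 0x0)) (.node (.leaf 0x0) (.leaf 0)))) (.node (.node (.node (.leaf 0xb403) (.leaf 0x0)) (.node (.leaf 0x0) (.leaf 0))) (.node (.node (.leaf 0x0) (.leaf 0x0)) (.node (.leaf 0x0) (.leaf 0))))))))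

/-- part of conjugations of the involutions -/
def cwit12 : Trie :=
  (.node (.node (.node (.node (.node (.node (.node (.leaf 0x53403) (.leaf 0x0)) (.node (.leaf 0xa434a4304) (.leaf 0))) (.node (.node (.leaf 0x54a665403) (.leaf 0x0)) (.node (.leaf 0x0) (.leaf 0)))) (.node (.node (.node (.leaf 0x0) (.leaf 0x0)) (.node (.leaf 0x0) (.leaf 0))) (.node (.node (.leaf 0x757a403) (.leaf 0x0)) (.node (.leaf 0x0) (.leaf 0))))) (.node (.node (.node (.node (.leaf 0x0) (.leaf 0x0)) (.node (.leaf 0x0) (.leaf 0))) (.node (.node (.leaf 0x7a4a403) (.leaf 0x0)) (.node (.leaf 0x0) (.leaf 0)))) (.node (.node (.node (.leaf 0x6b775403) (.leaf 0x0)) (.node (.leaf 0x0) (.leaf 0))) (.node (.node (.leaf 0x0) (.leaf 0x0)) (.node (.leaf 0x0) (.leaf 0)))))) (.node (.node (.node (.node (.node (.leaf 0x0) (.leaf 0x0)) (.node (.leaf 0x0) (.leaf 0))) (.node (.node (.leaf 0xa574a5403) (.leaf 0x0)) (.node (.leaf 0x0) (.leaf 0)))) (.node (.node (.node (.leaf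 0x0) (.leaf 0x0)) (.node (.leaf 0x0) (.leaf 0))) (.node (.node (.leaf 0x97b75403) (.leaf 0x0)) (.node (.leaf 0x0) (.leaf 0))))) (.node (.node (.node (.node (.leaf 0x0) (.leaf 0x0)) (.node (.leaf 0x0) (.leaf 0))) (.node (.node (.leaf 0x6a4a403) (.leaf 0x0)) (.node (.leaf 0x0) (.leaf 0)))) (.node (.node (.node (.leaf 0x97b403) (.leaf 0x0)) (.node (.leaf 0x0) (.leaf 0))) (.node (.node (.leaf 0x0) (.leaf 0x0)) (.node (.leaf 0x0) (.leaf 0))))))) (.node (.node (.node (.node (.node (.node (.leaf 0x0) (.leaf 0x0)) (.node (.leaf 0x0) (.leaf 0))) (.node (.node (.leaf 0x4b5403) (.leaf 0x0)) (.node (.leaf 0x0) (.leaf 0)))) (.node (.node (.node (.leaf 0x0) (.leaf 0x0)) (.node (.leaf 0x0) (.leaf 0))) (.node (.node (.leaf 0x66a5403) (.leaf 0x0)) (.node (.leaf 0x0) (.leaf 0))))) (.node (.node (.node (.node (.leaf 0x0) (.leaf 0x0)) (.node (.leaf 0x0) (.leaf 0))) (.node (.node (.leaf 0xa64a403) (.leaf 0x0)) (.node (.leaf 0x0) (.leaf 0))))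 (.node (.node (.node (.leaf 0x6a665403) (.leaf 0x0)) (.node (.leaf 0x0) (.leaf 0))) (.node (.node (.leaf 0x0) (.leaf 0x0)) (.node (.leaf 0x0) (.leaf 0)))))) (.node (.node (.node (.node (.node (.leaf 0x0) (.leaf 0x0)) (.node (.leaf 0x0) (.leaf 0))) (.node (.node (.leaf 0x9754a403) (.leaf 0x0)) (.node (.leaf 0x0) (.leaf 0)))) (.node (.node (.node (.leaf 0x77b75403) (.leaf 0x0)) (.node (.leaf 0x0) (.leaf 0))) (.node (.node (.leaf 0x0) (.leaf 0x0)) (.node (.leaf 0x0) (.leaf 0))))) (.node (.node (.node (.node (.leaf 0x0) (.leaf 0x0)) (.node (.leaf 0x0) (.leaf 0))) (.node (.node (.leaf 0x754a65403) (.leaf 0x0)) (.node (.leaf 0x0) (.leaf 0)))) (.node (.node (.node (.leaf 0x86a65403) (.leaf 0x0)) (.node (.leaf 0x0) (.leaf 0))) (.node (.node (.leaf 0x0) (.leaf 0x0)) (.node (.leaf 0x0) (.leaf 0))))))))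

/-- part of conjugations of the involutions -/
def cwit2 : Trie :=
  (.node (.node (.node (.node (.node (.node (.node (.leaf 0x3) (.leaf 0x0)) (.node (.leaf 0x0) (.leaf 0))) (.node (.node (.leaf 0x54b665403) (.leaf 0x0)) (.node (.leaf 0x0) (.leaf 0)))) (.node (.node (.node (.leaf 0x0) (.leaf 0x0)) (.node (.leaf 0x0) (.leaf 0))) (.node (.node (.leaf 0x974b403) (.leaf 0x0)) (.node (.leaf 0x0) (.leaf 0))))) (.node (.node (.node (.node (.leaf 0x0) (.leaf 0x0)) (.node (.leaf 0x0) (.leaf 0))) (.node (.node (.leaf 0xa54a65403) (.leaf 0x0)) (.node (.leaf 0x0) (.leaf 0)))) (.node (.node (.node (.leaf 0x656b403) (.leaf 0x0)) (.node (.leaf 0x0) (.leaf 0))) (.node (.node (.leaf 0x0) (.leaf 0x0)) (.node (.leaf 0x0) (.leaf 0)))))) (.node (.node (.node (.node (.node (.leaf 0x0) (.leaf 0x0)) (.node (.leaf 0x0) (.leaf 0))) (.node (.node (.leaf 0x457a403) (.leaf 0x0)) (.node (.leaf 0x0) (.leaf 0)))) (.node (.node (.node (.leaf 0x0) (.leaf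 0x0)) (.node (.leaf 0x0) (.leaf 0))) (.node (.node (.leaf 0x97b5403) (.leaf 0x0)) (.node (.leaf 0x0) (.leaf 0))))) (.node (.node (.node (.node (.leaf 0x0) (.leaf 0x0)) (.node (.leaf 0x0) (.leaf 0))) (.node (.node (.leaf 0x54b5403) (.leaf 0x0)) (.node (.leaf 0x0) (.leaf 0)))) (.node (.node (.node (.leaf 0x96b403) (.leaf 0x0)) (.node (.leaf 0x0) (.leaf 0))) (.node (.node (.leaf 0x0) (.leaf 0x0)) (.node (.leaf 0x0) (.leaf 0))))))) (.node (.node (.node (.node (.node (.node (.leaf 0x0) (.leaf 0x0)) (.node (.leaf 0x304) (.leaf 0))) (.node (.node (.leaf 0x564a5403) (.leaf 0x0)) (.node (.leaf 0x0) (.leaf 0)))) (.node (.node (.node (.leaf 0x0) (.leaf 0x0)) (.node (.leaf 0x96b434a704) (.leaf 0))) (.node (.node (.leaf 0x7b403) (.leaf 0x0)) (.node (.leaf 0x0) (.leaf 0))))) (.node (.node (.node (.node (.leaf 0x0) (.leaf 0x0)) (.node (.leaf 0x0) (.leaf 0))) (.node (.node (.leaf 0xa4b665403) (.leaf 0x0)) (.node (.leaf 0x0) (.leaf 0))))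 (.node (.node (.node (.leaf 0x4b75403) (.leaf 0x0)) (.node (.leaf 0x0) (.leaf 0))) (.node (.node (.leaf 0x0) (.leaf 0x0)) (.node (.leaf 0x0) (.leaf 0)))))) (.node (.node (.node (.node (.node (.leaf 0x0) (.leaf 0x0)) (.node (.leaf 0x0) (.leaf 0))) (.node (.node (.leaf 0x7754b5403) (.leaf 0x0)) (.node (.leaf 0x0) (.leaf 0)))) (.node (.node (.node (.leaf 0x0) (.leaf 0x0)) (.node (.leaf 0x0) (.leaf 0))) (.node (.node (.leaf 0x64a75403) (.leaf 0x0)) (.node (.leaf 0x0) (.leaf 0))))) (.node (.node (.node (.node (.leaf 0x0) (.leaf 0x0)) (.node (.leaf 0x0) (.leaf 0))) (.node (.node (.leaf 0xa457a403) (.leaf 0x0)) (.node (.leaf 0x0) (.leaf 0)))) (.node (.node (.node (.leaf 0x8757b403) (.leaf 0x0)) (.node (.leaf 0x0) (.leaf 0))) (.node (.node (.leaf 0x0) (.leaf 0x0)) (.node (.leaf 0x86b74b704) (.leaf 0))))))))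

/-- part of conjugations of the involutions -/
def cwit10 : Trie :=
  (.node (.node (.node (.node (.node (.node (.node (.leaf 0x43403) (.leaf 0x0)) (.node (.leaf 0x0) (.leaf 0))) (.node (.node (.leaf 0x964b5403) (.leaf 0x0)) (.node (.leaf 0x0) (.leaf 0)))) (.node (.node (.node (.leaf 0x0) (.leaf 0x0)) (.node (.leaf 0x0) (.leaf 0))) (.node (.node (.leaf 0x64a5403) (.leaf 0x0)) (.node (.leaf 0x0) (.leaf 0))))) (.node (.node (.node (.node (.leaf 0x0) (.leaf 0x0)) (.node (.leaf 0x4a434a04) (.leaf 0))) (.node (.node (.leaf 0x6a4a965403) (.leaf 0x0)) (.node (.leaf 0x96a434a704) (.leaf 0)))) (.node (.node (.node (.leaf 0x87b75403) (.leaf 0x0)) (.node (.leaf 0x0) (.leaf 0))) (.node (.node (.leaf 0x0) (.leaf 0x0)) (.node (.leaf 0x0) (.leaf 0)))))) (.node (.node (.node (.node (.node (.leaf 0x0) (.leaf 0x0)) (.node (.leaf 0x757456304) (.leaf 0))) (.node (.node (.leaf 0x6574b5403) (.leaf 0x0)) (.node (.leaf 0x0) (.leaf 0)))) (.node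 (.node (.node (.leaf 0x0) (.leaf 0x0)) (.node (.leaf 0x0) (.leaf 0))) (.node (.node (.leaf 0x97a75403) (.leaf 0x0)) (.node (.leaf 0x0) (.leaf 0))))) (.node (.node (.node (.node (.leaf 0x0) (.leaf 0x0)) (.node (.leaf 0x0) (.leaf 0))) (.node (.node (.leaf 0x564b965403) (.leaf 0x0)) (.node (.leaf 0x0) (.leaf 0)))) (.node (.node (.node (.leaf 0x66b65403) (.leaf 0x0)) (.node (.leaf 0x0) (.leaf 0))) (.node (.node (.leaf 0x0) (.leaf 0x0)) (.node (.leaf 0x0) (.leaf 0))))))) (.node (.node (.node (.node (.node (.node (.leaf 0x0) (.leaf 0x0)) (.node (.leaf 0x0) (.leaf 0))) (.node (.node (.leaf 0x74a65403) (.leaf 0x0)) (.node (.leaf 0x0) (.leaf 0)))) (.node (.node (.node (.leaf 0x0) (.leaf 0x0)) (.node (.leaf 0x0) (.leaf 0))) (.node (.node (.leaf 0x57a403) (.leaf 0x0)) (.node (.leaf 0x0) (.leaf 0))))) (.node (.node (.node (.node (.leaf 0x0) (.leaf 0x0)) (.node (.leaf 0x0) (.leaf 0))) (.node (.node (.leaf 0x4a64a403) (.leaf 0x0)) (.node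 (.leaf 0x0) (.leaf 0)))) (.node (.node (.node (.leaf 0xa965403) (.leaf 0x0)) (.node (.leaf 0x0) (.leaf 0))) (.node (.node (.leaf 0x0) (.leaf 0x0)) (.node (.leaf 0x0) (.leaf 0)))))) (.node (.node (.node (.node (.node (.leaf 0x0) (.leaf 0x0)) (.node (.leaf 0x0) (.leaf 0))) (.node (.node (.leaf 0x6a4a65403) (.leaf 0x0)) (.node (.leaf 0x0) (.leaf 0)))) (.node (.node (.node (.leaf 0x87a565403) (.leaf 0x0)) (.node (.leaf 0x0) (.leaf 0))) (.node (.node (.leaf 0x0) (.leaf 0x0)) (.node (.leaf 0x0) (.leaf 0))))) (.node (.node (.node (.node (.leaf 0x0) (.leaf 0x0)) (.node (.leaf 0x0) (.leaf 0))) (.node (.node (.leaf 0x754b65403) (.leaf 0x0)) (.node (.leaf 0x0) (.leaf 0)))) (.node (.node (.node (.leaf 0x97b65403) (.leaf 0x0)) (.node (.leaf 0x0) (.leaf 0))) (.node (.node (.leaf 0x0) (.leaf 0x0)) (.node (.leaf 0x0) (.leaf 0))))))))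

/-- part of conjugations of the involutions -/
def cwit6 : Trie :=
  (.node (.node (.node (.node (.node (.node (.node (.leaf 0x65403) (.leaf 0x0)) (.node (.leaf 0x0) (.leaf 0))) (.node (.node (.leaf 0x74a403) (.leaf 0x0)) (.node (.leaf 0x0) (.leaf 0)))) (.node (.node (.node (.leaf 0x0) (.leaf 0x0)) (.node (.leaf 0x0) (.leaf 0))) (.node (.node (.leaf 0x8564a5403) (.leaf 0x0)) (.node (.leaf 0x0) (.leaf 0))))) (.node (.node (.node (.node (.leaf 0x0) (.leaf 0x0)) (.node (.leaf 0x0) (.leaf 0))) (.node (.node (.leaf 0x6a4b965403) (.leaf 0x0)) (.node (.leaf 0xb64a664a04) (.leaf 0)))) (.node (.node (.node (.leaf 0xb775403) (.leaf 0x0)) (.node (.leaf 0x0) (.leaf 0))) (.node (.node (.leaf 0x0) (.leaf 0x0)) (.node (.leaf 0x0) (.leaf 0)))))) (.node (.node (.node (.node (.node (.leaf 0x0) (.leaf 0x0)) (.node (.leaf 0x0) (.leaf 0))) (.node (.node (.leaf 0x64a403) (.leaf 0x0)) (.node (.leaf 0x0) (.leaf 0)))) (.node (.node (.node (.leaf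 0x0) (.leaf 0x0)) (.node (.leaf 0x0) (.leaf 0))) (.node (.node (.leaf 0x6b965403) (.leaf 0x0)) (.node (.leaf 0x0) (.leaf 0))))) (.node (.node (.node (.node (.leaf 0x0) (.leaf 0x0)) (.node (.leaf 0x0) (.leaf 0))) (.node (.node (.leaf 0x574b5403) (.leaf 0x0)) (.node (.leaf 0x0) (.leaf 0)))) (.node (.node (.node (.leaf 0x96a403) (.leaf 0x0)) (.node (.leaf 0x0) (.leaf 0))) (.node (.node (.leaf 0x0) (.leaf 0x0)) (.node (.leaf 0x0) (.leaf 0))))))) (.node (.node (.node (.node (.node (.node (.leaf 0x0) (.leaf 0x0)) (.node (.leaf 0x0) (.leaf 0))) (.node (.node (.leaf 0x964a403) (.leaf 0x0)) (.node (.leaf 0x0) (.leaf 0)))) (.node (.node (.node (.leaf 0x0) (.leaf 0x0)) (.node (.leaf 0xa64a664a04) (.leaf 0))) (.node (.node (.leaf 0x77a403) (.leaf 0x0)) (.node (.leaf 0x0) (.leaf 0))))) (.node (.node (.node (.node (.leaf 0x0) (.leaf 0x0)) (.node (.leaf 0x0) (.leaf 0))) (.node (.node (.leaf 0xa4a965403) (.leaf 0x0)) (.node (.leaf 0x0) (.leaf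 0)))) (.node (.node (.node (.leaf 0x56b403) (.leaf 0x0)) (.node (.leaf 0x6a74a74304) (.leaf 0))) (.node (.node (.leaf 0x0) (.leaf 0x0)) (.node (.leaf 0x0) (.leaf 0)))))) (.node (.node (.node (.node (.node (.leaf 0x0) (.leaf 0x0)) (.node (.leaf 0x0) (.leaf 0))) (.node (.node (.leaf 0x574a65403) (.leaf 0x0)) (.node (.leaf 0x0) (.leaf 0)))) (.node (.node (.node (.leaf 0x0) (.leaf 0x0)) (.node (.leaf 0x0) (.leaf 0))) (.node (.node (.leaf 0x0) (.leaf 0x0)) (.node (.leaf 0x0) (.leaf 0))))) (.node (.node (.node (.node (.leaf 0x0) (.leaf 0x0)) (.node (.leaf 0x0) (.leaf 0))) (.node (.node (.leaf 0x4a403) (.leaf 0x0)) (.node (.leaf 0x0) (.leaf 0)))) (.node (.node (.node (.leaf 0x7a965403) (.leaf 0x0)) (.node (.leaf 0x0) (.leaf 0))) (.node (.node (.leaf 0x0) (.leaf 0x0)) (.node (.leaf 0x0) (.leaf 0))))))))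

/-- part of conjugations of the involutions -/
def cwit14 : Trie :=
  (.node (.node (.node (.node (.node (.node (.node (.leaf 0x653403) (.leaf 0x0)) (.node (.leaf 0x0) (.leaf 0))) (.node (.node (.leaf 0x964a5403) (.leaf 0x0)) (.node (.leaf 0x0) (.leaf 0)))) (.node (.node (.node (.leaf 0x0) (.leaf 0x0)) (.node (.leaf 0x0) (.leaf 0))) (.node (.node (.leaf 0x96b65403) (.leaf 0x0)) (.node (.leaf 0x0) (.leaf 0))))) (.node (.node (.node (.node (.leaf 0x0) (.leaf 0x0)) (.node (.leaf 0x0) (.leaf 0))) (.node (.node (.leaf 0x6a64a403) (.leaf 0x0)) (.node (.leaf 0x0) (.leaf 0)))) (.node (.node (.node (.leaf 0x7b565403) (.leaf 0x0)) (.node (.leaf 0x0) (.leaf 0))) (.node (.node (.leaf 0x0) (.leaf 0x0)) (.node (.leaf 0xa664a64a04) (.leaf 0)))))) (.node (.node (.node (.node (.node (.leaf 0x0) (.leaf 0x0)) (.node (.leaf 0x0) (.leaf 0))) (.node (.node (.leaf 0x754a5403) (.leaf 0x0)) (.node (.leaf 0x0) (.leaf 0)))) (.node (.node (.node (.leaf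 0x0) (.leaf 0x0)) (.node (.leaf 0x0) (.leaf 0))) (.node (.node (.leaf 0x856b403) (.leaf 0x0)) (.node (.leaf 0x7b434a604) (.leaf 0))))) (.node (.node (.node (.node (.leaf 0x0) (.leaf 0x0)) (.node (.leaf 0x0) (.leaf 0))) (.node (.node (.leaf 0x974a65403) (.leaf 0x0)) (.node (.leaf 0x0) (.leaf 0)))) (.node (.node (.node (.leaf 0x96a5403) (.leaf 0x0)) (.node (.leaf 0x0) (.leaf 0))) (.node (.node (.leaf 0x0) (.leaf 0x0)) (.node (.leaf 0x0) (.leaf 0))))))) (.node (.node (.node (.node (.node (.node (.leaf 0x0) (.leaf 0x0)) (.node (.leaf 0x0) (.leaf 0))) (.node (.node (.leaf 0x874b65403) (.leaf 0x0)) (.node (.leaf 0x0) (.leaf 0)))) (.node (.node (.node (.leaf 0x0) (.leaf 0x0)) (.node (.leaf 0x0) (.leaf 0))) (.node (.node (.leaf 0x6b65403) (.leaf 0x0)) (.node (.leaf 0x0) (.leaf 0))))) (.node (.node (.node (.node (.leaf 0x0) (.leaf 0x0)) (.node (.leaf 0x0) (.leaf 0))) (.node (.node (.leaf 0xa754a65403) (.leaf 0x0)) (.node (.leaf 0x0)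 (.leaf 0)))) (.node (.node (.node (.leaf 0x7a5403) (.leaf 0x0)) (.node (.leaf 0x0) (.leaf 0))) (.node (.node (.leaf 0x0) (.leaf 0x0)) (.node (.leaf 0x0) (.leaf 0)))))) (.node (.node (.node (.node (.node (.leaf 0x0) (.leaf 0x0)) (.node (.leaf 0x0) (.leaf 0))) (.node (.node (.leaf 0x7a64a403) (.leaf 0x0)) (.node (.leaf 0x0) (.leaf 0)))) (.node (.node (.node (.leaf 0x7956a403) (.leaf 0x0)) (.node (.leaf 0x0) (.leaf 0))) (.node (.node (.leaf 0x0) (.leaf 0x0)) (.node (.leaf 0x0) (.leaf 0))))) (.node (.node (.node (.node (.leaf 0x0) (.leaf 0x0)) (.node (.leaf 0x0) (.leaf 0))) (.node (.node (.leaf 0x664b403) (.leaf 0x0)) (.node (.leaf 0x0) (.leaf 0)))) (.node (.node (.node (.leaf 0x6a5403) (.leaf 0x0)) (.node (.leaf 0x0) (.leaf 0))) (.node (.node (.leaf 0x965403) (.leaf 0x0)) (.node (.leaf 0x0) (.leaf 0))))))))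

/-- part of conjugations of the involutions -/
def cwit1 : Trie :=
  (.node (.node (.node (.node (.node (.node (.node (.leaf 0x2) (.leaf 0x0)) (.node (.leaf 0x34304) (.leaf 0))) (.node (.node (.leaf 0x774b403) (.leaf 0x0)) (.node (.leaf 0x0) (.leaf 0)))) (.node (.node (.node (.leaf 0x0) (.leaf 0x0)) (.node (.leaf 0x0) (.leaf 0))) (.node (.node (.leaf 0x7564a5403) (.leaf 0x0)) (.node (.leaf 0x0) (.leaf 0))))) (.node (.node (.node (.node (.leaf 0x0) (.leaf 0x0)) (.node (.leaf 0x0) (.leaf 0))) (.node (.node (.leaf 0x4a4b65403) (.leaf 0x0)) (.node (.leaf 0x0) (.leaf 0)))) (.node (.node (.node (.leaf 0x87a75403) (.leaf 0x0)) (.node (.leaf 0x0) (.leaf 0))) (.node (.node (.leaf 0x0) (.leaf 0x0)) (.node (.leaf 0x0) (.leaf 0)))))) (.node (.node (.node (.node (.node (.leaf 0x0) (.leaf 0x0)) (.node (.leaf 0x0) (.leaf 0))) (.node (.node (.leaf 0x64a965403) (.leaf 0x0)) (.node (.leaf 0x0) (.leaf 0)))) (.node (.node (.node (.leaf 0x0)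 (.leaf 0x0)) (.node (.leaf 0x0) (.leaf 0))) (.node (.node (.leaf 0x6957b403) (.leaf 0x0)) (.node (.leaf 0x0) (.leaf 0))))) (.node (.node (.node (.node (.leaf 0x0) (.leaf 0x0)) (.node (.leaf 0x0) (.leaf 0))) (.node (.node (.leaf 0xa754b65403) (.leaf 0x0)) (.node (.leaf 0x0) (.leaf 0)))) (.node (.node (.node (.leaf 0x5656b403) (.leaf 0x0)) (.node (.leaf 0x0) (.leaf 0))) (.node (.node (.leaf 0x0) (.leaf 0x0)) (.node (.leaf 0x0) (.leaf 0))))))) (.node (.node (.node (.node (.node (.node (.leaf 0x7753403) (.leaf 0x0)) (.node (.leaf 0x0) (.leaf 0))) (.node (.node (.leaf 0x664a5403) (.leaf 0x0)) (.node (.leaf 0x0) (.leaf 0)))) (.node (.node (.node (.leaf 0x0) (.leaf 0x0)) (.node (.leaf 0x0) (.leaf 0))) (.node (.node (.leaf 0x77b403) (.leaf 0x0)) (.node (.leaf 0x0) (.leaf 0))))) (.node (.node (.node (.node (.leaf 0x0) (.leaf 0x0)) (.node (.leaf 0x0) (.leaf 0))) (.node (.node (.leaf 0x5654b5403) (.leaf 0x0)) (.node (.leaf 0x6a434a704)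 (.leaf 0)))) (.node (.node (.node (.leaf 0x6a775403) (.leaf 0x0)) (.node (.leaf 0x0) (.leaf 0))) (.node (.node (.leaf 0x0) (.leaf 0x0)) (.node (.leaf 0x0) (.leaf 0)))))) (.node (.node (.node (.node (.node (.leaf 0x0) (.leaf 0x0)) (.node (.leaf 0x654345704) (.leaf 0))) (.node (.node (.leaf 0x6574a5403) (.leaf 0x0)) (.node (.leaf 0x0) (.leaf 0)))) (.node (.node (.node (.leaf 0x0) (.leaf 0x0)) (.node (.leaf 0x0) (.leaf 0))) (.node (.node (.leaf 0xa565403) (.leaf 0x0)) (.node (.leaf 0x0) (.leaf 0))))) (.node (.node (.node (.node (.leaf 0x0) (.leaf 0x0)) (.node (.leaf 0x0) (.leaf 0))) (.node (.node (.leaf 0x974b65403) (.leaf 0x0)) (.node (.leaf 0x0) (.leaf 0)))) (.node (.node (.node (.leaf 0x7b965403) (.leaf 0x0)) (.node (.leaf 0x0) (.leaf 0))) (.node (.node (.leaf 0x0) (.leaf 0x0)) (.node (.leaf 0x0) (.leaf 0))))))))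

/-- part of conjugations of the involutions -/
def cwit9 : Trie :=
  (.node (.node (.node (.node (.node (.node (.node (.leaf 0x775403) (.leaf 0x0)) (.node (.leaf 0x0) (.leaf 0))) (.node (.node (.leaf 0x4a665403) (.leaf 0x0)) (.node (.leaf 0x0) (.leaf 0)))) (.node (.node (.node (.leaf 0x0) (.leaf 0x0)) (.node (.leaf 0x0) (.leaf 0))) (.node (.node (.leaf 0x4a965403) (.leaf 0x0)) (.node (.leaf 0x0) (.leaf 0))))) (.node (.node (.node (.node (.leaf 0x0) (.leaf 0x0)) (.node (.leaf 0x0) (.leaf 0))) (.node (.node (.leaf 0xa4b965403) (.leaf 0x0)) (.node (.leaf 0x0) (.leaf 0)))) (.node (.node (.node (.leaf 0x77a75403) (.leaf 0x0)) (.node (.leaf 0x0) (.leaf 0))) (.node (.node (.leaf 0x0) (.leaf 0x0)) (.node (.leaf 0x0) (.leaf 0)))))) (.node (.node (.node (.node (.node (.leaf 0x0) (.leaf 0x0)) (.node (.leaf 0x0) (.leaf 0))) (.node (.node (.leaf 0x754b5403) (.leaf 0x0)) (.node (.leaf 0x0) (.leaf 0)))) (.node (.node (.node (.leaf 0x0)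 (.leaf 0x0)) (.node (.leaf 0x0) (.leaf 0))) (.node (.node (.leaf 0x6a403) (.leaf 0x0)) (.node (.leaf 0x0) (.leaf 0))))) (.node (.node (.node (.node (.leaf 0x0) (.leaf 0x0)) (.node (.leaf 0x0) (.leaf 0))) (.node (.node (.leaf 0xa64b65403) (.leaf 0x0)) (.node (.leaf 0x0) (.leaf 0)))) (.node (.node (.node (.leaf 0x66a403) (.leaf 0x0)) (.node (.leaf 0x0) (.leaf 0))) (.node (.node (.leaf 0x0) (.leaf 0x0)) (.node (.leaf 0x0) (.leaf 0))))))) (.node (.node (.node (.node (.node (.node (.leaf 0x0) (.leaf 0x0)) (.node (.leaf 0x4304) (.leaf 0))) (.node (.node (.leaf 0x874a65403) (.leaf 0x0)) (.node (.leaf 0x0) (.leaf 0)))) (.node (.node (.node (.leaf 0x0) (.leaf 0x0)) (.node (.leaf 0x0) (.leaf 0))) (.node (.node (.leaf 0x66b5403) (.leaf 0x0)) (.node (.leaf 0x0) (.leaf 0))))) (.node (.node (.node (.node (.leaf 0x0) (.leaf 0x0)) (.node (.leaf 0x0) (.leaf 0))) (.node (.node (.leaf 0xa4b65403) (.leaf 0x0)) (.node (.leaf 0x0) (.leaf 0))))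 (.node (.node (.node (.leaf 0x77b5403) (.leaf 0x0)) (.node (.leaf 0x0) (.leaf 0))) (.node (.node (.leaf 0x0) (.leaf 0x0)) (.node (.leaf 0x0) (.leaf 0)))))) (.node (.node (.node (.node (.node (.leaf 0x0) (.leaf 0x0)) (.node (.leaf 0x0) (.leaf 0))) (.node (.node (.leaf 0x7a4a65403) (.leaf 0x0)) (.node (.leaf 0x0) (.leaf 0)))) (.node (.node (.node (.leaf 0x0) (.leaf 0x0)) (.node (.leaf 0x0) (.leaf 0))) (.node (.node (.leaf 0x0) (.leaf 0x0)) (.node (.leaf 0x0) (.leaf 0))))) (.node (.node (.node (.node (.leaf 0x0) (.leaf 0x0)) (.node (.leaf 0x0) (.leaf 0))) (.node (.node (.leaf 0x4b403) (.leaf 0x0)) (.node (.leaf 0x0) (.leaf 0)))) (.node (.node (.node (.leaf 0x86b65403) (.leaf 0x0)) (.node (.leaf 0x0) (.leaf 0))) (.node (.node (.leaf 0x0) (.leaf 0x0)) (.node (.leaf 0x0) (.leaf 0))))))))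

/-- part of conjugations of the involutions -/
def cwit5 : Trie :=
  (.node (.node (.node (.node (.node (.node (.node (.leaf 0x75403) (.leaf 0x0)) (.node (.leaf 0x0) (.leaf 0))) (.node (.node (.leaf 0x4b665403) (.leaf 0x0)) (.node (.leaf 0x0) (.leaf 0)))) (.node (.node (.node (.leaf 0x0) (.leaf 0x0)) (.node (.leaf 0x0) (.leaf 0))) (.node (.node (.leaf 0x4b65403) (.leaf 0x0)) (.node (.leaf 0x0) (.leaf 0))))) (.node (.node (.node (.node (.leaf 0x0) (.leaf 0x0)) (.node (.leaf 0x0) (.leaf 0))) (.node (.node (.leaf 0x654b5403) (.leaf 0x0)) (.node (.leaf 0x0) (.leaf 0)))) (.node (.node (.node (.leaf 0x956a403) (.leaf 0x0)) (.node (.leaf 0x96a74b704) (.leaf 0))) (.node (.node (.leaf 0x0) (.leaf 0x0)) (.node (.leaf 0x0) (.leaf 0)))))) (.node (.node (.node (.node (.node (.leaf 0x0) (.leaf 0x0)) (.node (.leaf 0x0) (.leaf 0))) (.node (.node (.leaf 0x64a65403) (.leaf 0x0)) (.node (.leaf 0x0) (.leaf 0)))) (.node (.node (.node (.leaf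 0x0) (.leaf 0x0)) (.node (.leaf 0x0) (.leaf 0))) (.node (.node (.leaf 0x7857a403) (.leaf 0x0)) (.node (.leaf 0x0) (.leaf 0))))) (.node (.node (.node (.node (.leaf 0x0) (.leaf 0x0)) (.node (.leaf 0x0) (.leaf 0))) (.node (.node (.leaf 0x54a5403) (.leaf 0x0)) (.node (.leaf 0x0) (.leaf 0)))) (.node (.node (.node (.leaf 0x7b5403) (.leaf 0x0)) (.node (.leaf 0x0) (.leaf 0))) (.node (.node (.leaf 0x0) (.leaf 0x0)) (.node (.leaf 0x0) (.leaf 0))))))) (.node (.node (.node (.node (.node (.node (.leaf 0x0) (.leaf 0x0)) (.node (.leaf 0x0) (.leaf 0))) (.node (.node (.leaf 0x74b65403) (.leaf 0x0)) (.node (.leaf 0x0) (.leaf 0)))) (.node (.node (.node (.leaf 0x0) (.leaf 0x0)) (.node (.leaf 0x0) (.leaf 0))) (.node (.node (.leaf 0x96a65403) (.leaf 0x0)) (.node (.leaf 0x0) (.leaf 0))))) (.node (.node (.node (.node (.leaf 0x0) (.leaf 0x0)) (.node (.leaf 0x0) (.leaf 0))) (.node (.node (.leaf 0xa4a65403) (.leaf 0x0)) (.node (.leaf 0x0) (.leaf 0))))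 (.node (.node (.node (.leaf 0xb757a403) (.leaf 0x0)) (.node (.leaf 0x0) (.leaf 0))) (.node (.node (.leaf 0x0) (.leaf 0x0)) (.node (.leaf 0x0) (.leaf 0)))))) (.node (.node (.node (.node (.node (.leaf 0x0) (.leaf 0x0)) (.node (.leaf 0x0) (.leaf 0))) (.node (.node (.leaf 0xa664a403) (.leaf 0x0)) (.node (.leaf 0x0) (.leaf 0)))) (.node (.node (.node (.leaf 0x0) (.leaf 0x0)) (.node (.leaf 0x0) (.leaf 0))) (.node (.node (.leaf 0xb656a403) (.leaf 0x0)) (.node (.leaf 0x0) (.leaf 0))))) (.node (.node (.node (.node (.leaf 0x0) (.leaf 0x0)) (.node (.leaf 0x0) (.leaf 0))) (.node (.node (.leaf 0x9457a403) (.leaf 0x0)) (.node (.leaf 0x0) (.leaf 0)))) (.node (.node (.node (.leaf 0x96b5403) (.leaf 0x0)) (.node (.leaf 0x0) (.leaf 0))) (.node (.node (.leaf 0x0) (.leaf 0x0)) (.node (.leaf 0x0) (.leaf 0))))))))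

/-- part of conjugations of the involutions -/
def cwit13 : Trie :=
  (.node (.node (.node (.node (.node (.node (.node (.leaf 0x753403) (.leaf 0x0)) (.node (.leaf 0x0) (.leaf 0))) (.node (.node (.leaf 0x74b403) (.leaf 0x0)) (.node (.leaf 0x0) (.leaf 0)))) (.node (.node (.node (.leaf 0x0) (.leaf 0x0)) (.node (.leaf 0x0) (.leaf 0))) (.node (.node (.leaf 0x7a403) (.leaf 0x0)) (.node (.leaf 0x0) (.leaf 0))))) (.node (.node (.node (.node (.leaf 0x0) (.leaf 0x0)) (.node (.leaf 0x0) (.leaf 0))) (.node (.node (.leaf 0x6654b5403) (.leaf 0x0)) (.node (.leaf 0x0) (.leaf 0)))) (.node (.node (.node (.leaf 0x56a403) (.leaf 0x0)) (.node (.leaf 0x6a74b704) (.leaf 0))) (.node (.node (.leaf 0x0) (.leaf 0x0)) (.node (.leaf 0x0) (.leaf 0)))))) (.node (.node (.node (.node (.node (.leaf 0x0) (.leaf 0x0)) (.node (.leaf 0x0) (.leaf 0))) (.node (.node (.leaf 0x7754a5403) (.leaf 0x0)) (.node (.leaf 0x0) (.leaf 0)))) (.node (.node (.node (.leaf 0x0)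 (.leaf 0x0)) (.node (.leaf 0x0) (.leaf 0))) (.node (.node (.leaf 0xb75403) (.leaf 0x0)) (.node (.leaf 0x0) (.leaf 0))))) (.node (.node (.node (.node (.leaf 0x0) (.leaf 0x0)) (.node (.leaf 0x0) (.leaf 0))) (.node (.node (.leaf 0x654a403) (.leaf 0x0)) (.node (.leaf 0x0) (.leaf 0)))) (.node (.node (.node (.leaf 0x8757a403) (.leaf 0x0)) (.node (.leaf 0x0) (.leaf 0))) (.node (.node (.leaf 0x0) (.leaf 0x0)) (.node (.leaf 0x0) (.leaf 0))))))) (.node (.node (.node (.node (.node (.node (.leaf 0x0) (.leaf 0x0)) (.node (.leaf 0x0) (.leaf 0))) (.node (.node (.leaf 0x964b403) (.leaf 0x0)) (.node (.leaf 0x0) (.leaf 0)))) (.node (.node (.node (.leaf 0x0) (.leaf 0x0)) (.node (.leaf 0x74b434a704) (.leaf 0))) (.node (.node (.leaf 0x7b65403) (.leaf 0x0)) (.node (.leaf 0x0) (.leaf 0))))) (.node (.node (.node (.node (.leaf 0x0) (.leaf 0x0)) (.node (.leaf 0x0) (.leaf 0))) (.node (.node (.leaf 0x4a64b403) (.leaf 0x0)) (.node (.leaf 0x0) (.leaf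 0)))) (.node (.node (.node (.leaf 0x5656a403) (.leaf 0x0)) (.node (.leaf 0x0) (.leaf 0))) (.node (.node (.leaf 0x0) (.leaf 0x0)) (.node (.leaf 0x0) (.leaf 0)))))) (.node (.node (.node (.node (.node (.leaf 0x0) (.leaf 0x0)) (.node (.leaf 0x0) (.leaf 0))) (.node (.node (.leaf 0x7a574a5403) (.leaf 0x0)) (.node (.leaf 0x86a434a704) (.leaf 0)))) (.node (.node (.node (.leaf 0x7a565403) (.leaf 0x0)) (.node (.leaf 0x0) (.leaf 0))) (.node (.node (.leaf 0x0) (.leaf 0x0)) (.node (.leaf 0x0) (.leaf 0))))) (.node (.node (.node (.node (.leaf 0x0) (.leaf 0x0)) (.node (.leaf 0x0) (.leaf 0))) (.node (.node (.leaf 0x8457a403) (.leaf 0x0)) (.node (.leaf 0x0) (.leaf 0)))) (.node (.node (.node (.leaf 0x857b403) (.leaf 0x0)) (.node (.leaf 0x0) (.leaf 0))) (.node (.node (.leaf 0x0) (.leaf 0x0)) (.node (.leaf 0x0) (.leaf 0))))))))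

/-- part of conjugations of the involutions -/
def cwit3 : Trie :=
  (.node (.node (.node (.node (.node (.node (.node (.leaf 0x403) (.leaf 0x0)) (.node (.leaf 0x0) (.leaf 0))) (.node (.node (.leaf 0x54a65403) (.leaf 0x0)) (.node (.leaf 0x0) (.leaf 0)))) (.node (.node (.node (.leaf 0x0) (.leaf 0x0)) (.node (.leaf 0x0) (.leaf 0))) (.node (.node (.leaf 0x8564b5403) (.leaf 0x0)) (.node (.leaf 0x0) (.leaf 0))))) (.node (.node (.node (.node (.leaf 0x0) (.leaf 0x0)) (.node (.leaf 0x0) (.leaf 0))) (.node (.node (.leaf 0xa54b65403) (.leaf 0x0)) (.node (.leaf 0x0) (.leaf 0)))) (.node (.node (.node (.leaf 0x4a775403) (.leaf 0x0)) (.node (.leaf 0x0) (.leaf 0))) (.node (.node (.leaf 0x0) (.leaf 0x0)) (.node (.leaf 0x0) (.leaf 0)))))) (.node (.node (.node (.node (.node (.leaf 0x0) (.leaf 0x0)) (.node (.leaf 0x0) (.leaf 0))) (.node (.node (.leaf 0x64b65403) (.leaf 0x0)) (.node (.leaf 0x0) (.leaf 0)))) (.node (.node (.node (.leaf 0x0) (.leaf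 0x0)) (.node (.leaf 0x0) (.leaf 0))) (.node (.node (.leaf 0x7857b403) (.leaf 0x0)) (.node (.leaf 0x0) (.leaf 0))))) (.node (.node (.node (.node (.leaf 0x0) (.leaf 0x0)) (.node (.leaf 0x0) (.leaf 0))) (.node (.node (.leaf 0xa64b403) (.leaf 0x0)) (.node (.leaf 0x0) (.leaf 0)))) (.node (.node (.node (.leaf 0x66a65403) (.leaf 0x0)) (.node (.leaf 0x0) (.leaf 0))) (.node (.node (.leaf 0x0) (.leaf 0x0)) (.node (.leaf 0x0) (.leaf 0))))))) (.node (.node (.node (.node (.node (.node (.leaf 0x0) (.leaf 0x0)) (.node (.leaf 0x0) (.leaf 0))) (.node (.node (.leaf 0x54a965403) (.leaf 0x0)) (.node (.leaf 0x0) (.leaf 0)))) (.node (.node (.node (.leaf 0x0) (.leaf 0x0)) (.node (.leaf 0x0) (.leaf 0))) (.node (.node (.leaf 0x87a65403) (.leaf 0x0)) (.node (.leaf 0x0) (.leaf 0))))) (.node (.node (.node (.node (.leaf 0x0) (.leaf 0x0)) (.node (.leaf 0x0) (.leaf 0))) (.node (.node (.leaf 0x754a403) (.leaf 0x0)) (.node (.leaf 0x0) (.leaf 0)))) (.node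 (.node (.node (.leaf 0x7956b403) (.leaf 0x0)) (.node (.leaf 0x0) (.leaf 0))) (.node (.node (.leaf 0x0) (.leaf 0x0)) (.node (.leaf 0x0) (.leaf 0)))))) (.node (.node (.node (.node (.node (.leaf 0x0) (.leaf 0x0)) (.node (.leaf 0x0) (.leaf 0))) (.node (.node (.leaf 0x54a403) (.leaf 0x0)) (.node (.leaf 0x0) (.leaf 0)))) (.node (.node (.node (.leaf 0x0) (.leaf 0x0)) (.node (.leaf 0x0) (.leaf 0))) (.node (.node (.leaf 0x64b75403) (.leaf 0x0)) (.node (.leaf 0x0) (.leaf 0))))) (.node (.node (.node (.node (.leaf 0x0) (.leaf 0x0)) (.node (.leaf 0x0) (.leaf 0))) (.node (.node (.leaf 0x774a5403) (.leaf 0x0)) (.node (.leaf 0x0) (.leaf 0)))) (.node (.node (.node (.leaf 0x957a403) (.leaf 0x0)) (.node (.leaf 0x0) (.leaf 0))) (.node (.node (.leaf 0x0) (.leaf 0x0)) (.node (.leaf 0x0) (.leaf 0))))))))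

/-- part of conjugations of the involutions -/
def cwit11 : Trie :=
  (.node (.node (.node (.node (.node (.node (.node (.leaf 0x3403) (.leaf 0x0)) (.node (.leaf 0x0) (.leaf 0))) (.node (.node (.leaf 0x564b5403) (.leaf 0x0)) (.node (.leaf 0x0) (.leaf 0)))) (.node (.node (.node (.leaf 0x0) (.leaf 0x0)) (.node (.leaf 0x0) (.leaf 0))) (.node (.node (.leaf 0x64b5403) (.leaf 0x0)) (.node (.leaf 0x0) (.leaf 0))))) (.node (.node (.node (.node (.leaf 0x0) (.leaf 0x0)) (.node (.leaf 0x0) (.leaf 0))) (.node (.node (.leaf 0x7574b5403) (.leaf 0x0)) (.node (.leaf 0x0) (.leaf 0)))) (.node (.node (.node (.leaf 0xa775403) (.leaf 0x0)) (.node (.leaf 0x0) (.leaf 0))) (.node (.node (.leaf 0x0) (.leaf 0x0)) (.node (.leaf 0x86b434a704) (.leaf 0)))))) (.node (.node (.node (.node (.node (.leaf 0x0) (.leaf 0x0)) (.node (.leaf 0x0) (.leaf 0))) (.node (.node (.leaf 0xa74b65403) (.leaf 0x0)) (.node (.leaf 0x0) (.leaf 0)))) (.node (.node (.node (.leaf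 0x0) (.leaf 0x0)) (.node (.leaf 0x0) (.leaf 0))) (.node (.node (.leaf 0x856a403) (.leaf 0x0)) (.node (.leaf 0x86a74b704) (.leaf 0))))) (.node (.node (.node (.node (.leaf 0x0) (.leaf 0x0)) (.node (.leaf 0x0) (.leaf 0))) (.node (.node (.leaf 0xa64a65403) (.leaf 0x0)) (.node (.leaf 0x0) (.leaf 0)))) (.node (.node (.node (.leaf 0xb65403) (.leaf 0x0)) (.node (.leaf 0x0) (.leaf 0))) (.node (.node (.leaf 0x0) (.leaf 0x0)) (.node (.leaf 0x0) (.leaf 0))))))) (.node (.node (.node (.node (.node (.node (.leaf 0x0) (.leaf 0x0)) (.node (.leaf 0x0) (.leaf 0))) (.node (.node (.leaf 0x864b65403) (.leaf 0x0)) (.node (.leaf 0x0) (.leaf 0)))) (.node (.node (.node (.leaf 0x0) (.leaf 0x0)) (.node (.leaf 0x0) (.leaf 0))) (.node (.node (.leaf 0x7a65403) (.leaf 0x0)) (.node (.leaf 0x0) (.leaf 0))))) (.node (.node (.node (.node (.leaf 0x0) (.leaf 0x0)) (.node (.leaf 0x0) (.leaf 0))) (.node (.node (.leaf 0x74a4a65403) (.leaf 0x0)) (.node (.leaf 0x0)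 (.leaf 0)))) (.node (.node (.node (.leaf 0xb665403) (.leaf 0x0)) (.node (.leaf 0x0) (.leaf 0))) (.node (.node (.leaf 0x0) (.leaf 0x0)) (.node (.leaf 0x0) (.leaf 0)))))) (.node (.node (.node (.node (.node (.leaf 0x0) (.leaf 0x0)) (.node (.leaf 0x6b74b704) (.leaf 0))) (.node (.node (.leaf 0x6a4b65403) (.leaf 0x0)) (.node (.leaf 0x0) (.leaf 0)))) (.node (.node (.node (.leaf 0x7b775403) (.leaf 0x0)) (.node (.leaf 0x0) (.leaf 0))) (.node (.node (.leaf 0x0) (.leaf 0x0)) (.node (.leaf 0x0) (.leaf 0))))) (.node (.node (.node (.node (.leaf 0x0) (.leaf 0x0)) (.node (.leaf 0x0) (.leaf 0))) (.node (.node (.leaf 0x664a403) (.leaf 0x0)) (.node (.leaf 0x0) (.leaf 0)))) (.node (.node (.node (.leaf 0x857a403) (.leaf 0x0)) (.node (.leaf 0x0) (.leaf 0))) (.node (.node (.leaf 0x0) (.leaf 0x0)) (.node (.leaf 0x0) (.leaf 0))))))))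

/-- part of conjugations of the involutions -/
def cwit7 : Trie :=
  (.node (.node (.node (.node (.node (.node (.node (.leaf 0x665403) (.leaf 0x0)) (.node (.leaf 0x0) (.leaf 0))) (.node (.node (.leaf 0x664b5403) (.leaf 0x0)) (.node (.leaf 0x0) (.leaf 0)))) (.node (.node (.node (.leaf 0x0) (.leaf 0x0)) (.node (.leaf 0x0) (.leaf 0))) (.node (.node (.leaf 0x4a65403) (.leaf 0x0)) (.node (.leaf 0x0) (.leaf 0))))) (.node (.node (.node (.node (.leaf 0x0) (.leaf 0x0)) (.node (.leaf 0x0) (.leaf 0))) (.node (.node (.leaf 0x7754a403) (.leaf 0x0)) (.node (.leaf 0x0) (.leaf 0)))) (.node (.node (.node (.leaf 0x7b75403) (.leaf 0x0)) (.node (.leaf 0x0) (.leaf 0))) (.node (.node (.leaf 0x0) (.leaf 0x0)) (.node (.leaf 0x0) (.leaf 0)))))) (.node (.node (.node (.node (.node (.leaf 0x0) (.leaf 0x0)) (.node (.leaf 0x0) (.leaf 0))) (.node (.node (.leaf 0x64b403) (.leaf 0x0)) (.node (.leaf 0x0) (.leaf 0)))) (.node (.node (.node (.leaf 0x0) (.leaf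 0x0)) (.node (.leaf 0x0) (.leaf 0))) (.node (.node (.leaf 0x6a965403) (.leaf 0x0)) (.node (.leaf 0x0) (.leaf 0))))) (.node (.node (.node (.node (.leaf 0x0) (.leaf 0x0)) (.node (.leaf 0x0) (.leaf 0))) (.node (.node (.leaf 0x564a965403) (.leaf 0x0)) (.node (.leaf 0x0) (.leaf 0)))) (.node (.node (.node (.leaf 0xa65403) (.leaf 0x0)) (.node (.leaf 0x0) (.leaf 0))) (.node (.node (.leaf 0x0) (.leaf 0x0)) (.node (.leaf 0x0) (.leaf 0))))))) (.node (.node (.node (.node (.node (.node (.leaf 0x0) (.leaf 0x0)) (.node (.leaf 0x0) (.leaf 0))) (.node (.node (.leaf 0x974a5403) (.leaf 0x0)) (.node (.leaf 0x0) (.leaf 0)))) (.node (.node (.node (.leaf 0x0) (.leaf 0x0)) (.node (.leaf 0x0) (.leaf 0))) (.node (.node (.leaf 0xa5403) (.leaf 0x0)) (.node (.leaf 0x0) (.leaf 0))))) (.node (.node (.node (.node (.leaf 0x0) (.leaf 0x0)) (.node (.leaf 0x0) (.leaf 0))) (.node (.node (.leaf 0x6654a5403) (.leaf 0x0)) (.node (.leaf 0x0) (.leaf 0)))) (.node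 (.node (.node (.leaf 0x4a75403) (.leaf 0x0)) (.node (.leaf 0x0) (.leaf 0))) (.node (.node (.leaf 0x0) (.leaf 0x0)) (.node (.leaf 0x0) (.leaf 0)))))) (.node (.node (.node (.node (.node (.leaf 0x0) (.leaf 0x0)) (.node (.leaf 0x0) (.leaf 0))) (.node (.node (.leaf 0x7a4b65403) (.leaf 0x0)) (.node (.leaf 0x0) (.leaf 0)))) (.node (.node (.node (.leaf 0x0) (.leaf 0x0)) (.node (.leaf 0x0) (.leaf 0))) (.node (.node (.leaf 0x0) (.leaf 0x0)) (.node (.leaf 0x0) (.leaf 0))))) (.node (.node (.node (.node (.leaf 0x0) (.leaf 0x0)) (.node (.leaf 0x0) (.leaf 0))) (.node (.node (.leaf 0x6457a403) (.leaf 0x0)) (.node (.leaf 0x0) (.leaf 0)))) (.node (.node (.node (.leaf 0xa403) (.leaf 0x0)) (.node (.leaf 0x0) (.leaf 0))) (.node (.node (.leaf 0x0) (.leaf 0x0)) (.node (.leaf 0x0) (.leaf 0))))))))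

/-- part of conjugations of the involutions -/
def cwit15 : Trie :=
  (.node (.node (.node (.node (.node (.node (.node (.leaf 0x6653403) (.leaf 0x0)) (.node (.leaf 0x0) (.leaf 0))) (.node (.node (.leaf 0x54b965403) (.leaf 0x0)) (.node (.leaf 0x0) (.leaf 0)))) (.node (.node (.node (.leaf 0x0) (.leaf 0x0)) (.node (.leaf 0x0) (.leaf 0))) (.node (.node (.leaf 0x757b403) (.leaf 0x0)) (.node (.leaf 0x0) (.leaf 0))))) (.node (.node (.node (.node (.leaf 0x0) (.leaf 0x0)) (.node (.leaf 0x0) (.leaf 0))) (.node (.node (.leaf 0x7574a5403) (.leaf 0x0)) (.node (.leaf 0x0) (.leaf 0)))) (.node (.node (.node (.leaf 0x656a403) (.leaf 0x0)) (.node (.leaf 0x0) (.leaf 0))) (.node (.node (.leaf 0x0) (.leaf 0x0)) (.node (.leaf 0x0) (.leaf 0)))))) (.node (.node (.node (.node (.node (.leaf 0x0) (.leaf 0x0)) (.node (.leaf 0x0) (.leaf 0))) (.node (.node (.leaf 0x9574a5403) (.leaf 0x0)) (.node (.leaf 0x0) (.leaf 0)))) (.node (.node (.node (.leaf 0x0)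 (.leaf 0x0)) (.node (.leaf 0x0) (.leaf 0))) (.node (.node (.leaf 0xa75403) (.leaf 0x0)) (.node (.leaf 0x0) (.leaf 0))))) (.node (.node (.node (.node (.leaf 0x0) (.leaf 0x0)) (.node (.leaf 0x0) (.leaf 0))) (.node (.node (.leaf 0x74b5403) (.leaf 0x0)) (.node (.leaf 0x0) (.leaf 0)))) (.node (.node (.node (.leaf 0x97a403) (.leaf 0x0)) (.node (.leaf 0x0) (.leaf 0))) (.node (.node (.leaf 0x0) (.leaf 0x0)) (.node (.leaf 0x7a434a604) (.leaf 0))))))) (.node (.node (.node (.node (.node (.node (.leaf 0x0) (.leaf 0x0)) (.node (.leaf 0x0) (.leaf 0))) (.node (.node (.leaf 0x4a5403) (.leaf 0x0)) (.node (.leaf 0x0) (.leaf 0)))) (.node (.node (.node (.leaf 0x0) (.leaf 0x0)) (.node (.leaf 0x0) (.leaf 0))) (.node (.node (.leaf 0x6a65403) (.leaf 0x0)) (.node (.leaf 0x0) (.leaf 0))))) (.node (.node (.node (.node (.leaf 0x0) (.leaf 0x0)) (.node (.leaf 0x0) (.leaf 0))) (.node (.node (.leaf 0x564a65403) (.leaf 0x0)) (.node (.leaf 0x0) (.leaf 0))))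 (.node (.node (.node (.leaf 0x66b403) (.leaf 0x0)) (.node (.leaf 0x0) (.leaf 0))) (.node (.node (.leaf 0x0) (.leaf 0x0)) (.node (.leaf 0x0) (.leaf 0)))))) (.node (.node (.node (.node (.node (.leaf 0x0) (.leaf 0x0)) (.node (.leaf 0x0) (.leaf 0))) (.node (.node (.leaf 0x4a4a65403) (.leaf 0x0)) (.node (.leaf 0x0) (.leaf 0)))) (.node (.node (.node (.leaf 0x87b565403) (.leaf 0x0)) (.node (.leaf 0x0) (.leaf 0))) (.node (.node (.leaf 0x0) (.leaf 0x0)) (.node (.leaf 0x0) (.leaf 0))))) (.node (.node (.node (.node (.leaf 0x0) (.leaf 0x0)) (.node (.leaf 0x0) (.leaf 0))) (.node (.node (.leaf 0x8457b403) (.leaf 0x0)) (.node (.leaf 0x0) (.leaf 0)))) (.node (.node (.node (.leaf 0x6b5403) (.leaf 0x0)) (.node (.leaf 0x0) (.leaf 0))) (.node (.node (.leaf 0x9653403) (.leaf 0x0)) (.node (.leaf 0x0) (.leaf 0))))))))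

/-- conjugations of the involutions -/
def cwit : Trie :=
  (.node (.node (.node (.node cwit0 cwit8) (.node cwit4 cwit12)) (.node (.node cwit2 cwit10) (.node cwit6 cwit14))) (.node (.node (.node cwit1 cwit9) (.node cwit5 cwit13)) (.node (.node cwit3 cwit11) (.node cwit7 cwit15))))

end

end Cfsg.Agent.ThOut.FusData
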