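import Cfsg.Agent.Lib.ThOut.CardC
import Cfsg.Agent.Lib.ThOut.FusData
import Mathlib.GroupTheory.Sylow
import Mathlib.Data.Nat.Factorization.Basic

/-!
A Sylow 2-subgroup of the Thompson group in the group of words without `b`; all involutions are conjugate
to `a`.
-/

set_option autoImplicit false
set_option maxRecDepth 100000
set_option Elab.async false

namespace Cfsg.Agent.ThOut

open Cfsg.Agent.HN Cfsg.Agent.Th

noncomputable section

/-- The word of element `p` of the 2-group modulo the normal subgroup. -/
def pW (p : ℕ) : List ℕ := (unp (FusData.pseq.get p)).flatMap fun i => FusData.pgens.getD i []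

/-- The generators of the 2-group, their inverses, and the nine generators of the normal subgroup. -/
def pGen (k : ℕ) : List ℕ :=
  bif Nat.blt k 6 then FusData.pgens.getD k []
  else bif Nat.blt k 12 then winv iv11 (FusData.pgens.getD (k - 6) [])
  else Form.qgens.getD (k - 12) []

theorem pwords_ok : allLo (fun p => okSide true (pW p) && (unp (FusData.pseq.get p)).all (fun i => Nat.blt i 6)) 64
    = true ∧ allLo (fun k => okSide true (pGen k)) 21 = true ∧ pW 0 = [] := by decide +kernel

/-- The steps from element `p`. -/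
def pStepOK (p : ℕ) : Bool := allLo (fun k =>
    Nat.blt (pairAt (FusData.pstep.get p) k).1 512 && Nat.blt (pairAt (FusData.pstep.get p) k).2 64 &&
      eqS true (pW p ++ pGen k) (qW (pairAt (FusData.pstep.get p) k).1 ++ pW (pairAt (FusData.pstep.get p) k).2))
    21

theorem pstep_ok0 : allLo (fun p => pStepOK (Nat.add 0 p)) 8 = true := by decide +kernel

theorem pstep_ok1 : allLo (fun p => pStepOK (Nat.add 8 p)) 8 = true := by decide +kernel

theorem pstep_ok2 : allLo (fun p => pStepOK (Nat.add 16 p)) 8 = true := by decide +kernel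

theorem pstep_ok3 : allLo (fun p => pStepOK (Nat.add 24 p)) 8 = true := by decide +kernel

theorem pstep_ok4 : allLo (fun p => pStepOK (Nat.add 32 p)) 8 = true := by decide +kernel

theorem pstep_ok5 : allLo (fun p => pStepOK (Nat.add 40 p)) 8 = true := by decide +kernel

theorem pstep_ok6 : allLo (fun p => pStepOK (Nat.add 48 p)) 8 = true := by decide +kernel

theorem pstep_ok7 : allLo (fun p => pStepOK (Nat.add 56 p)) 8 = true := by decide +kernel

theorem pstep_ok {p : ℕ} (hp : p < 64) : pStepOK p = true := by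
  obtain ⟨i, j, hj, rfl⟩ : ∃ i j, j < 8 ∧ p = 8 * i + j := ⟨p / 8, p % 8, by omega, by omega⟩
  have hi : i < 8 := by omega
  interval_cases i
  · exact allLo_spec pstep_ok0 hj
  · exact allLo_spec pstep_ok1 hj
  · exact allLo_spec pstep_ok2 hj
  · exact allLo_spec pstep_ok3 hj
  · exact allLo_spec pstep_ok4 hj
  · exact allLo_spec pstep_ok5 hj
  · exact allLo_spec pstep_ok6 hj
  · exact allLo_spec pstep_ok7 hj

theorem pdistinct : allLo (fun i => allLo (fun j => !(Nat.beq (endp (pW i) 5) (endp (pW j) 5))) i) 64 = true := by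
  decide +kernel

/-- A number for the action of a word on the base. -/
def qKey (w : List ℕ) : ℕ :=
  List.rec 0 (fun q _ r => Nat.add (pts.actW w q) (Nat.mul 1024 r)) base

theorem qkey_ok : allLo (fun q => Nat.beq (FusData.qord.get (FusData.qpos.get q)) q &&
      Nat.blt (FusData.qpos.get q) 512) 512 = true ∧
    allLo (fun i => Nat.blt (qKey (qW (FusData.qord.get i))) (qKey (qW (FusData.qord.get (Nat.add i 1))))) 511
      = true := by decide +kernel

theorem qW_inj (hinj : Function.Injective psi) {i j : ℕ} (hi : i < 512) (hj : j < 512)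
    (e : wv g11 (qW i) = wv g11 (qW j)) : i = j := by
  have hk : ∀ q, q < 512 → kWord (qW q) = true := fun q hq => by
    have := allLo_spec words_ok.1 hq
    simp only [Bool.and_eq_true] at this
    exact this.1
  have hh := el_of_kWord hinj (hk i hi) (hk j hj) e
  have hkey : qKey (qW i) = qKey (qW j) := by
    simp only [eqH, PModel.eqOn, Bool.and_eq_true, List.all_eq_true, Nat.beq_eq] at hh
    unfold qKey
    obtain ⟨-, hb⟩ := hh
    revert hb
    generalize base = L
    intro hb
    induction L with
    | nil => rfl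
    | cons q L ih =>
      show Nat.add _ (Nat.mul 1024 _) = Nat.add _ (Nat.mul 1024 _)
      rw [(hb q List.mem_cons_self).2, ih fun x hx => hb x (List.mem_cons_of_mem _ hx)]
  have hmono : ∀ n m, n < m → m < 512 →
      qKey (qW (FusData.qord.get n)) < qKey (qW (FusData.qord.get m)) := by
    intro n m hnm
    induction m, hnm using Nat.le_induction with
    | base => intro hm; simpa [Nat.blt_eq] using allLo_spec qkey_ok.2 (i := n) (by omega)
    | succ m hle ih =>
      intro hm
      exact (ih (by omega)).trans (by simpa [Nat.blt_eq] using allLo_spec qkey_ok.2 (i := m) (by omega))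
  have h1 := allLo_spec qkey_ok.1 hi
  have h2 := allLo_spec qkey_ok.1 hj
  simp only [Bool.and_eq_true, Nat.beq_eq, Nat.blt_eq] at h1 h2
  have he : FusData.qpos.get i = FusData.qpos.get j := by
    rcases lt_trichotomy (FusData.qpos.get i) (FusData.qpos.get j) with h | h | h
    · have := hmono _ _ h h2.2; rw [h1.1, h2.1, hkey] at this; omega
    · exact h
    · have := hmono _ _ h h1.2; rw [h1.1, h2.1, hkey] at this; omega
  rw [← h1.1, he, h2.1]

/-- The elements of the 2-group. -/
def InP (x : Cfsg.Spor.Th) : Prop := ∃ q < 512, ∃ p < 64, x = wv g11 (qW q ++ pW p)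

theorem inP_step {x : Cfsg.Spor.Th} (hx : InP x) {k : ℕ} (hk : k < 21) : InP (x * wv g11 (pGen k)) := by
  obtain ⟨q, hq, p, hp, rfl⟩ := hx
  have h := allLo_spec (pstep_ok hp) hk
  simp only [Bool.and_eq_true, Nat.blt_eq] at h
  obtain ⟨⟨h1, h2⟩, h3⟩ := h
  have hs := allLo_spec words_ok.1 h1
  simp only [Bool.and_eq_true, List.all_eq_true, Nat.blt_eq] at hs
  obtain ⟨q', hq', e⟩ := q_closed hq _ hs.2
  refine ⟨q', hq', _, h2, ?_⟩
  rw [← wv_append, List.append_assoc, wv_append g11 (qW q), eqS_eq h3, wv_append g11 (qW q'), ← e,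
    wv_append g11 (qW q) (List.flatMap _ _), mul_assoc, wv_append]
  rfl

/-- The 2-subgroup. -/
def sylS : Subgroup Cfsg.Spor.Th := Subgroup.closure ((fun k => wv g11 (pGen k)) '' {k | k < 21})

theorem pGen_inv {k : ℕ} (hk : k < 12) :
    (wv g11 (pGen k))⁻¹ = wv g11 (pGen (if k < 6 then k + 6 else k - 6)) := by
  have w := wv_winv g11 g11_inv
  interval_cases k
  all_goals
    first
      | exact (w _).symm
      | exact (inv_eq_iff_eq_inv.2 (w _))

theorem qgen_inv {k : ℕ} (hk : k < 9) :
    ∃ q < 512, (wv g11 (Form.qgens.getD k []))⁻¹ = wv g11 (qW q) := by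
  have h : allLo (fun k => eqS true (Form.qgens.getD k [] ++ Form.qgens.getD k []) [] ||
      eqS true (Form.qgens.getD k [] ++ Form.qgens.getD k [] ++ Form.qgens.getD k [] ++ Form.qgens.getD k []) []) 9
      = true := by decide +kernel
  have hh := allLo_spec h hk
  rw [Bool.or_eq_true] at hh
  have hs : ∀ i ∈ List.replicate 3 k, i < 9 := fun i hi => by rw [List.eq_of_mem_replicate hi]; exact hk
  rcases hh with hh | hh
  · obtain ⟨q, hq, e⟩ := q_closed (p := 0) (by norm_num) [k] (by simpa using hk)
    refine ⟨q, hq, ?_⟩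
    rw [words_ok.2.2.1] at e
    rw [← e]
    simp only [List.nil_append, List.flatMap_cons, List.flatMap_nil, List.append_nil]
    have e2 := eqS_eq hh
    rw [wv_append, wv_nil] at e2
    exact inv_eq_of_mul_eq_one_right e2
  · obtain ⟨q, hq, e⟩ := q_closed (p := 0) (by norm_num) _ hs
    refine ⟨q, hq, ?_⟩
    rw [words_ok.2.2.1] at e
    rw [← e]
    simp only [List.nil_append, List.replicate, List.flatMap_cons, List.flatMap_nil, List.append_nil]
    have e2 := eqS_eq hh
    simp only [wv_append, wv_nil] at e2 ⊢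
    exact inv_eq_of_mul_eq_one_right (by rw [← e2]; group)

theorem inP_of_mem {x : Cfsg.Spor.Th} (hx : x ∈ sylS) : InP x := by
  refine Subgroup.closure_induction_right (p := fun x _ => InP x) ?_ ?_ ?_ hx
  · exact ⟨0, by norm_num, 0, by norm_num, by rw [words_ok.2.2.1, pwords_ok.2.2]; rfl⟩
  · rintro x - _ ⟨k, hk, rfl⟩ h
    exact inP_step h hk
  · rintro x - _ ⟨k, hk, rfl⟩ h
    have hk : k < 21 := hk
    show InP (x * (wv g11 (pGen k))⁻¹)
    by_cases h12 : k < 12
    · rw [pGen_inv h12]; exact inP_step h (by split <;> omega)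
    have e : pGen k = Form.qgens.getD (k - 12) [] := by
      interval_cases k <;> first | omega | rfl
    obtain ⟨q, hq, eq⟩ := qgen_inv (k := k - 12) (by omega)
    rw [e, eq]
    have hs := allLo_spec words_ok.1 hq
    simp only [Bool.and_eq_true, List.all_eq_true, Nat.blt_eq] at hs
    unfold qW
    revert h x
    generalize unp (Form.qseq.get q) = s at hs
    intro x h
    replace hs := hs.2
    induction s generalizing x with
    | nil => simpa [wv_nil] using h
    | cons i s ih =>
      rw [List.flatMap_cons, wv_append, ← mul_assoc]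
      refine ih _ ?_ (fun m hm => hs m (List.mem_cons_of_mem _ hm))
      have hi : i < 9 := hs i List.mem_cons_self
      have := inP_step h (k := i + 12) (by omega)
      rwa [show pGen (i + 12) = Form.qgens.getD i [] by interval_cases i <;> rfl] at this

theorem mem_sylS {q p : ℕ} (hq : q < 512) (hp : p < 64) : wv g11 (qW q ++ pW p) ∈ sylS := by
  have hgen : ∀ k, k < 21 → wv g11 (pGen k) ∈ sylS := fun k hk => Subgroup.subset_closure ⟨k, hk, rfl⟩
  have hw : ∀ (L : List (List ℕ)) (o b : ℕ), o + b ≤ 21 → (∀ i < b, pGen (o + i) = L.getD i []) →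
      ∀ s : List ℕ, (∀ i ∈ s, i < b) → wv g11 (s.flatMap fun i => L.getD i []) ∈ sylS := by
    intro L o b hob hL s
    induction s with
    | nil => intro _; exact one_mem _
    | cons i s ih =>
      intro hs
      rw [List.flatMap_cons, wv_append]
      have hi := hs i List.mem_cons_self
      exact mul_mem (hL i hi ▸ hgen (o + i) (by omega)) (ih fun m hm => hs m (List.mem_cons_of_mem _ hm))
  have h1 := allLo_spec words_ok.1 hq
  have h2 := allLo_spec pwords_ok.1 hp
  simp only [Bool.and_eq_true, List.all_eq_true, Nat.blt_eq] at h1 h2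
  rw [wv_append]
  exact mul_mem (hw Form.qgens 12 9 le_rfl (fun i hi => by interval_cases i <;> rfl) _ h1.2)
    (hw FusData.pgens 0 6 (by norm_num) (fun i hi => by interval_cases i <;> rfl) _ h2.2)

theorem sylS_le : sylS ≤ centC := by
  rw [sylS, Subgroup.closure_le]
  rintro _ ⟨k, hk, rfl⟩
  exact mem_centC (allLo_spec pwords_ok.2.1 hk)

theorem card_sylS (hinj : Function.Injective psi) : Nat.card sylS = 32768 := by
  have hb : Function.Bijective
      (fun a : Fin 512 × Fin 64 => (⟨_, mem_sylS a.1.2 a.2.2⟩ : sylS)) := by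
    refine ⟨fun a b e => ?_, fun x => ?_⟩
    · have e : wv g11 (qW a.1 ++ pW a.2) = wv g11 (qW b.1 ++ pW b.2) := congrArg Subtype.val e
      have hok : ∀ c : Fin 512 × Fin 64, okSide true (qW c.1 ++ pW c.2) = true := fun c => by
        refine okS_append (qW_okSide c.1.2) ?_
        have := allLo_spec pwords_ok.1 c.2.2
        simp only [Bool.and_eq_true] at this
        exact this.1
      have h5 : endp (pW a.2) 5 = endp (pW b.2) 5 := by
        have := endp_congr (hok a) (hok b) e (j := 5) (by norm_num)
        rwa [endp_append, endp_append, endp_qW (by norm_num), endp_qW (by norm_num)] at this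
      have h2 : a.2 = b.2 := by
        apply Fin.ext
        rcases lt_trichotomy (a.2 : ℕ) b.2 with h | h | h
        · have := allLo_spec (allLo_spec pdistinct b.2.2) h; simp [h5] at this
        · exact h
        · have := allLo_spec (allLo_spec pdistinct a.2.2) h; simp [h5] at this
      rw [h2, wv_append, wv_append] at e
      exact Prod.ext (Fin.ext (qW_inj hinj a.1.2 b.1.2 (mul_right_cancel e))) h2
    · obtain ⟨q, hq, p, hp, e⟩ := inP_of_mem x.2
      exact ⟨(⟨q, hq⟩, ⟨p, hp⟩), Subtype.ext e.symm⟩
  rw [← Nat.card_eq_of_bijective _ hb, Nat.card_prod, Nat.card_fin, Nat.card_fin]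

/-- The word of a target. -/
def tgtW (t : ℕ) : List ℕ := ([[], [0], [2], [3]] : List (List ℕ)).getD t []

theorem qconj_ok : allLo (fun i => allLo (fun g => Nat.blt (fld (FusData.qconj.get i) g) 512 &&
    eqS true (winv iv11 [from10 i] ++ Form.qgens.getD g [] ++ [from10 i]) (qW (fld (FusData.qconj.get i) g)))
    9) 10 = true := by decide +kernel

/-- The conjugation of an involution modulo the normal subgroup. -/
def pOK (p : ℕ) : Bool :=
  let v := FusData.pwit.get p
  let g := unp (Nat.shiftRight v 20)
  let r := FusData.reps.getD (Nat.land (Nat.shiftRight v 4) 15) []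
  let q := Nat.land (Nat.shiftRight v 8) 4095
  !(Nat.beq (endp (pW p ++ pW p) 5) 5) ||
    (Nat.blt q 512 && Nat.blt (Nat.land (Nat.shiftRight v 4) 15) 3 && okSide true g &&
      eqS true (winv iv11 g ++ pW p ++ g) (qW q ++ r))

theorem p_ok : allLo pOK 64 = true := by decide +kernel

/-- An element over a representative is not an involution, or is conjugate to a target. -/
def cOK (i : ℕ) : Bool :=
  let v := FusData.cwit.get i
  let g := unp (Nat.shiftRight v 8)
  let w := qW (Nat.land i 511) ++ FusData.reps.getD (Nat.shiftRight i 9) []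
  bif Nat.beq v 0 then !(eqS true (w ++ w) [])
  else okSide true g && Nat.blt (Nat.land v 255) 5 &&
    eqS true w (winv iv11 g ++ tgtW (Nat.sub (Nat.land v 255) 1) ++ g)

theorem c_ok0 : allLo (fun i => cOK (Nat.add 0 i)) 128 = true := by decide +kernel

theorem c_ok1 : allLo (fun i => cOK (Nat.add 128 i)) 128 = true := by decide +kernel

theorem c_ok2 : allLo (fun i => cOK (Nat.add 256 i)) 128 = true := by decide +kernel

theorem c_ok3 : allLo (fun i => cOK (Nat.add 384 i)) 128 = true := by decide +kernel

theorem c_ok4 : allLo (fun i => cOK (Nat.add 512 i)) 128 = true := by decide +kernel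

theorem c_ok5 : allLo (fun i => cOK (Nat.add 640 i)) 128 = true := by decide +kernel

theorem c_ok6 : allLo (fun i => cOK (Nat.add 768 i)) 128 = true := by decide +kernel

theorem c_ok7 : allLo (fun i => cOK (Nat.add 896 i)) 128 = true := by decide +kernel

theorem c_ok8 : allLo (fun i => cOK (Nat.add 1024 i)) 128 = true := by decide +kernel

theorem c_ok9 : allLo (fun i => cOK (Nat.add 1152 i)) 128 = true := by decide +kernel

theorem c_ok10 : allLo (fun i => cOK (Nat.add 1280 i)) 128 = true := by decide +kernel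

theorem c_ok11 : allLo (fun i => cOK (Nat.add 1408 i)) 128 = true := by decide +kernel

theorem c_ok {i : ℕ} (hi : i < 1536) : cOK i = true := by
  obtain ⟨k, j, hj, rfl⟩ : ∃ k j, j < 128 ∧ i = 128 * k + j := ⟨i / 128, i % 128, by omega, by omega⟩
  have hk : k < 12 := by omega
  interval_cases k
  · exact allLo_spec c_ok0 hj
  · exact allLo_spec c_ok1 hj
  · exact allLo_spec c_ok2 hj
  · exact allLo_spec c_ok3 hj
  · exact allLo_spec c_ok4 hj
  · exact allLo_spec c_ok5 hj
  · exact allLo_spec c_ok6 hj
  · exact allLo_spec c_ok7 hj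
  · exact allLo_spec c_ok8 hj
  · exact allLo_spec c_ok9 hj
  · exact allLo_spec c_ok10 hj
  · exact allLo_spec c_ok11 hj

/-- The elements of the normal subgroup. -/
def InQ (x : Cfsg.Spor.Th) : Prop := ∃ q < 512, x = wv g11 (qW q)

theorem inQ_mul {x y : Cfsg.Spor.Th} (hx : InQ x) (hy : InQ y) : InQ (x * y) := by
  obtain ⟨p, hp, rfl⟩ := hx
  obtain ⟨q, hq, rfl⟩ := hy
  have hs := allLo_spec words_ok.1 hq
  simp only [Bool.and_eq_true, List.all_eq_true, Nat.blt_eq] at hs
  obtain ⟨q', hq', e⟩ := q_closed hp _ hs.2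
  exact ⟨q', hq', by rw [← e, wv_append]; rfl⟩

theorem inQ_conj {x : Cfsg.Spor.Th} (hx : InQ x) {g : List ℕ} (hg : okSide true g = true) :
    InQ ((wv g11 g)⁻¹ * x * wv g11 g) := by
  induction g generalizing x with
  | nil => simpa [wv_nil] using hx
  | cons l g ih =>
    simp only [okSide, cond_true, List.all_cons, Bool.and_eq_true, Nat.blt_eq, Bool.not_eq_true'] at hg
    obtain ⟨⟨hl, hl1⟩, hg⟩ := hg
    have hl' : to10 l < 10 ∧ from10 (to10 l) = l := by
      interval_cases l <;> first | decide | simp at hl1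
    rw [wv_cons, show (g11 l * wv g11 g)⁻¹ * x * (g11 l * wv g11 g) =
      (wv g11 g)⁻¹ * ((g11 l)⁻¹ * x * g11 l) * wv g11 g by group]
    refine ih ?_ (by simpa [okSide] using hg)
    obtain ⟨q, hq, rfl⟩ := hx
    have hs := allLo_spec words_ok.1 hq
    simp only [Bool.and_eq_true, List.all_eq_true, Nat.blt_eq] at hs
    unfold qW
    generalize unp (Form.qseq.get q) = s at hs
    replace hs := hs.2
    induction s with
    | nil => exact ⟨0, by norm_num, by rw [words_ok.2.2.1]; simp [wv_nil]⟩
    | cons i s ih =>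
      rw [List.flatMap_cons, wv_append,
        show (g11 l)⁻¹ * (wv g11 (Form.qgens.getD i []) * wv g11 (s.flatMap fun i => Form.qgens.getD i [])) * g11 l
          = ((g11 l)⁻¹ * wv g11 (Form.qgens.getD i []) * g11 l) *
            ((g11 l)⁻¹ * wv g11 (s.flatMap fun i => Form.qgens.getD i []) * g11 l) by group]
      refine inQ_mul ?_ (ih fun m hm => hs m (List.mem_cons_of_mem _ hm))
      have h := allLo_spec (allLo_spec qconj_ok hl'.1) (hs i List.mem_cons_self)
      simp only [Bool.and_eq_true, Nat.blt_eq] at h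
      refine ⟨_, h.1, ?_⟩
      rw [← eqS_eq h.2, hl'.2]
      simp only [wv_append, wv_winv g11 g11_inv, wv_singleton]

/-- An involution in the 2-group is conjugate to one of `a`, `c`, `d`. -/
theorem sylS_inv (hinj : Function.Injective psi) {x : Cfsg.Spor.Th} (hx : x ∈ sylS) (h2 : x * x = 1) (h1 : x ≠ 1) :
    IsConj (g11 0) x ∨ IsConj (g11 2) x ∨ IsConj (g11 3) x := by
  obtain ⟨q, hq, p, hp, rfl⟩ := inP_of_mem hx
  have hpw : okSide true (pW p) = true := by
    have := allLo_spec pwords_ok.1 hp
    simp only [Bool.and_eq_true] at this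
    exact this.1
  have hpp := allLo_spec p_ok hp
  simp only [pOK, Bool.or_eq_true, Bool.not_eq_true', Bool.and_eq_true, Nat.blt_eq] at hpp
  have he : endp (pW p ++ pW p) 5 = 5 := by
    have := endp_congr (u := (qW q ++ pW p) ++ (qW q ++ pW p)) (v := [])
      (okS_append (okS_append (qW_okSide hq) hpw) (okS_append (qW_okSide hq) hpw)) rfl
      (by rw [wv_append, h2, wv_nil]) (j := 5) (by norm_num)
    simp only [endp_append] at this
    rw [endp_qW (by norm_num : 5 < 120), endp_qW (endp_lt hpw (by norm_num : 5 < 120))] at this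
    rw [endp_append]
    exact this
  rcases hpp with hpp | ⟨⟨⟨hq1, hr⟩, hg⟩, hconj⟩
  · exact absurd he (Nat.ne_of_beq_eq_false hpp)
  set g := unp (Nat.shiftRight (FusData.pwit.get p) 20)
  set k := Nat.land (Nat.shiftRight (FusData.pwit.get p) 4) 15
  have hconj := eqS_eq hconj
  simp only [wv_append, wv_winv g11 g11_inv] at hconj
  obtain ⟨q', hq', eq'⟩ := inQ_mul (inQ_conj ⟨q, hq, rfl⟩ hg) ⟨_, hq1, rfl⟩
  set y := (wv g11 g)⁻¹ * wv g11 (qW q ++ pW p) * wv g11 g with hy
  have ey : y = wv g11 (qW q' ++ FusData.reps.getD k []) := by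
    rw [hy, wv_append g11 (qW q'), ← eq', mul_assoc _ (wv g11 (qW _)) (wv g11 (List.getD _ _ _)), ← hconj,
      wv_append]
    group
  have hxy : IsConj y (wv g11 (qW q ++ pW p)) := isConj_iff.2 ⟨wv g11 g, by rw [hy]; group⟩
  have hi : q' + 512 * k < 1536 := by omega
  have hland : Nat.land (q' + 512 * k) 511 = q' := by
    show (q' + 512 * k) &&& 511 = q'
    rw [Nat.and_two_pow_sub_one_eq_mod _ 9]
    omega
  have hshift : Nat.shiftRight (q' + 512 * k) 9 = k := by
    show (q' + 512 * k) >>> 9 = k
    rw [Nat.shiftRight_eq_div_pow]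
    omega
  have hc := c_ok hi
  simp only [cOK, hland, hshift] at hc
  cases hv : Nat.beq (FusData.cwit.get (q' + 512 * k)) 0 with
  | true =>
    rw [hv, cond_true, Bool.not_eq_true'] at hc
    exfalso
    have hw : okSide true (qW q' ++ FusData.reps.getD k []) = true := by
      refine okS_append (qW_okSide hq') ?_
      interval_cases k <;> rfl
    have hcontra : eqS true ((qW q' ++ FusData.reps.getD k []) ++ (qW q' ++ FusData.reps.getD k [])) [] =
        true → False := fun h => by rw [h] at hc; exact Bool.noConfusion hc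
    apply hcontra
    have hyy : wv g11 ((qW q' ++ FusData.reps.getD k []) ++ (qW q' ++ FusData.reps.getD k [])) = wv g11 [] := by
      rw [wv_append, ← ey, hy, wv_nil]
      calc _ = (wv g11 g)⁻¹ * (wv g11 (qW q ++ pW p) * wv g11 (qW q ++ pW p)) * wv g11 g := by group
        _ = 1 := by rw [h2]; group
    by_contra hne
    rw [Bool.not_eq_true] at hne
    exact absurd hyy (ne_of_eqS hinj (okS_append hw hw) rfl hne)
  | false =>
    rw [hv, cond_false] at hc
    simp only [Bool.and_eq_true, Nat.blt_eq] at hc
    obtain ⟨⟨-, ht⟩, he'⟩ := hc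
    have he' := eqS_eq he'
    simp only [wv_append, wv_winv g11 g11_inv] at he'
    rw [← wv_append, ← ey] at he'
    set h := wv g11 (unp (Nat.shiftRight (FusData.cwit.get (q' + 512 * k)) 8))
    set t := Nat.sub (Nat.land (FusData.cwit.get (q' + 512 * k)) 255) 1 with htdef
    have hty : IsConj (wv g11 (tgtW t)) y := isConj_iff.2 ⟨h⁻¹, by rw [he']; group⟩
    have htx := hty.trans hxy
    have ht4 : t < 4 := by
      show Nat.land _ 255 - 1 < 4
      omega
    interval_cases t
    · simp only [tgtW, List.getD_cons_zero, wv_nil, isConj_one_right] at htx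
      exact absurd htx h1
    · exact Or.inl (by simpa [tgtW, wv] using htx)
    · exact Or.inr (Or.inl (by simpa [tgtW, wv] using htx))
    · exact Or.inr (Or.inr (by simpa [tgtW, wv] using htx))

end

end Cfsg.Agent.ThOut
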