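import Cfsg.Agent.Lib.ThOut.Solves
import Cfsg.Agent.Lib.ThOut.CentA
import Cfsg.Agent.Lib.ThOut.Fusion
import Mathlib.Algebra.Group.End

/-!
An automorphism of the Thompson group followed by an inner one fixes the group of words without `b` pointwise.
-/

set_option autoImplicit false
set_option maxRecDepth 100000
set_option Elab.async false

namespace Cfsg.Agent.ThOut

open Cfsg.Agent.HN Cfsg.Agent.Th

noncomputable section

/-- Generator `i` as a letter. -/
def gIdx (i : ℕ) : ℕ := ([0, 1, 2, 3, 4, 5, 7, 9] : List ℕ).getD i 11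

/-- Generator `i`. -/
def genT (i : ℕ) : Cfsg.Spor.Th := g11 (gIdx i)

theorem gval_genT {l : ℕ} (hl : l < 16) : gval genT l = g11 (to11 l) := by
  have h := g11_inv
  interval_cases l <;>
    first
      | rfl
      | exact (h _).symm
      | exact ((h _).symm.trans rfl)

theorem wv_gval_genT : ∀ r : List ℕ, (∀ l ∈ r, l < 16) → wv (gval genT) r = wv g11 (r.map to11) := by
  intro r
  induction r with
  | nil => intro _; rfl
  | cons l r ih =>
    intro h
    rw [List.map_cons, wv_cons, wv_cons, gval_genT (h l List.mem_cons_self),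
      ih fun m hm => h m (List.mem_cons_of_mem _ hm)]

variable (φ : MulAut Cfsg.Spor.Th)

theorem map_gval (f : ℕ → Cfsg.Spor.Th) : ∀ r : List ℕ, φ (wv (gval f) r) = wv (gval fun i => φ (f i)) r := by
  intro r
  induction r with
  | nil => exact map_one φ
  | cons l r ih =>
    rw [wv_cons, wv_cons, map_mul, ih]
    congr 1
    unfold gval
    cases Nat.beq (Nat.land l 1) 0
    · exact map_inv φ _
    · rfl

theorem fix_wv {w : List ℕ} (h : ∀ l ∈ w, φ (g11 l) = g11 l) : φ (wv g11 w) = wv g11 w := by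
  induction w with
  | nil => exact map_one φ
  | cons l w ih =>
    rw [wv_cons, map_mul, h l List.mem_cons_self, ih fun m hm => h m (List.mem_cons_of_mem _ hm)]

theorem conj_mul_apply (g x : Cfsg.Spor.Th) : (MulAut.conj g * φ) x = g * φ x * g⁻¹ := rfl

theorem comp_fix {g : Cfsg.Spor.Th} {x : Cfsg.Spor.Th} (h : φ x = g⁻¹ * x * g) :
    (MulAut.conj g * φ) x = x := by
  rw [conj_mul_apply, h]; group

theorem comp_fix' {g : Cfsg.Spor.Th} {x : Cfsg.Spor.Th} (h : φ x = x) (hc : g * x = x * g) :
    (MulAut.conj g * φ) x = x := by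
  rw [conj_mul_apply, h, hc, mul_inv_cancel_right]

theorem a_invol : g11 0 * g11 0 = 1 ∧ g11 0 ≠ 1 := by
  have h : eqS true [0, 0] [] = true ∧ eqS true [0] [] = false := by decide +kernel
  refine ⟨?_, ?_⟩
  · have := eqS_eq h.1; simpa [wv] using this
  · have := ne_of_eqS psi_injective (u := [0]) (v := []) rfl rfl h.2; simpa [wv] using this

/-- Words conjugating `a` to `c` and to `d`. -/
def toC : List ℕ := [1, 0, 2, 1]

/-- Words conjugating `a` to `c` and to `d`. -/
def toD : List ℕ := [1, 9, 1, 3, 2, 1, 10, 1, 9, 3, 2]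

theorem fuse_ok : eqS false (winv iv11 toC ++ [0] ++ toC) [2] = true ∧
    Nat.beq (ThOut.runV ThRep.one (winv iv11 toD ++ [0] ++ toD)) (ThOut.runV ThRep.one [3]) = true := by
  decide +kernel

theorem finite_spor : Finite Cfsg.Spor.Th := Nat.finite_of_card_ne_zero (by rw [card_th]; norm_num)

/-- **All involutions are conjugate.** -/
theorem fused {x : Cfsg.Spor.Th} (h2 : x * x = 1) (h1 : x ≠ 1) : IsConj (g11 0) x := by
  haveI := finite_spor
  haveI : Fact (Nat.Prime 2) := ⟨Nat.prime_two⟩
  have hfac : (90745943887872000 : ℕ).factorization 2 = 15 := by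
    rw [show (90745943887872000 : ℕ) = 2 ^ 15 * 2769346432125 by norm_num,
      Nat.factorization_mul (by norm_num) (by norm_num), Finsupp.add_apply,
      Nat.Prime.factorization_pow Nat.prime_two, Finsupp.single_eq_same,
      Nat.factorization_eq_zero_of_not_dvd (by norm_num), add_zero]
  let P : Sylow 2 Cfsg.Spor.Th := Sylow.ofCard sylS (by rw [card_sylS psi_injective, card_th, hfac]; norm_num)
  have hx : IsPGroup 2 (Subgroup.zpowers x) := by
    refine IsPGroup.of_card (n := 1) ?_
    rw [Nat.card_zpowers, orderOf_eq_prime (by rw [pow_two, h2]) h1, pow_one]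
  obtain ⟨Q, hQ⟩ := hx.exists_le_sylow
  obtain ⟨g, hg⟩ := MulAction.exists_smul_eq Cfsg.Spor.Th Q P
  have hmem : g * x * g⁻¹ ∈ sylS := by
    have h := Subgroup.smul_mem_pointwise_smul x (MulAut.conj g) (Q : Subgroup Cfsg.Spor.Th)
      (hQ (Subgroup.mem_zpowers x))
    have e : ((g • Q : Sylow 2 Cfsg.Spor.Th) : Subgroup Cfsg.Spor.Th) = sylS := by rw [hg]; rfl
    rw [← e]
    exact h
  have hy2 : g * x * g⁻¹ * (g * x * g⁻¹) = 1 := by
    rw [show g * x * g⁻¹ * (g * x * g⁻¹) = g * (x * x) * g⁻¹ by group, h2, mul_one, mul_inv_cancel]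
  have hy1 : g * x * g⁻¹ ≠ 1 := fun h => h1 (conj_eq_one_iff.1 h)
  have hback : IsConj (g * x * g⁻¹) x := isConj_iff.2 ⟨g⁻¹, by group⟩
  have hac : IsConj (g11 0) (g11 2) := by
    refine isConj_iff.2 ⟨(wv g11 toC)⁻¹, ?_⟩
    have e := eqS_eq fuse_ok.1
    simp only [wv_append, wv_winv g11 g11_inv, wv_singleton] at e
    rw [inv_inv, ← e]
  have had : IsConj (g11 0) (g11 3) := by
    refine isConj_iff.2 ⟨(wv g11 toD)⁻¹, ?_⟩
    have e := eq_of_runV hom_injective fuse_ok.2
    simp only [wv_append, wv_winv g11 g11_inv, wv_singleton] at e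
    rw [inv_inv, ← e]
  rcases sylS_inv psi_injective hmem hy2 hy1 with h | h | h
  · exact h.trans hback
  · exact hac.trans (h.trans hback)
  · exact had.trans (h.trans hback)

/-- Some inner automorphism takes the image of `a` back. -/
theorem exists_fix_a : ∃ g : Cfsg.Spor.Th, (MulAut.conj g * φ) (g11 0) = g11 0 := by
  obtain ⟨c, hc⟩ := isConj_iff.1 (fused (x := φ (g11 0)) (by rw [← map_mul, a_invol.1, map_one])
    (fun h => a_invol.2 (φ.injective (h.trans (map_one φ).symm))))
  exact ⟨c⁻¹, by rw [conj_mul_apply, ← hc]; group⟩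

variable {φ}

/-- An automorphism fixing `a` preserves the words without `b`. -/
theorem preserve (ha : φ (g11 0) = g11 0) {x : Cfsg.Spor.Th} (hx : x ∈ centC) : φ x ∈ centC := by
  refine mem_centC_of_comm ?_
  have h := congrArg φ (centC_comm hx)
  rwa [map_mul, map_mul, ha] at h

/-- The hypotheses on a system checked in the group. -/
def Prob.rels (P : Prob) (fixed : List ℕ) : Bool :=
  P.conds.all fun r => r.all (fun l => Nat.blt l 16 && (Nat.beq (Nat.shiftRight l 1) P.slot ||
      fixed.any fun i => Nat.beq (Nat.shiftRight l 1) i)) && eqS true (r.map to11) []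

/-- The image of a generator solves its system. -/
theorem solve_image (ha : φ (g11 0) = g11 0) {P : Prob} (hok : P.wf = true ∧ allLo P.jOK 120 = true)
    {fixed : List ℕ} (hrels : P.rels fixed = true) (hmem : genT P.slot ∈ centC)
    (hfix : ∀ i ∈ fixed, φ (genT i) = wv g11 (P.base.getD i []))
    (hB : φ (wv g11 P.B) = wv g11 P.B) (hA : φ (wv g11 P.A) = wv g11 P.A)
    (hBA : eqS true (P.B ++ [gIdx P.slot]) ([gIdx P.slot] ++ P.A) = true) :
    ∃ T ∈ P.targets, φ (genT P.slot) = wv g11 T := by
  simp only [Prob.rels, List.all_eq_true, Bool.and_eq_true, Nat.blt_eq, Bool.or_eq_true, Nat.beq_eq,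
    List.any_eq_true] at hrels
  refine P.solve psi_injective hok.1 hok.2 (preserve ha hmem) (f := fun i => φ (genT i)) rfl ?_ ?_ ?_
  · intro r hr l hl hne
    obtain ⟨i, hi, e⟩ := ((hrels r hr).1 l hl).2.resolve_left hne
    rw [e]
    exact hfix i hi
  · intro r hr
    rw [← map_gval φ genT r, wv_gval_genT r fun l hl => ((hrels r hr).1 l hl).1, eqS_eq (hrels r hr).2,
      wv_nil, map_one]
  · have e := congrArg φ (eqS_eq hBA)
    simp only [wv_append, wv_singleton, map_mul, hA, hB] at e
    exact e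

theorem gen_mem {i : ℕ} (hi : i < 8) (h1 : i ≠ 1) : genT i ∈ centC := by
  refine ⟨[gIdx i], ?_, (wv_singleton g11 _).symm⟩
  interval_cases i <;> first | rfl | exact absurd rfl h1

theorem s_facts : g11 5 ^ 7 = 1 ∧ g11 5 ≠ 1 := by
  have h : eqS true [5, 5, 5, 5, 5, 5, 5] [] = true ∧ eqS true [5] [] = false := by decide +kernel
  refine ⟨?_, ?_⟩
  · have := eqS_eq h.1; simpa [wv, pow_succ, mul_assoc] using this
  · have := ne_of_eqS psi_injective (u := [5]) (v := []) rfl rfl h.2; simpa [wv] using this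

/-- Words conjugating powers of `s` to `s`. -/
def powConj : List (List ℕ) := [[], [7], [8], [3], [3, 7], [3, 8]]

theorem pow_ok : allLo (fun k => Nat.beq k 0 || powConj.any fun g =>
      okSide true g && eqS true (winv iv11 g ++ [5] ++ g) (List.replicate k 5)) 7 = true := by decide +kernel

/-- Some inner automorphism fixing `a` takes the image of `s` back. -/
theorem exists_fix_s (ha : φ (g11 0) = g11 0) :
    ∃ g : Cfsg.Spor.Th, (MulAut.conj g * φ) (g11 0) = g11 0 ∧ (MulAut.conj g * φ) (g11 5) = g11 5 := by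
  haveI : Fact (Nat.Prime 7) := ⟨by norm_num⟩
  haveI : Finite centC := Nat.finite_of_card_ne_zero (by rw [card_centC psi_injective]; norm_num)
  have hfac : (92897280 : ℕ).factorization 7 = 1 := by
    rw [show (92897280 : ℕ) = 7 ^ 1 * 13271040 by norm_num,
      Nat.factorization_mul (by norm_num) (by norm_num), Finsupp.add_apply,
      Nat.Prime.factorization_pow (by norm_num : Nat.Prime 7), Finsupp.single_eq_same,
      Nat.factorization_eq_zero_of_not_dvd (by norm_num), add_zero]
  have hsC : g11 5 ∈ centC := ⟨[5], rfl, (wv_singleton g11 5).symm⟩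
  have hord : ∀ y : centC, (y : Cfsg.Spor.Th) ^ 7 = 1 → (y : Cfsg.Spor.Th) ≠ 1 → orderOf y = 7 :=
    fun y h h' => orderOf_eq_prime (Subtype.ext h) fun e => h' (congrArg Subtype.val e)
  let u : centC := ⟨g11 5, hsC⟩
  let v : centC := ⟨φ (g11 5), preserve ha hsC⟩
  have hu : orderOf u = 7 := hord u s_facts.1 s_facts.2
  have hv : orderOf v = 7 := hord v (by show φ (g11 5) ^ 7 = 1; rw [← map_pow, s_facts.1, map_one])
    fun h => s_facts.2 (φ.injective (h.trans (map_one φ).symm))
  let P : Sylow 7 centC := Sylow.ofCard (Subgroup.zpowers u) (by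
    rw [Nat.card_zpowers, hu, card_centC psi_injective, hfac]; norm_num)
  let Q : Sylow 7 centC := Sylow.ofCard (Subgroup.zpowers v) (by
    rw [Nat.card_zpowers, hv, card_centC psi_injective, hfac]; norm_num)
  obtain ⟨g, hg⟩ := MulAction.exists_smul_eq centC Q P
  have hmem : g * v * g⁻¹ ∈ Subgroup.zpowers u := by
    have h := Subgroup.smul_mem_pointwise_smul v (MulAut.conj g) (Q : Subgroup centC) (Subgroup.mem_zpowers v)
    have e : ((g • Q : Sylow 7 centC) : Subgroup centC) = Subgroup.zpowers u := by rw [hg]; rfl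
    rw [← e]
    exact h
  rw [← mem_powers_iff_mem_zpowers] at hmem
  obtain ⟨k, hk⟩ := hmem
  have hk7 : u ^ (k % 7) = g * v * g⁻¹ := by rw [← hu, pow_mod_orderOf]; exact hk
  have hlt : k % 7 < 7 := Nat.mod_lt _ (by norm_num)
  have hne : k % 7 ≠ 0 := fun h => by
    rw [h, pow_zero, eq_comm, conj_eq_one_iff] at hk7
    rw [hk7, orderOf_one] at hv
    norm_num at hv
  have hh := allLo_spec pow_ok hlt
  simp only [Bool.or_eq_true, Nat.beq_eq, hne, false_or, List.any_eq_true, Bool.and_eq_true] at hh
  obtain ⟨w, -, hwok, hw⟩ := hh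
  have hrep : ∀ n, wv g11 (List.replicate n 5) = g11 5 ^ n := by
    intro n
    induction n with
    | zero => rfl
    | succ n ih => rw [List.replicate_succ, wv_cons, ih, pow_succ']
  have e := eqS_eq hw
  simp only [wv_append, wv_winv g11 g11_inv, wv_singleton, hrep] at e
  have hk' : g11 5 ^ (k % 7) = (g : Cfsg.Spor.Th) * φ (g11 5) * (g : Cfsg.Spor.Th)⁻¹ := congrArg Subtype.val hk7
  refine ⟨wv g11 w * (g : Cfsg.Spor.Th), comp_fix' φ ha (centC_comm (mul_mem (mem_centC hwok) g.2)).symm, ?_⟩
  rw [conj_mul_apply,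
    show wv g11 w * (g : Cfsg.Spor.Th) * φ (g11 5) * (wv g11 w * (g : Cfsg.Spor.Th))⁻¹ =
      wv g11 w * ((g : Cfsg.Spor.Th) * φ (g11 5) * (g : Cfsg.Spor.Th)⁻¹) * (wv g11 w)⁻¹ by group, ← hk', ← e]
  group

/-- Words conjugating the solutions for `t` to `t`. -/
def tFix (T : List ℕ) : Bool :=
  [[], [5], [5, 5], [5, 5, 5], [5, 5, 5, 5], [5, 5, 5, 5, 5], [5, 5, 5, 5, 5, 5]].any fun g =>
    okSide true g && eqS true (g ++ [5]) ([5] ++ g) && eqS true T (winv iv11 g ++ [7] ++ g)

theorem t_checks : probT.rels [5] = true ∧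
    eqS true (probT.B ++ [gIdx probT.slot]) ([gIdx probT.slot] ++ probT.A) = true ∧
    probT.targets.all tFix = true := by decide +kernel

/-- Some inner automorphism fixing `a` and `s` takes the image of `t` back. -/
theorem exists_fix_t (ha : φ (g11 0) = g11 0) (hs : φ (g11 5) = g11 5) :
    ∃ g : Cfsg.Spor.Th, (MulAut.conj g * φ) (g11 0) = g11 0 ∧ (MulAut.conj g * φ) (g11 5) = g11 5 ∧
      (MulAut.conj g * φ) (g11 7) = g11 7 := by
  obtain ⟨h1, h2, h3⟩ := t_checks
  obtain ⟨T, hT, e⟩ := solve_image ha probT_ok h1 (gen_mem (i := 6) (by norm_num) (by norm_num))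
    (fun i hi => by
      rw [List.mem_singleton] at hi; subst hi
      exact hs.trans (wv_singleton g11 5).symm)
    (fix_wv φ (w := [5]) (by simpa using hs)) (fix_wv φ (w := [5, 5]) (by simpa using hs)) h2
  have h := List.all_eq_true.1 h3 T hT
  simp only [tFix, List.any_eq_true, Bool.and_eq_true] at h
  obtain ⟨g, -, ⟨hg, hgs⟩, hgt⟩ := h
  have hgs := eqS_eq hgs
  simp only [wv_append, wv_singleton] at hgs
  refine ⟨wv g11 g, comp_fix' φ ha (centC_comm (mem_centC hg)).symm, comp_fix' φ hs hgs, comp_fix φ ?_⟩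
  have hgt := eqS_eq hgt
  simp only [wv_append, wv_winv g11 g11_inv, wv_singleton] at hgt
  exact e.trans hgt

/-- The three words as the generators in a relator. -/
def triW (C D E : List ℕ) (i : ℕ) : List ℕ := [[0], [], C, D, E, [5], [7], [9]].getD i []

/-- Words commuting with `s` and `t`. -/
def triWits : List (List ℕ) := [[], [2], [3, 0, 2, 3, 2], [3, 0, 2, 3]]

/-- The triples without a fourth generator. -/
def triBad : List Prob := [probU1, probU2, probU3, probU4]

/-- A triple breaks a relation, is conjugate to `c, d, e`, or has no fourth generator. -/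
def triOK (C D E : List ℕ) : Bool :=
  !(eqS true (subW (triW C D E) [0, 7, 5, 7, 5, 7, 5, 7, 5]) []) ||
  !(eqS true (subW (triW C D E) [4, 8, 4, 8]) []) ||
  !(eqS true (subW (triW C D E) [6, 8, 6, 8, 6, 8]) []) ||
  (triWits.any fun g => okSide true g && eqS true (g ++ [5]) ([5] ++ g) && eqS true (g ++ [7]) ([7] ++ g) &&
    eqS true C (winv iv11 g ++ [2] ++ g) && eqS true D (winv iv11 g ++ [3] ++ g) &&
    eqS true E (winv iv11 g ++ [4] ++ g)) ||
  triBad.any fun P => eqS true C (P.base.getD 2 []) && eqS true D (P.base.getD 3 []) &&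
    eqS true E (P.base.getD 4 [])

theorem cde_checks : probC.rels [0, 5, 6] = true ∧ probD.rels [0, 5, 6] = true ∧ probE.rels [0, 5, 6] = true ∧
    eqS true (probC.B ++ [gIdx probC.slot]) ([gIdx probC.slot] ++ probC.A) = true ∧
    eqS true (probD.B ++ [gIdx probD.slot]) ([gIdx probD.slot] ++ probD.A) = true ∧
    eqS true (probE.B ++ [gIdx probE.slot]) ([gIdx probE.slot] ++ probE.A) = true ∧
    (probC.targets.all fun C => eqW C [] || eqW C [0] || probD.targets.all fun D =>
      probE.targets.all fun E => eqW E [] || triOK C D E) = true ∧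
    eqS true [0, 2] [] = false ∧ eqS true [2] [] = false ∧ eqS true [4] [] = false ∧
    okSide true [0, 2] = true := by decide +kernel

theorem tri_rels : eqS true ([0, 7, 5, 7, 5, 7, 5, 7, 5].map to11) [] = true ∧
    eqS true ([4, 8, 4, 8].map to11) [] = true ∧ eqS true ([6, 8, 6, 8, 6, 8].map to11) [] = true := by
  decide +kernel

theorem u_checks : probU0.rels [0, 2, 3, 4, 5, 6] = true ∧
    eqS true (probU0.B ++ [gIdx probU0.slot]) ([gIdx probU0.slot] ++ probU0.A) = true ∧
    (triBad.all fun P => P.rels [0, 2, 3, 4, 5, 6] && eqW P.B [7] && eqW P.A [8] && Nat.beq P.slot 7 &&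
      eqW (P.base.getD 0 []) [0] && eqW (P.base.getD 5 []) [5] && eqW (P.base.getD 6 []) [7] &&
      Nat.beq P.targets.length 0) = true ∧
    eqS true ([7] ++ [gIdx 7]) ([gIdx 7] ++ [8]) = true := by decide +kernel

theorem triBad_ok : ∀ P ∈ triBad, P.wf = true ∧ allLo P.jOK 120 = true := by
  simp only [triBad, List.forall_mem_cons, List.not_mem_nil, IsEmpty.forall_iff, forall_const, and_true]
  exact ⟨probU1_ok, probU2_ok, probU3_ok, probU4_ok, fun _ => trivial⟩

theorem g11_eight (ht : φ (g11 7) = g11 7) : φ (g11 8) = g11 8 := by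
  rw [show g11 8 = (g11 7)⁻¹ from g11_inv 7, map_inv, ht]

/-- Some inner automorphism takes the images of `a, c, d, e, s, t, u` back. -/
theorem exists_fix_centC (ha : φ (g11 0) = g11 0) (hs : φ (g11 5) = g11 5) (ht : φ (g11 7) = g11 7) :
    ∃ g : Cfsg.Spor.Th, ∀ i ∈ ([0, 2, 3, 4, 5, 6, 7] : List ℕ), (MulAut.conj g * φ) (genT i) = genT i := by
  obtain ⟨rC, rD, rE, bC, bD, bE, htri, hac, hc1, he1, hac'⟩ := cde_checks
  have hw : ∀ w : List ℕ, (∀ l ∈ w, l = 5 ∨ l = 7) → φ (wv g11 w) = wv g11 w := fun w hw =>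
    fix_wv φ fun l hl => by rcases hw l hl with rfl | rfl <;> assumption
  have hf : ∀ P : Prob, P.base = probC.base → ∀ i ∈ ([0, 5, 6] : List ℕ),
      φ (genT i) = wv g11 (P.base.getD i []) := by
    intro P hP i hi
    rw [hP]
    fin_cases hi
    · exact ha.trans (wv_singleton g11 0).symm
    · exact hs.trans (wv_singleton g11 5).symm
    · exact ht.trans (wv_singleton g11 7).symm
  obtain ⟨C, hC, eC⟩ := solve_image ha probC_ok rC (gen_mem (i := 2) (by norm_num) (by norm_num))
    (hf _ rfl) (hw _ (by simp [probC])) (hw _ (by simp [probC])) bC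
  obtain ⟨D, hD, eD⟩ := solve_image ha probD_ok rD (gen_mem (i := 3) (by norm_num) (by norm_num))
    (hf _ rfl) (hw _ (by simp [probD])) (hw _ (by simp [probD])) bD
  obtain ⟨E, hE, eE⟩ := solve_image ha probE_ok rE (gen_mem (i := 4) (by norm_num) (by norm_num))
    (hf _ rfl) (hw _ (by simp [probE])) (hw _ (by simp [probE])) bE
  replace eC : φ (g11 2) = wv g11 C := eC
  replace eD : φ (g11 3) = wv g11 D := eD
  replace eE : φ (g11 4) = wv g11 E := eE
  have h := List.all_eq_true.1 htri C hC
  have hC0 : eqW C [] = false := by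
    by_contra hh
    rw [Bool.not_eq_false] at hh
    rw [eq_of_eqW hh, wv_nil] at eC
    exact ne_of_eqS psi_injective (u := [2]) (v := []) rfl rfl hc1
      ((wv_singleton g11 2).trans (φ.injective (eC.trans (map_one φ).symm)))
  have hC1 : eqW C [0] = false := by
    by_contra hh
    rw [Bool.not_eq_false] at hh
    rw [eq_of_eqW hh, wv_singleton] at eC
    have h20 : g11 2 = g11 0 := φ.injective (eC.trans ha.symm)
    exact ne_of_eqS psi_injective (u := [0, 2]) (v := []) hac' rfl hac
      (by simp only [wv, mul_one, h20, a_invol.1])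
  rw [hC0, hC1, Bool.false_or, Bool.false_or, List.all_eq_true] at h
  have h := List.all_eq_true.1 (h D hD) E hE
  have hE0 : eqW E [] = false := by
    by_contra hh
    rw [Bool.not_eq_false] at hh
    rw [eq_of_eqW hh, wv_nil] at eE
    exact ne_of_eqS psi_injective (u := [4]) (v := []) rfl rfl he1
      ((wv_singleton g11 4).trans (φ.injective (eE.trans (map_one φ).symm)))
  rw [hE0, Bool.false_or] at h
  have hrel : ∀ r : List ℕ, (∀ l ∈ r, l < 14 ∧ Nat.shiftRight l 1 ≠ 1) →
      eqS true (r.map to11) [] = true → eqS true (subW (triW C D E) r) [] = true := by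
    intro r hr hre
    have hok : ∀ i, okSide true (triW C D E i) = true := by
      have hTok : ∀ (P : Prob), P.wf = true → ∀ T ∈ P.targets, okSide true T = true := fun P hP T hT => by
        simp only [Prob.wf, Bool.and_eq_true, List.all_eq_true] at hP
        exact hP.2 T hT
      intro i
      unfold triW
      match i with
      | 0 | 1 | 5 | 6 | 7 => rfl
      | 2 => exact hTok probC probC_ok.1 C hC
      | 3 => exact hTok probD probD_ok.1 D hD
      | 4 => exact hTok probE probE_ok.1 E hE
      | n + 8 => rfl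
    refine (eqS_iff psi_injective (subW_ok hok r) rfl).2 ?_
    rw [wv_subW (f := fun i => φ (genT i)) r, ← map_gval φ genT r,
      wv_gval_genT r (fun l hl => by have := (hr l hl).1; omega), eqS_eq hre, wv_nil, map_one]
    intro l hl
    have h7 : Nat.shiftRight l 1 < 7 := by
      show l >>> 1 < 7
      rw [Nat.shiftRight_eq_div_pow]
      have := (hr l hl).1
      omega
    have h1 := (hr l hl).2
    generalize Nat.shiftRight l 1 = i at h7 h1
    interval_cases i
    · exact (ha.trans (wv_singleton g11 0).symm).symm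
    · exact absurd rfl h1
    · exact eC.symm
    · exact eD.symm
    · exact eE.symm
    · exact (hs.trans (wv_singleton g11 5).symm).symm
    · exact (ht.trans (wv_singleton g11 7).symm).symm
  simp only [triOK, Bool.or_eq_true, Bool.not_eq_true', hrel _ (by decide) tri_rels.1,
    hrel _ (by decide) tri_rels.2.1, hrel _ (by decide) tri_rels.2.2, Bool.true_eq_false, false_or] at h
  rcases h with h | h
  · simp only [List.any_eq_true, Bool.and_eq_true] at h
    obtain ⟨g, -, ⟨⟨⟨⟨hg, hgs⟩, hgt⟩, hgc⟩, hgd⟩, hge⟩ := h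
    have hgs := eqS_eq hgs
    have hgt := eqS_eq hgt
    have hgc := eqS_eq hgc
    have hgd := eqS_eq hgd
    have hge := eqS_eq hge
    simp only [wv_append, wv_winv g11 g11_inv, wv_singleton] at hgs hgt hgc hgd hge
    have fa := comp_fix' φ ha (centC_comm (mem_centC hg)).symm
    have fs := comp_fix' φ hs hgs
    have ft := comp_fix' φ ht hgt
    have fc := comp_fix φ (eC.trans hgc)
    have fd := comp_fix φ (eD.trans hgd)
    have fe := comp_fix φ (eE.trans hge)
    obtain ⟨rU, bU, -, -⟩ := u_checks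
    obtain ⟨U, hU, eU⟩ := solve_image (φ := MulAut.conj (wv g11 g) * φ) fa probU0_ok rU
      (gen_mem (i := 7) (by norm_num) (by norm_num))
      (fun i hi => by
        fin_cases hi
        · exact fa.trans (wv_singleton g11 0).symm
        · exact fc.trans (wv_singleton g11 2).symm
        · exact fd.trans (wv_singleton g11 3).symm
        · exact fe.trans (wv_singleton g11 4).symm
        · exact fs.trans (wv_singleton g11 5).symm
        · exact ft.trans (wv_singleton g11 7).symm)
      (fix_wv _ (w := [7]) (by simpa using ft)) (fix_wv _ (w := [8]) (by simpa using g11_eight ft)) bU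
    simp only [probU0, List.mem_singleton] at hU
    subst hU
    refine ⟨wv g11 g, fun i hi => ?_⟩
    fin_cases hi
    exacts [fa, fc, fd, fe, fs, ft, eU.trans (wv_singleton g11 9)]
  · exfalso
    simp only [List.any_eq_true, Bool.and_eq_true] at h
    obtain ⟨P, hP, ⟨hbc, hbd⟩, hbe⟩ := h
    obtain ⟨-, -, hbad, hb7⟩ := u_checks
    have hh := List.all_eq_true.1 hbad P hP
    simp only [Bool.and_eq_true, Nat.beq_eq] at hh
    obtain ⟨⟨⟨⟨⟨⟨⟨hr, hB⟩, hA⟩, hsl⟩, h0⟩, h5⟩, h6⟩, hlen⟩ := hh
    have hB := eq_of_eqW hB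
    have hA := eq_of_eqW hA
    obtain ⟨T, hT, -⟩ := solve_image ha (triBad_ok P hP) hr
      (hsl ▸ gen_mem (i := 7) (by norm_num) (by norm_num))
      (fun i hi => by
        fin_cases hi
        · exact ha.trans ((wv_singleton g11 0).symm.trans (by rw [eq_of_eqW h0]))
        · exact eC.trans (eqS_eq hbc)
        · exact eD.trans (eqS_eq hbd)
        · exact eE.trans (eqS_eq hbe)
        · exact hs.trans ((wv_singleton g11 5).symm.trans (by rw [eq_of_eqW h5]))
        · exact ht.trans ((wv_singleton g11 7).symm.trans (by rw [eq_of_eqW h6])))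
      (by rw [hB]; exact hw _ (by simp))
      (by rw [hA]; exact fix_wv φ (w := [8]) (by simpa using g11_eight ht))
      (by rw [hB, hA, hsl]; exact hb7)
    rw [List.length_eq_zero_iff.1 hlen] at hT
    exact absurd hT (List.not_mem_nil)

end

end Cfsg.Agent.ThOut
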