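import Cfsg.Agent.Lib.ThOut.Rep
import Cfsg.Agent.Lib.Th.CFold

/-!
Words without `b` give elements whose equality is decided by the labelled table, and their action on the
120 cosets of the labelled table.
-/

set_option autoImplicit false
set_option maxRecDepth 100000
set_option Elab.async false

namespace Cfsg.Agent.ThOut

open Cfsg.Agent.HN Cfsg.Agent.Th

noncomputable section

/-- The word of a node of the tree. -/
def nodeW (fuel : ℕ) : ℕ → List ℕ :=
  Nat.rec (fun _ => []) (fun _ r b =>
    bif Nat.blt (fld (CTable.cert.nodes.get b) 0) b then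
      r (fld (CTable.cert.nodes.get b) 0) ++ [from10 (fld (CTable.cert.nodes.get b) 1)]
    else []) fuel

/-- A word for representative `j`. -/
def tauW (j : ℕ) : List ℕ := nodeW 200 (fld (CTable.cert.fin.get j) 0)

theorem tauW_ok : allLo (fun j => okSide true (tauW j) && Nat.beq (cnorm (tauW j)).1 j &&
    eqH (cnorm (tauW j)).2 []) 120 = true := by decide +kernel

theorem wv_tauW {j : ℕ} (hj : j < 120) : wv g11 (tauW j) = tauC j ∧ okSide true (tauW j) = true := by
  have h := allLo_spec tauW_ok hj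
  simp only [Bool.and_eq_true, Nat.beq_eq] at h
  refine ⟨?_, h.1.1⟩
  rw [cnorm_spec h.1.1, h.1.2, el_eq h.2, el_nil, map_one, one_mul]

/-- Where a word takes a coset. -/
def endp : List ℕ → ℕ → ℕ :=
  List.rec (fun j => j) (fun l _ rest j => rest (stepC j (to10 l)).1)

theorem reps_not_mem : Nat.beq (cosKey (tauW 1)) (cosKey []) = false ∧
    Nat.beq (cosKey (tauW 3)) (cosKey []) = false := by decide +kernel

/-- Words leading from a coset to coset 1 or coset 3. -/
def toRoot : List (List ℕ) :=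
  [[],[], [3], [], [3], [6], [6,6], [5], [5,5], [7,6], [7,5], [5,5,3], [7,6,3], [7,5,3], [8,5,4,5,3], [5,8,4,5,3], [8,4,5,3], [4,3], [5,3], [7,5,4,5,3], [7,6,4,5,3], [5,8,4,6,4,3], [4,5,4,5,3], [6,7,4,5,3], [7,4,5,3], [5,7,4,6,4,3], [7,4,6,4,3], [5,4,5,3], [6,4,5,3], [4,5,3], [6,3], [6,6,3], [5,4,3], [4,5,4,3], [5,4,5,4,3], [7,4,6,3], [5,5,4,3], [6,4,5,4,3], [7,6,4,6,3], [6], [4,6,3], [6,4,6,3], [4,6,4,6,3], [6,6,4,5,3], [7,4,6,3], [5,4,5], [6,8,4,5], [8,4,5], [5], [4,6,3], [6,6], [7,5], [7,6], [5,5], [5,3], [4,5,3], [5,4,5,3], [7,4,6], [5,5,3], [8,3,4,6,3], [8,5,4,6], [5,8,4,6], [6,6,4,5], [6,4,5], [4,5], [6,3,4,6], [7,6,4,5], [8,3,4,6], [4,5,4,5], [5,8,4,6,3], [7,3,4,5], [6,4,5,3], [7,6,4,6], [5,5,4,6], [4,6], [3,4,6], [6,3], [6,6,3], [7,5,3], [7,6,3], [6,4,3], [8,6,4,6], [6,4,6,3], [5,3,4,5], [5,5,4,6,3], [8,4,5,4,3], [8,4,5,3], [3,4,6,3], [6,7,4,5], [8,4,6,3], [7,4,5], [7,4,5,3], [3,4,5], [3,4,5,3], [4,6,4,6], [6,8,4,5,3], [8,4,6,3], [6,4,6], [6,3,4,6,3], [8,6,4,6,3], [7,4,5,4,3],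 [3,4,6,4,3], [4,6,4,3], [5,4,6,3], [5,7,4,6,3], [6,6,4,6,3], [8,5,4,6,3], [3,4,5,4,3], [5,4,6,4,3], [8,4,6,4,3], [6,6,4,3], [5,4,6,3], [7,5,4,3], [7,6,4,3], [8,4,6], [8,3,4,5,4,3], [5,4,6], [7,5,4,5,4,3], [4,5,4,5,4,3], [5,8,4,6,3]]

theorem toRoot_ok : allLo (fun j => Nat.beq j 0 || (okSide true (toRoot.getD j []) &&
    letOK 9 (toRoot.getD j []) && (Nat.beq (endp (toRoot.getD j []) j) 1 ||
      Nat.beq (endp (toRoot.getD j []) j) 3))) 120 = true := by decide +kernel

theorem pairs_ok : allLo (fun i => allLo (fun j => Nat.beq i j ||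
    !(Nat.beq (endp (winv iv11 (tauW j)) i) 0)) 120) 120 = true := by decide +kernel

theorem cfold_lt : ∀ (w : List ℕ) (j : ℕ) (L : List ℕ), okSide true w = true → j < 120 → (cfold w j L).1 < 120 := by
  intro w
  induction w with
  | nil => intro j L _ hj; exact hj
  | cons l w ih =>
    intro j L h hj
    simp only [okSide, cond_true, List.all_cons, Bool.and_eq_true, Nat.blt_eq, Bool.not_eq_true'] at h
    obtain ⟨⟨hl, hb⟩, hw⟩ := h
    have hl10 : to10 l < 10 := by interval_cases l <;> first | decide | simp at hb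
    exact ih _ _ (by simpa [okSide] using hw) (stepC_spec hj hl10).1

theorem endp_eq : ∀ (w : List ℕ) (j : ℕ) (L : List ℕ), endp w j = (cfold w j L).1 := by
  intro w
  induction w with
  | nil => intro j L; rfl
  | cons l w ih => intro j L; exact ih _ _

theorem endp_lt {w : List ℕ} {j : ℕ} (h : okSide true w = true) (hj : j < 120) : endp w j < 120 := by
  rw [endp_eq w j []]; exact cfold_lt w j [] h hj

theorem endp_append : ∀ (u v : List ℕ) (j : ℕ), endp (u ++ v) j = endp v (endp u j) := by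
  intro u
  induction u with
  | nil => intro v j; rfl
  | cons l u ih => intro v j; exact ih _ _

/-- The representatives other than the first lie outside the group of `a, b, c, d, e, s, t`. -/
theorem tauC_not_mem {j : ℕ} (hj : j < 120) (h0 : j ≠ 0) : tauC j ∉ psi.range := by
  rintro ⟨h, hh⟩
  have hc := allLo_spec toRoot_ok hj
  simp only [Bool.or_eq_true, Bool.and_eq_true, Nat.beq_eq, h0, false_or] at hc
  obtain ⟨⟨hw, h9⟩, hend⟩ := hc
  have hs := cfold_spec_acc (toRoot.getD j []) j [] hw hj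
  rw [← psi_el (letOK_spec h9), el_nil, map_one, one_mul, ← hh, ← map_mul, ← endp_eq] at hs
  have hm : ∀ r < 120, Nat.beq (cosKey (tauW r)) (cosKey []) = false →
      endp (toRoot.getD j []) j = r → False := fun r hr hk e => by
    refine not_mem_range hk ?_
    rw [(wv_tauW hr).1]
    rw [e] at hs
    exact ⟨(el (cfold (toRoot.getD j []) j []).2)⁻¹ * (h * el (toRoot.getD j [])),
      by rw [map_mul, hs, map_inv, inv_mul_cancel_left]⟩
  rcases hend with e | e
  · exact hm 1 (by norm_num) reps_not_mem.1 e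
  · exact hm 3 (by norm_num) reps_not_mem.2 e

/-- The representatives lie in different cosets. -/
theorem tauC_inj {i j : ℕ} (hi : i < 120) (hj : j < 120) {h : H0} (e : tauC i = psi h * tauC j) : i = j := by
  by_contra hne
  have hp := allLo_spec (allLo_spec pairs_ok hi) hj
  simp only [Bool.or_eq_true, Nat.beq_eq, hne, false_or, Bool.not_eq_true'] at hp
  have hw := (wv_tauW hj).2
  have hwi : okSide true (winv iv11 (tauW j)) = true := by
    have : allLo (fun j => okSide true (winv iv11 (tauW j))) 120 = true := by decide +kernel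
    exact allLo_spec this hj
  have hs := cfold_spec_acc (winv iv11 (tauW j)) i [] hwi hi
  rw [wv_winv g11 g11_inv, (wv_tauW hj).1, el_nil, map_one, one_mul, e, mul_inv_cancel_right, ← endp_eq] at hs
  refine tauC_not_mem (endp_lt hwi hi) (Nat.ne_of_beq_eq_false hp)
    ⟨(el (cfold (winv iv11 (tauW j)) i []).2)⁻¹ * h, ?_⟩
  rw [map_mul, hs, map_inv, inv_mul_cancel_left]

/-- The table decides equality. -/
theorem eqS_iff (hinj : Function.Injective psi) {u v : List ℕ} (hu : okSide true u = true)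
    (hv : okSide true v = true) : eqS true u v = true ↔ wv g11 u = wv g11 v := by
  refine ⟨eqS_eq, fun e => ?_⟩
  have h1 := cnorm_spec hu
  have h2 := cnorm_spec hv
  rw [e, h2] at h1
  have hj : (cnorm v).1 = (cnorm u).1 :=
    tauC_inj (cnorm_eq_cfold v ▸ cfold_lt v 0 [] hv (by norm_num))
      (cnorm_eq_cfold u ▸ cfold_lt u 0 [] hu (by norm_num))
      (h := (el (cnorm v).2)⁻¹ * el (cnorm u).2) (by rw [map_mul, map_inv, mul_assoc, ← h1, inv_mul_cancel_left])
  rw [← hj] at h1
  have hh := hinj (mul_right_cancel h1)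
  have hp : ∀ w, okSide true w = true → ∀ l ∈ (cnorm w).2, l < pts.k := by
    intro w hw
    have : ∀ (w : List ℕ) (j : ℕ) (L : List ℕ), okSide true w = true → j < 120 → (∀ l ∈ L, l < 9) →
        ∀ l ∈ (cfold w j L).2, l < 9 := by
      intro w
      induction w with
      | nil => intro j L _ _ hL; exact hL
      | cons l w ih =>
        intro j L h hj hL
        simp only [okSide, cond_true, List.all_cons, Bool.and_eq_true, Nat.blt_eq, Bool.not_eq_true'] at h
        obtain ⟨⟨hl, hb⟩, hw⟩ := h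
        have hl10 : to10 l < 10 := by interval_cases l <;> first | decide | simp at hb
        have hlab : (allLo (fun j => allLo (fun l => letOK 9 (stepC j l).2) 10) 120) = true := by decide +kernel
        refine ih _ _ (by simpa [okSide] using hw) (stepC_spec hj hl10).1 fun m hm => ?_
        rcases List.mem_append.1 hm with hm | hm
        · exact hL m hm
        · exact letOK_spec (allLo_spec (allLo_spec hlab hj) hl10) m hm
    exact fun l hl => this w 0 [] hw (by norm_num) (by simp) l (cnorm_eq_cfold w ▸ hl)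
  simp only [eqS, Bool.and_eq_true, cond_true, Nat.beq_eq, eqH, PModel.eqOn, List.all_eq_true, Nat.blt_eq]
  refine ⟨⟨hu, hv⟩, hj.symm, ⟨?_, ?_⟩, fun q hq => ?_⟩
  · simpa [letOK, Nat.blt_eq] using hp u hu
  · simpa [letOK, Nat.blt_eq] using hp v hv
  · have hq' : q < pts.n := by
      have hb : (base.all fun q => Nat.blt q pts.n) = true := by decide +kernel
      simpa [Nat.blt_eq] using List.all_eq_true.1 hb q hq
    refine ⟨hq', ?_⟩
    have := congrArg rep hh
    rw [el, el, rep_wv, rep_wv] at this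
    rw [← wv_sig_inv_apply pts_ok _ (hp u hu) ⟨q, hq'⟩, ← this, wv_sig_inv_apply pts_ok _ (hp v hv)]

/-- The table shows two words different. -/
theorem ne_of_eqS (hinj : Function.Injective psi) {u v : List ℕ} (hu : okSide true u = true)
    (hv : okSide true v = true) (h : eqS true u v = false) : wv g11 u ≠ wv g11 v := fun e => by
  rw [(eqS_iff hinj hu hv).2 e] at h
  exact Bool.noConfusion h

/-- Equal elements move the cosets equally. -/
theorem endp_congr {u v : List ℕ} (hu : okSide true u = true) (hv : okSide true v = true)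
    (e : wv g11 u = wv g11 v) {j : ℕ} (hj : j < 120) : endp u j = endp v j := by
  have h1 := cfold_spec_acc u j [] hu hj
  have h2 := cfold_spec_acc v j [] hv hj
  rw [e, h2] at h1
  rw [endp_eq u j [], endp_eq v j []]
  refine tauC_inj (cfold_lt u j [] hu hj) (cfold_lt v j [] hv hj)
    (h := (el (cfold u j []).2)⁻¹ * el (cfold v j []).2) ?_
  rw [map_mul, map_inv, mul_assoc, h1, inv_mul_cancel_left]

end

end Cfsg.Agent.ThOut
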