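import Cfsg.Agent.Lib.ThOut.FormData
import Cfsg.Agent.Lib.ThOut.CModel

/-!
Every element given by a word without `b` is an element of the normal subgroup of order 512, times one of
1512 coset representatives, times one of 120 representatives.
-/

set_option autoImplicit false
set_option maxRecDepth 100000
set_option Elab.async false

namespace Cfsg.Agent.ThOut

open Cfsg.Agent.HN Cfsg.Agent.Th

noncomputable section

/-- The word of element `q` of the normal subgroup. -/
def qW (q : ℕ) : List ℕ := (unp (Form.qseq.get q)).flatMap fun i => Form.qgens.getD i []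

/-- The word of coset `r` of the normal subgroup. -/
def rW (r : ℕ) : List ℕ := unp (Form.rword.get r)

/-- A letter among `a, c, d, e, s, s⁻¹, t, t⁻¹` in the eleven. -/
def kLet (i : ℕ) : ℕ := ([0, 2, 3, 4, 5, 6, 7, 8] : List ℕ).getD i 11

/-- The index in `sh` of the pair packed as field `i`. -/
def pairAt (v i : ℕ) : ℕ × ℕ :=
  let f := Nat.land (Nat.shiftRight v (Nat.mul 24 i)) 16777215
  (Nat.land f 1023, Nat.shiftRight f 10)

/-- A word in the letters common to the two groups. -/
def kWord (w : List ℕ) : Bool := w.all fun l => Nat.blt l 9 && !(Nat.beq l 1)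

theorem kWord_ok {w : List ℕ} (h : kWord w = true) : okSide true w = true ∧ ∀ l ∈ w, l < 9 := by
  simp only [kWord, List.all_eq_true, Bool.and_eq_true, Nat.blt_eq] at h
  refine ⟨?_, fun l hl => (h l hl).1⟩
  simp only [okSide, cond_true, List.all_eq_true, Bool.and_eq_true, Nat.blt_eq]
  exact fun l hl => ⟨lt_trans (h l hl).1 (by norm_num), (h l hl).2⟩

theorem qgens_ok : (Form.qgens.all kWord) = true ∧ Form.qgens.length = 9 := by decide +kernel

theorem words_ok : allLo (fun q => kWord (qW q) && (unp (Form.qseq.get q)).all fun i => Nat.blt i 9) 512 = true ∧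
    allLo (fun r => kWord (rW r)) 1512 = true ∧ qW 0 = [] ∧ rW 0 = [] := by decide +kernel

theorem qmul_ok : allLo (fun q => allLo (fun i => Nat.blt (fld (Form.qmul.get q) i) 512 &&
    eqS false (qW q ++ Form.qgens.getD i []) (qW (fld (Form.qmul.get q) i))) 9) 512 = true := by decide +kernel

/-- The check of one coset. -/
def rOK (r : ℕ) : Bool := allLo (fun i =>
  Nat.blt (pairAt (Form.rstep.get r) i).1 512 && Nat.blt (pairAt (Form.rstep.get r) i).2 1512 &&
    eqS false (rW r ++ [kLet i]) (qW (pairAt (Form.rstep.get r) i).1 ++ rW (pairAt (Form.rstep.get r) i).2)) 8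

theorem rstep_ok0 : allLo rOK 500 = true := by decide +kernel

theorem rstep_ok1 : allLo (fun r => rOK (Nat.add 500 r)) 500 = true := by decide +kernel

theorem rstep_ok2 : allLo (fun r => rOK (Nat.add 1000 r)) 512 = true := by decide +kernel

theorem rstep_ok {r : ℕ} (hr : r < 1512) : rOK r = true := by
  by_cases h0 : r < 500
  · exact allLo_spec rstep_ok0 h0
  by_cases h1 : r < 1000
  · have := allLo_spec rstep_ok1 (i := r - 500) (by omega)
    rwa [show Nat.add 500 (r - 500) = r from by show 500 + (r - 500) = r; omega] at this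
  have := allLo_spec rstep_ok2 (i := r - 1000) (by omega)
  rwa [show Nat.add 1000 (r - 1000) = r from by show 1000 + (r - 1000) = r; omega] at this

theorem lab_ok : allLo (fun j => allLo (fun l =>
    Nat.blt (pairAt (Form.lab.get j) l).1 512 && Nat.blt (pairAt (Form.lab.get j) l).2 1512 &&
      eqH (stepC j l).2 (qW (pairAt (Form.lab.get j) l).1 ++ rW (pairAt (Form.lab.get j) l).2)) 10) 120 = true := by
  decide +kernel

theorem q_closed {p : ℕ} (hp : p < 512) : ∀ s : List ℕ, (∀ i ∈ s, i < 9) →
    ∃ q < 512, wv g11 (qW p ++ s.flatMap fun i => Form.qgens.getD i []) = wv g11 (qW q) := by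
  intro s
  induction s using List.reverseRecOn with
  | nil => intro _; exact ⟨p, hp, by simp⟩
  | append_singleton s i ih =>
    intro hs
    obtain ⟨q, hq, e⟩ := ih fun j hj => hs j (List.mem_append_left _ hj)
    have hh := allLo_spec (allLo_spec qmul_ok hq) (hs i (by simp))
    simp only [Bool.and_eq_true, Nat.blt_eq] at hh
    refine ⟨_, hh.1, ?_⟩
    rw [List.flatMap_append, ← List.append_assoc, wv_append, e, ← eqS_eq hh.2, wv_append]
    simp

/-- The elements of the common subgroup covered by the two lists. -/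
def InK (x : Cfsg.Spor.Th) : Prop := ∃ q < 512, ∃ r < 1512, x = wv g11 (qW q ++ rW r)

theorem inK_mul {x : Cfsg.Spor.Th} (hx : InK x) : ∀ w : List ℕ, kWord w = true → InK (x * wv g11 w) := by
  intro w
  induction w generalizing x with
  | nil => intro _; simpa [wv_nil] using hx
  | cons l w ih =>
    intro hw
    obtain ⟨q, hq, r, hr, rfl⟩ := hx
    simp only [kWord, List.all_cons, Bool.and_eq_true, Nat.blt_eq, Bool.not_eq_true'] at hw
    obtain ⟨⟨hl, hl1⟩, hw⟩ := hw
    obtain ⟨i, hi, rfl⟩ : ∃ i < 8, kLet i = l := by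
      interval_cases l
      · exact ⟨0, by norm_num, rfl⟩
      · simp at hl1
      · exact ⟨1, by norm_num, rfl⟩
      · exact ⟨2, by norm_num, rfl⟩
      · exact ⟨3, by norm_num, rfl⟩
      · exact ⟨4, by norm_num, rfl⟩
      · exact ⟨5, by norm_num, rfl⟩
      · exact ⟨6, by norm_num, rfl⟩
      · exact ⟨7, by norm_num, rfl⟩
    rw [wv_cons, ← mul_assoc]
    refine ih ?_ (by simpa [kWord] using hw)
    have hh := allLo_spec (rstep_ok hr) hi
    simp only [Bool.and_eq_true, Nat.blt_eq] at hh
    obtain ⟨⟨h1, h2⟩, h3⟩ := hh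
    have hs := allLo_spec words_ok.1 h1
    simp only [Bool.and_eq_true, List.all_eq_true, Nat.blt_eq] at hs
    obtain ⟨q', hq', e⟩ := q_closed hq _ hs.2
    refine ⟨q', hq', _, h2, ?_⟩
    have h3 := eqS_eq h3
    rw [wv_append, wv_singleton] at h3
    rw [wv_append, mul_assoc, h3, wv_append, wv_append, ← mul_assoc]
    congr 1
    rw [← e, wv_append]
    rfl

/-- **The form of an element.** -/
theorem form : ∀ w : List ℕ, okSide true w = true →
    ∃ q < 512, ∃ r < 1512, ∃ j < 120, wv g11 w = wv g11 (qW q ++ rW r ++ tauW j) := by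
  intro w
  induction w using List.reverseRecOn with
  | nil =>
    intro _
    refine ⟨0, by norm_num, 0, by norm_num, 0, by norm_num, ?_⟩
    rw [words_ok.2.2.1, words_ok.2.2.2, wv_append, (wv_tauW (by norm_num : 0 < 120)).1, tauC_zero]
    simp [wv_nil]
  | append_singleton w l ih =>
    intro h
    simp only [okSide, cond_true, List.all_append, List.all_cons, List.all_nil, Bool.and_true,
      Bool.and_eq_true, Nat.blt_eq, Bool.not_eq_true'] at h
    obtain ⟨hw, hl, hb⟩ := h
    obtain ⟨q, hq, r, hr, j, hj, e⟩ := ih (by simpa [okSide] using hw)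
    have hl10 : to10 l < 10 ∧ from10 (to10 l) = l := by
      interval_cases l <;> first | decide | simp at hb
    obtain ⟨hd, hs⟩ := stepC_spec hj hl10.1
    have hh := allLo_spec (allLo_spec lab_ok hj) hl10.1
    simp only [Bool.and_eq_true, Nat.blt_eq] at hh
    obtain ⟨⟨h1, h2⟩, h3⟩ := hh
    have kq := allLo_spec words_ok.1 h1
    simp only [Bool.and_eq_true] at kq
    have kk : kWord (qW (pairAt (Form.lab.get j) (to10 l)).1 ++ rW (pairAt (Form.lab.get j) (to10 l)).2) = true := by
      simp only [kWord, List.all_append, Bool.and_eq_true]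
      exact ⟨kq.1, allLo_spec words_ok.2.1 h2⟩
    obtain ⟨q', hq', r', hr', e'⟩ := inK_mul ⟨q, hq, r, hr, rfl⟩ _ kk
    refine ⟨q', hq', r', hr', _, hd, ?_⟩
    rw [wv_append g11 (qW q' ++ rW r'), ← e', (wv_tauW hd).1, wv_append, wv_singleton, e,
      wv_append g11 (qW q ++ rW r), (wv_tauW hj).1, mul_assoc, mul_assoc,
      show g11 l = g10 (to10 l) by rw [g10, hl10.2], hs, el_eq h3, psi_el (kWord_ok kk).2]

end

end Cfsg.Agent.ThOut
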