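import Mathlib.GroupTheory.Transfer
import Mathlib.GroupTheory.PGroup
import Mathlib.GroupTheory.FixedPointFree

/-!
In a finite group with an involution that commutes only with itself and the identity, that involution inverts
the product of any two involutions.
-/

set_option autoImplicit false

namespace Cfsg.Agent.ThOut

variable {X : Type*} [Group X] [Finite X]

theorem inverts_of_small_centralizer {a : X} (ha : a * a = 1) (ha1 : a ≠ 1)
    (hc : ∀ x, a * x = x * a → x = 1 ∨ x = a) {b b' : X} (hb : b * b = 1) (hb' : b' * b' = 1) (hb1 : b ≠ 1)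
    (hb'1 : b' ≠ 1) : a * (b * b') * a⁻¹ = (b * b')⁻¹ := by
  classical
  haveI : Fact (Nat.Prime 2) := ⟨Nat.prime_two⟩
  have hpz : IsPGroup 2 (Subgroup.zpowers a) := by
    refine IsPGroup.of_card (n := 1) ?_
    rw [Nat.card_zpowers, orderOf_eq_prime (by rw [pow_two, ha]) ha1, pow_one]
  obtain ⟨P, hP⟩ := hpz.exists_le_sylow
  have haP : a ∈ (P : Subgroup X) := hP (Subgroup.mem_zpowers a)
  haveI : Nontrivial (P : Subgroup X) := ⟨⟨⟨a, haP⟩, 1, fun h => ha1 (congrArg Subtype.val h)⟩⟩
  have hsmall : ∀ x ∈ (P : Subgroup X), x = 1 ∨ x = a := by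
    intro x hx
    obtain ⟨⟨z, hz⟩, hz1⟩ := @exists_ne _ P.2.center_nontrivial (1 : Subgroup.center (P : Subgroup X))
    have hza : (z : X) = a := by
      refine (hc z ?_).resolve_left fun h => hz1 (Subtype.ext (Subtype.ext h))
      exact congrArg Subtype.val (Subgroup.mem_center_iff.1 hz ⟨a, haP⟩)
    refine hc x ?_
    have := congrArg Subtype.val (Subgroup.mem_center_iff.1 hz ⟨x, hx⟩)
    simp only [Subgroup.coe_mul, hza] at this
    exact this.symm
  have hcent : Subgroup.normalizer ((P : Subgroup X) : Set X) ≤ Subgroup.centralizer ((P : Subgroup X) : Set X) := by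
    intro g hg
    refine Subgroup.mem_centralizer_iff.2 fun x hx => ?_
    rcases hsmall x hx with rfl | rfl
    · rw [one_mul, mul_one]
    · have h := hsmall _ ((Subgroup.mem_normalizer_iff.1 hg x).1 hx)
      rcases h with h | h
      · exact absurd (conj_eq_one_iff.1 h) ha1
      · exact (mul_inv_eq_iff_eq_mul.1 h).symm
  set K := (MonoidHom.transferSylow P hcent).ker with hK
  have hcompl : Subgroup.IsComplement' K P := MonoidHom.ker_transferSylow_isComplement' P hcent
  have hodd : ∀ x ∈ K, x * x = 1 → x = 1 := by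
    intro x hx hxx
    by_contra h1
    refine MonoidHom.not_dvd_card_ker_transferSylow P hcent ?_
    have := Subgroup.orderOf_dvd_natCard (s := K) hx
    rwa [orderOf_eq_prime (by rw [pow_two, hxx]) h1] at this
  have hfa : MonoidHom.transferSylow P hcent a ≠ 1 := fun h => ha1 (hodd a h ha)
  have hval : ∀ x, MonoidHom.transferSylow P hcent x ≠ 1 →
      MonoidHom.transferSylow P hcent x = MonoidHom.transferSylow P hcent a := by
    intro x hx
    have h1 := (hsmall _ (MonoidHom.transferSylow P hcent x).2).resolve_left fun h => hx (Subtype.ext h)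
    have h2 := (hsmall _ (MonoidHom.transferSylow P hcent a).2).resolve_left fun h => hfa (Subtype.ext h)
    exact Subtype.ext (h1.trans h2.symm)
  have hx : b * b' ∈ K := by
    rw [hK, MonoidHom.mem_ker, map_mul, hval b (fun h => hb1 (hodd b h hb)),
      hval b' (fun h => hb'1 (hodd b' h hb')), ← map_mul, ha, map_one]
  have hnorm : ∀ x ∈ K, a * x * a⁻¹ ∈ K := fun x hx => (inferInstance : K.Normal).conj_mem x hx a
  have hai : a⁻¹ = a := inv_eq_of_mul_eq_one_right ha
  let f : K →* K :=
    { toFun := fun x => ⟨a * x * a⁻¹, hnorm x x.2⟩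
      map_one' := Subtype.ext (by simp)
      map_mul' := fun x y => Subtype.ext (by simp [mul_assoc]) }
  have hfpf : MonoidHom.FixedPointFree f := by
    intro x hxf
    have h : a * (x : X) * a⁻¹ = x := congrArg Subtype.val hxf
    rcases hc x (mul_inv_eq_iff_eq_mul.1 h) with h' | h'
    · exact Subtype.ext h'
    · exact absurd (hodd _ x.2 (by rw [h', ha])) (by rw [h']; exact ha1)
  have hinv : Function.Involutive f := fun x => Subtype.ext (by
    show a * (a * (x : X) * a⁻¹) * a⁻¹ = x
    rw [hai, show a * (a * (x : X) * a) * a = (a * a) * x * (a * a) by group, ha, one_mul, mul_one])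
  exact congrArg Subtype.val (congrFun (hfpf.coe_eq_inv_of_involutive hinv) ⟨b * b', hx⟩)

end Cfsg.Agent.ThOut
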