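import Cfsg.Agent.Lib.ThOut.AutC
import Cfsg.Agent.Lib.ThOut.Invert
import Cfsg.Prelude.Def_KGroupFacts

/-!
Every automorphism of the Thompson group is inner: once the words without `b` are fixed, the image of `b` is
forced.
-/

set_option autoImplicit false
set_option maxRecDepth 100000
set_option Elab.async false

namespace Cfsg.Agent.ThOut

open Cfsg.Agent.HN Cfsg.Agent.Th

noncomputable section

theorem ne_of_eqS_false {u v : List ℕ} (hu : letOK 9 u = true) (hv : letOK 9 v = true)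
    (h : eqH u v = false) : wv g11 u ≠ wv g11 v := by
  intro e
  rw [← psi_el (letOK_spec hu), ← psi_el (letOK_spec hv)] at e
  rw [eqH_of_el (letOK_spec hu) (letOK_spec hv) (psi_injective e)] at h
  exact Bool.noConfusion h

theorem v_eqs :
    eqS false [0, 1, 0, 2, 1] [1, 0, 2, 1, 2] = true ∧ eqS false [2, 1, 0, 2, 1] [1, 0, 2, 1, 0] = true ∧
    eqS false [4, 1, 0, 2, 1] [1, 0, 2, 1, 4] = true ∧ eqS false [5, 1, 0, 2, 1] [1, 0, 2, 1, 5] = true ∧
    eqS false [7, 1, 0, 2, 1] [1, 0, 2, 1, 7] = true ∧ eqS false [1, 0, 2, 1, 1, 0, 2, 1] [] = true ∧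
    eqS false [2, 1, 0, 2, 1, 0] [1, 0, 2, 1] = true ∧
    Nat.beq (runV ThRep.one [9, 1, 0, 2, 1]) (runV ThRep.one [1, 0, 2, 1, 9, 4]) = true := by decide +kernel

theorem v_ne : eqH [0, 1, 0, 2, 1, 0, 1, 0, 2, 1] [] = false ∧ eqH [2, 1, 0, 2, 1, 2, 1, 0, 2, 1] [] = false ∧
    eqH [1, 0, 1, 0] [] = false ∧ eqH [1] [] = false := by decide +kernel

theorem b_eqs : eqS false [1, 1] [] = true ∧ eqS false [1, 3] [3, 1] = true ∧ eqS false [1, 4] [4, 1] = true ∧
    eqS false [1, 5] [5, 1] = true ∧ eqS false [1, 7] [7, 1] = true ∧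
    eqS false [0, 0, 2] [2] = true ∧ eqS false [2, 3, 2, 3, 2, 3, 2, 3] [0] = true ∧
    eqS false [3, 3] [] = true := by decide +kernel

theorem comm_gval {f : ℕ → Cfsg.Spor.Th} {x : Cfsg.Spor.Th} (hx : f 1 = x) {i : ℕ}
    (h : x * f i = f i * x) : wv (gval f) [3, 2 * i + 1, 2, 2 * i] = 1 := by
  have h1 : Nat.shiftRight (2 * i + 1) 1 = i ∧ Nat.beq (Nat.land (2 * i + 1) 1) 0 = false := by
    refine ⟨?_, ?_⟩
    · show (2 * i + 1) >>> 1 = i
      rw [Nat.shiftRight_eq_div_pow]; omega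
    · show Nat.beq ((2 * i + 1) &&& 1) 0 = false
      rw [Nat.and_one_is_mod, show (2 * i + 1) % 2 = 1 by omega]; rfl
  have h2 : Nat.shiftRight (2 * i) 1 = i ∧ Nat.beq (Nat.land (2 * i) 1) 0 = true := by
    refine ⟨?_, ?_⟩
    · show (2 * i) >>> 1 = i
      rw [Nat.shiftRight_eq_div_pow]; omega
    · show Nat.beq ((2 * i) &&& 1) 0 = true
      rw [Nat.and_one_is_mod, show (2 * i) % 2 = 0 by omega]; rfl
  have e3 : gval f 3 = x⁻¹ := by rw [← hx]; rfl
  have e2 : gval f 2 = x := by rw [← hx]; rfl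
  have eo : gval f (2 * i + 1) = (f i)⁻¹ := by unfold gval; rw [h1.2, h1.1]; rfl
  have ee : gval f (2 * i) = f i := by unfold gval; rw [h2.2, h2.1]; rfl
  simp only [wv, e3, e2, eo, ee, mul_one]
  calc x⁻¹ * ((f i)⁻¹ * (x * f i)) = x⁻¹ * ((f i)⁻¹ * (f i * x)) := by rw [h]
    _ = 1 := by group

/-- The generators with an unknown in place of `b`. -/
def fB (x : Cfsg.Spor.Th) (i : ℕ) : Cfsg.Spor.Th := if i = 1 then x else genT i

theorem fB_base {x : Cfsg.Spor.Th} {i : ℕ} (hi : i < 8) (h1 : i ≠ 1) :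
    fB x i = wv g11 (([[0], [], [2], [3], [4], [5], [7], [9]] : List (List ℕ)).getD i []) := by
  interval_cases i <;> first | exact absurd rfl h1 | exact (wv_singleton g11 _).symm

theorem cases_V {g : Cfsg.Spor.Th} (hg : g ∈ centC) (hc : g * g11 2 = g11 2 * g) (he : g * g11 4 = g11 4 * g)
    (hs : g * g11 5 = g11 5 * g) (ht : g * g11 7 = g11 7 * g) (hu : g * g11 9 = g11 9 * g) :
    g = 1 ∨ g = g11 0 ∨ g = g11 2 ∨ g = g11 0 * g11 2 := by
  have hf : ∀ r ∈ probV.conds, ∀ l ∈ r, Nat.shiftRight l 1 ≠ probV.slot →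
      fB g (Nat.shiftRight l 1) = wv g11 (probV.base.getD (Nat.shiftRight l 1) []) := by
    intro r hr l hl hne
    refine fB_base ?_ hne
    have hb : (probV.conds.all fun r => r.all fun l => Nat.blt (Nat.shiftRight l 1) 8) = true := by
      decide +kernel
    simpa [Nat.blt_eq] using List.all_eq_true.1 (List.all_eq_true.1 hb r hr) l hl
  have hcond : ∀ r ∈ probV.conds, wv (gval (fB g)) r = 1 := by
    simp only [probV, List.forall_mem_cons, List.not_mem_nil, IsEmpty.forall_iff, forall_const, and_true]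
    exact ⟨comm_gval (f := fB g) (i := 2) rfl hc, comm_gval (f := fB g) (i := 4) rfl he,
      comm_gval (f := fB g) (i := 5) rfl hs, comm_gval (f := fB g) (i := 6) rfl ht,
      comm_gval (f := fB g) (i := 7) rfl hu⟩
  obtain ⟨T, hT, e⟩ := probV.solve psi_injective probV_ok.1 probV_ok.2 hg (f := fB g) rfl hf hcond
    (by rw [show probV.B = [5] from rfl, show probV.A = [5] from rfl, wv_singleton]; exact hs.symm)
  simp only [probV, List.mem_cons, List.not_mem_nil, or_false] at hT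
  rcases hT with rfl | rfl | rfl | rfl
  · exact Or.inl (e.trans (wv_nil _))
  · exact Or.inr (Or.inl (e.trans (wv_singleton _ _)))
  · exact Or.inr (Or.inr (Or.inl (e.trans (wv_singleton _ _))))
  · exact Or.inr (Or.inr (Or.inr (e.trans (by simp only [wv, mul_one]))))

theorem cases_X {g : Cfsg.Spor.Th} (hg : g ∈ centC) (hd : g * g11 3 = g11 3 * g) (he : g * g11 4 = g11 4 * g)
    (hs : g * g11 5 = g11 5 * g) (ht : g * g11 7 = g11 7 * g) : g = 1 ∨ g = g11 0 := by
  have hf : ∀ r ∈ probX.conds, ∀ l ∈ r, Nat.shiftRight l 1 ≠ probX.slot →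
      fB g (Nat.shiftRight l 1) = wv g11 (probX.base.getD (Nat.shiftRight l 1) []) := by
    intro r hr l hl hne
    refine fB_base ?_ hne
    have hb : (probX.conds.all fun r => r.all fun l => Nat.blt (Nat.shiftRight l 1) 8) = true := by
      decide +kernel
    simpa [Nat.blt_eq] using List.all_eq_true.1 (List.all_eq_true.1 hb r hr) l hl
  have hcond : ∀ r ∈ probX.conds, wv (gval (fB g)) r = 1 := by
    simp only [probX, List.forall_mem_cons, List.not_mem_nil, IsEmpty.forall_iff, forall_const, and_true]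
    exact ⟨comm_gval (f := fB g) (i := 3) rfl hd, comm_gval (f := fB g) (i := 4) rfl he,
      comm_gval (f := fB g) (i := 5) rfl hs, comm_gval (f := fB g) (i := 6) rfl ht⟩
  obtain ⟨T, hT, e⟩ := probX.solve psi_injective probX_ok.1 probX_ok.2 hg (f := fB g) rfl hf hcond
    (by rw [show probX.B = [5] from rfl, show probX.A = [5] from rfl, wv_singleton]; exact hs.symm)
  simp only [probX, List.mem_cons, List.not_mem_nil, or_false] at hT
  rcases hT with rfl | rfl
  · exact Or.inl (e.trans (wv_nil _))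
  · exact Or.inr (e.trans (wv_singleton _ _))

/-- The element `b a c b`. -/
def vEl : Cfsg.Spor.Th := g11 1 * g11 0 * g11 2 * g11 1

theorem vEl_eq : wv g11 [1, 0, 2, 1] = vEl := by simp only [vEl, wv, mul_one, mul_assoc]

/-- The commuting relations of an element with the word. -/
theorem vEl_moves : g11 0 * vEl = vEl * g11 2 ∧ g11 2 * vEl = vEl * g11 0 ∧ g11 4 * vEl = vEl * g11 4 ∧
    g11 5 * vEl = vEl * g11 5 ∧ g11 7 * vEl = vEl * g11 7 ∧ vEl * vEl = 1 ∧
    g11 2 * vEl * g11 0 = vEl ∧ g11 9 * vEl = vEl * (g11 9 * g11 4) := by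
  obtain ⟨h1, h2, h3, h4, h5, h6, h7, h8⟩ := v_eqs
  have h8 := eq_of_runV hom_injective h8
  have h1 := eqS_eq h1
  have h2 := eqS_eq h2
  have h3 := eqS_eq h3
  have h4 := eqS_eq h4
  have h5 := eqS_eq h5
  have h6 := eqS_eq h6
  have h7 := eqS_eq h7
  simp only [wv, mul_one, vEl, mul_assoc] at *
  exact ⟨h1, h2, h3, h4, h5, h6, h7, h8⟩

theorem swap_comm {M : Type*} [Group M] {V V' x y : M} (h : x * V = V * y) (h' : x * V' = V' * y) :
    V' * V⁻¹ * x = x * (V' * V⁻¹) := by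
  calc V' * V⁻¹ * x = V' * V⁻¹ * (x * V) * V⁻¹ := by group
    _ = V' * y * V⁻¹ := by rw [h]; group
    _ = x * (V' * V⁻¹) := by rw [← h']; group

/-- The letters fixed after normalisation. -/
def fixedLetters : List ℕ := [0, 2, 3, 4, 5, 7, 9]

variable {φ : MulAut Cfsg.Spor.Th}

/-- Some inner automorphism also takes back the image of `b a c b`. -/
theorem exists_fix_vEl (hfix : ∀ l ∈ fixedLetters, φ (g11 l) = g11 l) :
    ∃ h : Cfsg.Spor.Th, (∀ l ∈ fixedLetters, (MulAut.conj h * φ) (g11 l) = g11 l) ∧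
      (MulAut.conj h * φ) vEl = vEl := by
  obtain ⟨m0, m2, m4, m5, m7, m6, mc, mu⟩ := vEl_moves
  have f : ∀ l, l ∈ fixedLetters → φ (g11 l) = g11 l := hfix
  have n0 : g11 0 * φ vEl = φ vEl * g11 2 := by
    simpa [map_mul, f 0 (by decide), f 2 (by decide)] using congrArg φ m0
  have n2 : g11 2 * φ vEl = φ vEl * g11 0 := by
    simpa [map_mul, f 0 (by decide), f 2 (by decide)] using congrArg φ m2
  have n4 : g11 4 * φ vEl = φ vEl * g11 4 := by simpa [map_mul, f 4 (by decide)] using congrArg φ m4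
  have n5 : g11 5 * φ vEl = φ vEl * g11 5 := by simpa [map_mul, f 5 (by decide)] using congrArg φ m5
  have n7 : g11 7 * φ vEl = φ vEl * g11 7 := by simpa [map_mul, f 7 (by decide)] using congrArg φ m7
  have nu : g11 9 * φ vEl = φ vEl * (g11 9 * g11 4) := by
    simpa [map_mul, f 9 (by decide), f 4 (by decide)] using congrArg φ mu
  have n6 : φ vEl * φ vEl = 1 := by rw [← map_mul, m6, map_one]
  obtain ⟨g, hgdef⟩ : ∃ g, g = φ vEl * vEl⁻¹ := ⟨_, rfl⟩
  have hV : φ vEl = g * vEl := by rw [hgdef, inv_mul_cancel_right]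
  have hg : g ∈ centC := mem_centC_of_comm (by rw [hgdef]; exact (swap_comm m0 n0).symm)
  have hcases := cases_V hg (hgdef ▸ swap_comm m2 n2) (hgdef ▸ swap_comm m4 n4) (hgdef ▸ swap_comm m5 n5)
    (hgdef ▸ swap_comm m7 n7) (hgdef ▸ swap_comm mu nu)
  rw [hV] at n6
  have w0 : wv g11 [0, 1, 0, 2, 1, 0, 1, 0, 2, 1] = g11 0 * vEl * (g11 0 * vEl) := by
    simp only [wv, vEl, mul_one, mul_assoc]
  have w2 : wv g11 [2, 1, 0, 2, 1, 2, 1, 0, 2, 1] = g11 2 * vEl * (g11 2 * vEl) := by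
    simp only [wv, vEl, mul_one, mul_assoc]
  rcases hcases with h | h | h | h
  · exact ⟨1, fun l hl => by rw [map_one, one_mul]; exact f l hl,
      by rw [map_one, one_mul, hV, h, one_mul]⟩
  · rw [h] at n6
    exact absurd (w0.trans (n6.trans (wv_nil g11).symm)) (ne_of_eqS_false (by decide) (by decide) v_ne.1)
  · rw [h] at n6
    exact absurd (w2.trans (n6.trans (wv_nil g11).symm)) (ne_of_eqS_false (by decide) (by decide) v_ne.2.1)
  · refine ⟨g11 0, fun l hl => comp_fix' φ (f l hl) (centC_comm ?_), ?_⟩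
    · simp only [fixedLetters, List.mem_cons, List.not_mem_nil, or_false] at hl
      rcases hl with rfl | rfl | rfl | rfl | rfl | rfl | rfl <;> exact ⟨[_], rfl, (wv_singleton g11 _).symm⟩
    · rw [conj_mul_apply, hV, h, inv_eq_of_mul_eq_one_right a_invol.1,
        show g11 0 * (g11 0 * g11 2 * vEl) * g11 0 = (g11 0 * g11 0) * (g11 2 * vEl * g11 0) by group,
        a_invol.1, one_mul, mc]

/-- The image of `b` is then `b`. -/
theorem fix_b (hfix : ∀ l ∈ fixedLetters, φ (g11 l) = g11 l) (hV : φ vEl = vEl) : φ (g11 1) = g11 1 := by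
  haveI := finite_spor
  obtain ⟨hbb, hbd, hbe, hbs, hbt, hac, hcd, hdd⟩ := b_eqs
  have hbb := eqS_eq hbb
  have hbd := eqS_eq hbd
  have hbe := eqS_eq hbe
  have hbs := eqS_eq hbs
  have hbt := eqS_eq hbt
  have hac := eqS_eq hac
  have hcd := eqS_eq hcd
  have hdd := eqS_eq hdd
  simp only [wv, mul_one] at hbb hbd hbe hbs hbt hac hcd hdd
  obtain ⟨B, hB⟩ : ∃ B, B = φ (g11 1) := ⟨_, rfl⟩
  have fB2 : B * B = 1 := by rw [hB, ← map_mul, hbb, map_one]
  have hVe : B * g11 0 * g11 2 * B = g11 1 * g11 0 * g11 2 * g11 1 := by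
    have h := hV
    simp only [vEl, map_mul, hfix 0 (by decide), hfix 2 (by decide), ← hB] at h
    exact h
  let S : Subgroup Cfsg.Spor.Th := Subgroup.centralizer {g11 3, g11 4, g11 5, g11 7}
  have memS : ∀ y : Cfsg.Spor.Th, y * g11 3 = g11 3 * y → y * g11 4 = g11 4 * y → y * g11 5 = g11 5 * y →
      y * g11 7 = g11 7 * y → y ∈ S := by
    intro y h3 h4 h5 h7
    refine Subgroup.mem_centralizer_iff.2 fun z hz => ?_
    simp only [Set.mem_insert_iff, Set.mem_singleton_iff] at hz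
    rcases hz with rfl | rfl | rfl | rfl
    exacts [h3.symm, h4.symm, h5.symm, h7.symm]
  have hcC : ∀ l, okSide true [l] = true → g11 0 * g11 l = g11 l * g11 0 := fun l hl =>
    centC_comm ⟨[l], hl, (wv_singleton g11 l).symm⟩
  have haS : g11 0 ∈ S := memS _ (hcC 3 rfl) (hcC 4 rfl) (hcC 5 rfl) (hcC 7 rfl)
  have hbS : g11 1 ∈ S := memS _ hbd hbe hbs hbt
  have hBS : B ∈ S := by
    refine memS _ ?_ ?_ ?_ ?_ <;> rw [hB]
    · simpa [map_mul, hfix 3 (by decide)] using congrArg φ hbd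
    · simpa [map_mul, hfix 4 (by decide)] using congrArg φ hbe
    · simpa [map_mul, hfix 5 (by decide)] using congrArg φ hbs
    · simpa [map_mul, hfix 7 (by decide)] using congrArg φ hbt
  have hb1 : g11 1 ≠ 1 := fun h =>
    ne_of_eqS_false (u := [1]) (v := []) (by decide) (by decide) v_ne.2.2.2
      ((wv_singleton g11 1).trans (h.trans (wv_nil g11).symm))
  have hsmall : ∀ y : S, (⟨g11 0, haS⟩ : S) * y = y * ⟨g11 0, haS⟩ → y = 1 ∨ y = ⟨g11 0, haS⟩ := by
    intro y hy
    have h := Subgroup.mem_centralizer_iff.1 y.2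
    have := cases_X (mem_centC_of_comm (congrArg Subtype.val hy)) (h (g11 3) (by simp)).symm
      (h (g11 4) (by simp)).symm (h (g11 5) (by simp)).symm (h (g11 7) (by simp)).symm
    rcases this with e | e
    · exact Or.inl (Subtype.ext e)
    · exact Or.inr (Subtype.ext e)
  have hinv : g11 0 * (g11 1 * B) * (g11 0)⁻¹ = (g11 1 * B)⁻¹ :=
    congrArg Subtype.val (inverts_of_small_centralizer (X := S) (a := ⟨g11 0, haS⟩)
      (Subtype.ext a_invol.1) (fun h => a_invol.2 (congrArg Subtype.val h)) hsmall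
      (b := ⟨g11 1, hbS⟩) (b' := ⟨B, hBS⟩) (Subtype.ext hbb) (Subtype.ext fB2)
      (fun h => hb1 (congrArg Subtype.val h))
      (fun h => hb1 (φ.injective (hB.symm.trans ((congrArg Subtype.val h).trans (map_one φ).symm)))))
  obtain ⟨x, hx⟩ : ∃ x, x = g11 1 * B := ⟨_, rfl⟩
  rw [← hx] at hinv
  have hxd : x * g11 3 = g11 3 * x := by
    rw [hx]
    exact ((Subgroup.mem_centralizer_iff.1 (mul_mem hbS hBS)) (g11 3) (by simp)).symm
  have hxG : x * (g11 0 * g11 2) = g11 0 * g11 2 * x := by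
    rw [hx]
    calc g11 1 * B * (g11 0 * g11 2) = g11 1 * (B * g11 0 * g11 2 * B) * B := by
          rw [show g11 1 * (B * g11 0 * g11 2 * B) * B = g11 1 * B * (g11 0 * g11 2) * (B * B) by group,
            fB2, mul_one]
      _ = g11 1 * g11 1 * (g11 0 * g11 2) * (g11 1 * B) := by rw [hVe]; group
      _ = _ := by rw [hbb, one_mul]
  have hax : g11 0 * x = x⁻¹ * g11 0 := mul_inv_eq_iff_eq_mul.1 hinv
  have hcx : g11 2 * x = x⁻¹ * g11 2 := by
    calc g11 2 * x = g11 0 * (g11 0 * g11 2 * x) := by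
          conv_lhs => rw [← hac]
          group
      _ = g11 0 * x * (g11 0 * g11 2) := by rw [← hxG]; group
      _ = x⁻¹ * (g11 0 * (g11 0 * g11 2)) := by rw [hax]; group
      _ = _ := by rw [hac]
  have hcxi : g11 2 * x⁻¹ = x * g11 2 := by
    calc g11 2 * x⁻¹ = x * (x⁻¹ * g11 2) * x⁻¹ := by group
      _ = x * (g11 2 * x) * x⁻¹ := by rw [hcx]
      _ = _ := by group
  have hdcd : g11 3 * g11 2 * g11 3 * x = x⁻¹ * (g11 3 * g11 2 * g11 3) := by
    have hxd' : x⁻¹ * g11 3 = g11 3 * x⁻¹ := (show Commute x (g11 3) from hxd).inv_left.eq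
    calc g11 3 * g11 2 * g11 3 * x = g11 3 * (g11 2 * x) * g11 3 := by
          rw [mul_assoc _ (g11 3) x, ← hxd]; group
      _ = (g11 3 * x⁻¹) * g11 2 * g11 3 := by rw [hcx]; group
      _ = _ := by rw [← hxd']; group
  have hz : Commute (g11 2 * (g11 3 * g11 2 * g11 3)) x := by
    show g11 2 * (g11 3 * g11 2 * g11 3) * x = x * (g11 2 * (g11 3 * g11 2 * g11 3))
    calc g11 2 * (g11 3 * g11 2 * g11 3) * x = g11 2 * (g11 3 * g11 2 * g11 3 * x) := by group
      _ = (g11 2 * x⁻¹) * (g11 3 * g11 2 * g11 3) := by rw [hdcd]; group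
      _ = _ := by rw [hcxi]; group
  have hza : g11 2 * (g11 3 * g11 2 * g11 3) * (g11 2 * (g11 3 * g11 2 * g11 3)) = g11 0 := by
    rw [← hcd]; group
  have hcomm : g11 0 * x = x * g11 0 := by
    rw [← hza]
    exact (hz.mul_left hz).eq
  have hxS : x ∈ S := hx ▸ mul_mem hbS hBS
  rcases hsmall ⟨x, hxS⟩ (Subtype.ext hcomm) with e | e
  · have e : g11 1 * B = 1 := hx ▸ congrArg Subtype.val e
    rw [← hB]
    calc B = g11 1 * g11 1 * B := by rw [hbb, one_mul]
      _ = g11 1 * (g11 1 * B) := by group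
      _ = g11 1 := by rw [e, mul_one]
  · exfalso
    have e : g11 1 * B = g11 0 := hx ▸ congrArg Subtype.val e
    have hBv : B = g11 1 * g11 0 := by rw [← e, ← mul_assoc, hbb, one_mul]
    rw [hBv] at fB2
    refine ne_of_eqS_false (u := [1, 0, 1, 0]) (v := []) (by decide) (by decide) v_ne.2.2.1 ?_
    simp only [wv, mul_one]
    rw [← fB2]
    group

/-- An automorphism fixing the eight generators is trivial. -/
theorem eq_one_of_fix (h : ∀ l ∈ fixedLetters, φ (g11 l) = g11 l) (hb : φ (g11 1) = g11 1) : φ = 1 := by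
  refine MulEquiv.ext fun y => ?_
  have e : (φ : Cfsg.Spor.Th ≃* Cfsg.Spor.Th).toMonoidHom = MonoidHom.id _ := by
    refine PresentedGroup.ext fun i => ?_
    cases i
    exacts [h 0 (by decide), hb, h 2 (by decide), h 3 (by decide), h 4 (by decide), h 5 (by decide),
      h 7 (by decide), h 9 (by decide)]
  exact DFunLike.congr_fun e y

/-- Conjugating back keeps the question of being inner. -/
theorem inner_of_comp {g : Cfsg.Spor.Th} (h : MulAut.conj g * φ ∈ Cfsg.Inn Cfsg.Spor.Th) :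
    φ ∈ Cfsg.Inn Cfsg.Spor.Th := by
  have hg : MulAut.conj g ∈ Cfsg.Inn Cfsg.Spor.Th := ⟨g, rfl⟩
  simpa using mul_mem (inv_mem hg) h

/-- **Every automorphism is inner.** -/
theorem all_inner (φ : MulAut Cfsg.Spor.Th) : φ ∈ Cfsg.Inn Cfsg.Spor.Th := by
  obtain ⟨g₁, h₁⟩ := exists_fix_a φ
  refine inner_of_comp (g := g₁) ?_
  obtain ⟨g₂, ha₂, hs₂⟩ := exists_fix_s h₁
  refine inner_of_comp (g := g₂) ?_
  obtain ⟨g₃, ha₃, hs₃, ht₃⟩ := exists_fix_t ha₂ hs₂
  refine inner_of_comp (g := g₃) ?_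
  obtain ⟨g₄, h₄⟩ := exists_fix_centC ha₃ hs₃ ht₃
  refine inner_of_comp (g := g₄) ?_
  obtain ⟨g₅, h₅, hV⟩ := exists_fix_vEl (φ := MulAut.conj g₄ * (MulAut.conj g₃ * (MulAut.conj g₂ *
    (MulAut.conj g₁ * φ)))) (fun l hl => by
      simp only [fixedLetters, List.mem_cons, List.not_mem_nil, or_false] at hl
      rcases hl with rfl | rfl | rfl | rfl | rfl | rfl | rfl
      exacts [h₄ 0 (by decide), h₄ 2 (by decide), h₄ 3 (by decide), h₄ 4 (by decide), h₄ 5 (by decide),
        h₄ 6 (by decide), h₄ 7 (by decide)])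
  refine inner_of_comp (g := g₅) ?_
  rw [eq_one_of_fix h₅ (fix_b h₅ hV)]
  exact one_mem _

/-- The outer automorphism group is trivial. -/
theorem card_out : Nat.card (Cfsg.Out Cfsg.Spor.Th) = 1 := by
  rw [Nat.card_eq_one_iff_unique]
  refine ⟨⟨fun x y => ?_⟩, ⟨1⟩⟩
  induction x using QuotientGroup.induction_on with
  | H a =>
    induction y using QuotientGroup.induction_on with
    | H b => exact QuotientGroup.eq.2 (mul_mem (inv_mem (all_inner a)) (all_inner b))

end

end Cfsg.Agent.ThOut
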