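import Cfsg.Agent.Lib.ThRep.Relators
import Cfsg.Agent.Lib.Th.Present
import Cfsg.Agent.Lib.ThOut.ProjData

/-!
Words evaluated in the 248-dimensional representation, and an invariant separating the cosets of the group of
`a, b, c, d, e, s, t`.
-/

set_option autoImplicit false
set_option maxRecDepth 100000

namespace Cfsg.Agent.ThOut

open Cfsg.Agent.HN Cfsg.Agent.ThRep
open Cfsg.Spor.Th (Gen)

noncomputable section

/-- The matrix of a letter among `a, b, c, d, e, s, s⁻¹, t, t⁻¹, u, u⁻¹`. -/
def matL (l : ℕ) : ℕ :=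
  [genN .a, genN .b, genN .c, genN .d, genN .e, genN .s, invN .s, genN .t, invN .t, genN .u, invN .u].getD l one

theorem hom_g11 (l : ℕ) : IsMat (matL l) (hom (Th.g11 l)) := by
  match l with
  | 0 | 1 | 2 | 3 | 4 | 5 | 7 | 9 =>
    simp [matL, Th.g11, Th.fgen11, hom_mk, isMat_gen]
  | 6 | 8 | 10 => simp [matL, Th.g11, Th.fgen11, hom_mk, isMat_inv]
  | k + 11 => simpa [matL, Th.g11, Th.fgen11] using isMat_one

theorem matL_ok (l : ℕ) : matOK (matL l) = true := (hom_g11 l).1

/-- A matrix times the matrices of a word. -/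
def runV (v : ℕ) : List ℕ → ℕ
  | [] => v
  | l :: w => runV (mulP v (matL l)) w

theorem runV_spec : ∀ (w : List ℕ) {v : ℕ}, matOK v = true →
    matOK (runV v w) = true ∧ toM (runV v w) = toM v * (hom (wv Th.g11 w) : M248) := by
  intro w
  induction w with
  | nil => intro v hv; exact ⟨hv, by rw [wv_nil, map_one, Units.val_one, mul_one]; rfl⟩
  | cons l w ih =>
    intro v hv
    obtain ⟨h1, h2⟩ := ih (mulP_matOK hv (matL_ok l))
    refine ⟨h1, h2.trans ?_⟩
    rw [toM_mulP hv (matL_ok l), (hom_g11 l).2, wv_cons, map_mul, Units.val_mul, mul_assoc]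

theorem proj_ok : matOK matP = true := by decide +kernel

theorem vec_ok : matOK vec0 = true := by decide +kernel

theorem proj_comm : allLo (fun l => Nat.beq (mulP matP (matL l)) (mulP (matL l) matP)) 9 = true := by
  decide +kernel

/-- The projection commutes with the images of the group of `a, b, c, d, e, s, t`. -/
theorem proj_psi (h : Th.H0) :
    toM matP * (hom (Th.psi h) : M248) = (hom (Th.psi h) : M248) * toM matP := by
  have hh : h ∈ Subgroup.closure (Th.g9 '' {l | l < 9}) := by rw [Th.closure_g9]; trivial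
  induction hh using Subgroup.closure_induction with
  | mem x hx =>
    obtain ⟨l, hl, rfl⟩ := hx
    have e : Th.psi (Th.g9 l) = Th.g11 l := by
      have := Th.psi_el (w := [l]) (by simpa using hl)
      rwa [Th.el, wv_singleton, wv_singleton] at this
    have h := congrArg toM (Nat.eq_of_beq_eq_true (allLo_spec proj_comm hl))
    rw [toM_mulP proj_ok (matL_ok l), toM_mulP (matL_ok l) proj_ok] at h
    rw [e, ← (hom_g11 l).2]
    exact h
  | one => rw [map_one, map_one, Units.val_one, mul_one, one_mul]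
  | mul x y _ _ hx hy => rw [map_mul, map_mul, Units.val_mul, ← mul_assoc, hx, mul_assoc, hy, mul_assoc]
  | inv x _ hx =>
    have h1 : Commute (toM matP) (hom (Th.psi x) : M248) := hx
    rw [map_inv, map_inv]
    exact h1.units_inv_right.eq

/-- The invariant of the coset of a word. -/
def cosKey (w : List ℕ) : ℕ := runV (mulP (runV vec0 (winv Th.iv11 w)) matP) w

theorem units_cancel {R : Type*} [Monoid R] (V P : R) (h g : Rˣ) (hc : Commute P (h : R)) :
    V * ((h * g)⁻¹ : Rˣ) * P * ((h * g : Rˣ) : R) = V * (g⁻¹ : Rˣ) * P * (g : R) := by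
  rw [mul_inv_rev, Units.val_mul, Units.val_mul]
  calc V * ((g⁻¹ : Rˣ) * (h⁻¹ : Rˣ)) * P * ((h : R) * (g : R))
      = V * (g⁻¹ : Rˣ) * ((h⁻¹ : Rˣ) : R) * (P * (h : R)) * (g : R) := by simp only [mul_assoc]
    _ = V * (g⁻¹ : Rˣ) * (((h⁻¹ : Rˣ) : R) * (h : R)) * P * (g : R) := by
        rw [hc.eq]; simp only [mul_assoc]
    _ = _ := by rw [Units.inv_mul, mul_one]

/-- The invariant as a matrix, for any row and projection in normal form. -/
theorem key_mat {V P : ℕ} (hV : matOK V = true) (hP : matOK P = true) (w : List ℕ) :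
    matOK (runV (mulP (runV V (winv Th.iv11 w)) P) w) = true ∧
      toM (runV (mulP (runV V (winv Th.iv11 w)) P) w) =
        toM V * ((hom (wv Th.g11 w))⁻¹ : M248ˣ) * toM P * (hom (wv Th.g11 w) : M248) := by
  obtain ⟨a1, a2⟩ := runV_spec (winv Th.iv11 w) hV
  obtain ⟨b1, b2⟩ := runV_spec w (mulP_matOK a1 hP)
  refine ⟨b1, b2.trans ?_⟩
  rw [toM_mulP a1 hP, a2, wv_winv Th.g11 Th.g11_inv, map_inv]

/-- Words in one coset of the group of `a, b, c, d, e, s, t` have equal invariants. -/
theorem cosKey_eq {u v : List ℕ} {h : Th.H0} (e : wv Th.g11 u = Th.psi h * wv Th.g11 v) :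
    cosKey u = cosKey v := by
  unfold cosKey
  obtain ⟨u1, u2⟩ := key_mat vec_ok proj_ok u
  obtain ⟨v1, v2⟩ := key_mat vec_ok proj_ok v
  refine toM_inj u1 v1 ?_
  rw [u2, v2, e, map_mul]
  exact units_cancel _ _ _ _ (proj_psi h)

/-- A check that a word is outside the group of `a, b, c, d, e, s, t`. -/
theorem not_mem_range {w : List ℕ} (h : Nat.beq (cosKey w) (cosKey []) = false) :
    wv Th.g11 w ∉ Th.psi.range := by
  rintro ⟨x, hx⟩
  have := cosKey_eq (u := w) (v := []) (h := x) (by rw [wv_nil, mul_one, hx])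
  exact Nat.ne_of_beq_eq_false h this

/-- Two words giving equal matrices are equal, the representation being faithful. -/
theorem eq_of_runV (hinj : Function.Injective hom) {u v : List ℕ} (h : Nat.beq (runV one u) (runV one v) = true) :
    wv Th.g11 u = wv Th.g11 v := by
  refine hinj (Units.ext ?_)
  have hu := (runV_spec u one_matOK).2
  have hv := (runV_spec v one_matOK).2
  rw [toM_one, one_mul] at hu hv
  rw [← hu, ← hv, Nat.eq_of_beq_eq_true h]

end

end Cfsg.Agent.ThOut
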