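import Cfsg.Agent.Lib.ThOut.Form

/-!
Solving systems of words for one unknown in the centraliser of `a`: the cosets of the table fixed by a
conjugation relation, the cosets of the normal subgroup passing the relations on points, then the normal
subgroup itself.
-/

set_option autoImplicit false
set_option maxRecDepth 100000
set_option Elab.async false

namespace Cfsg.Agent.ThOut

open Cfsg.Agent.HN Cfsg.Agent.Th

noncomputable section

theorem okS_append {u v : List ℕ} (hu : okSide true u = true) (hv : okSide true v = true) :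
    okSide true (u ++ v) = true := by
  simp_all [okSide]

/-- The subgroup of words without `b`. -/
def centC : Subgroup Cfsg.Spor.Th where
  carrier := {x | ∃ w, okSide true w = true ∧ x = wv g11 w}
  one_mem' := ⟨[], rfl, (wv_nil g11).symm⟩
  mul_mem' := by
    rintro _ _ ⟨u, hu, rfl⟩ ⟨v, hv, rfl⟩
    exact ⟨u ++ v, okS_append hu hv, (wv_append g11 u v).symm⟩
  inv_mem' := by
    rintro _ ⟨u, hu, rfl⟩
    refine ⟨winv iv11 u, ?_, (wv_winv g11 g11_inv u).symm⟩
    simp only [okSide, cond_true, winv, List.all_eq_true, List.mem_reverse, List.mem_map,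
      Bool.and_eq_true, Nat.blt_eq, Bool.not_eq_true'] at hu ⊢
    rintro _ ⟨l, hl, rfl⟩
    obtain ⟨h1, h2⟩ := hu l hl
    interval_cases l <;> first | exact ⟨by decide, rfl⟩ | simp_all [iv11]

theorem mem_centC {w : List ℕ} (h : okSide true w = true) : wv g11 w ∈ centC := ⟨w, h, rfl⟩

theorem okSide_winv {w : List ℕ} (h : okSide true w = true) : okSide true (winv iv11 w) = true := by
  simp only [okSide, cond_true, winv, List.all_eq_true, List.mem_reverse, List.mem_map,
    Bool.and_eq_true, Nat.blt_eq, Bool.not_eq_true'] at h ⊢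
  rintro _ ⟨l, hl, rfl⟩
  obtain ⟨h1, h2⟩ := h l hl
  interval_cases l <;> first | exact ⟨by decide, rfl⟩ | simp_all [iv11]

theorem eqH_of_el {u v : List ℕ} (hu : ∀ l ∈ u, l < 9) (hv : ∀ l ∈ v, l < 9) (e : el u = el v) :
    eqH u v = true := by
  simp only [eqH, PModel.eqOn, Bool.and_eq_true, List.all_eq_true, Nat.blt_eq, Nat.beq_eq]
  refine ⟨⟨?_, ?_⟩, fun q hq => ?_⟩
  · simpa [letOK, Nat.blt_eq, pts] using hu
  · simpa [letOK, Nat.blt_eq, pts] using hv
  · have hb : (base.all fun q => Nat.blt q pts.n) = true := by decide +kernel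
    have hq' : q < pts.n := by simpa [Nat.blt_eq] using List.all_eq_true.1 hb q hq
    refine ⟨hq', ?_⟩
    have := congrArg rep e
    rw [el, el, rep_wv, rep_wv] at this
    rw [← wv_sig_inv_apply pts_ok u (fun l hl => by simpa [pts] using hu l hl) ⟨q, hq'⟩, this,
      wv_sig_inv_apply pts_ok v (fun l hl => by simpa [pts] using hv l hl)]

theorem el_of_kWord (hinj : Function.Injective psi) {u v : List ℕ} (hu : kWord u = true) (hv : kWord v = true)
    (e : wv g11 u = wv g11 v) : eqH u v = true := by
  refine eqH_of_el (kWord_ok hu).2 (kWord_ok hv).2 (hinj ?_)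
  rw [psi_el (kWord_ok hu).2, psi_el (kWord_ok hv).2, e]

theorem endp_cEnd : ∀ (w : List ℕ) (j : ℕ), endp w j = cEnd w j := by
  intro w
  induction w with
  | nil => intro j; rfl
  | cons l w ih =>
    intro j
    show endp w (stepC j (to10 l)).1 = force (stepC j (to10 l)).1 (cEnd w)
    rw [ih, force_eq]

theorem qgens_fix : (Form.qgens.all fun w => allLo (fun p => Nat.beq (cEnd w p) p) 120) = true := by
  decide +kernel

theorem endp_qW {q p : ℕ} (hp : p < 120) : endp (qW q) p = p := by
  unfold qW
  generalize unp (Form.qseq.get q) = s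
  induction s with
  | nil => rfl
  | cons i s ih =>
    rw [List.flatMap_cons, endp_append]
    rcases lt_or_ge i Form.qgens.length with hi | hi
    · rw [List.getD_eq_getElem _ _ hi, endp_cEnd (Form.qgens[i]),
        Nat.eq_of_beq_eq_true (allLo_spec (List.all_eq_true.1 qgens_fix _ (List.getElem_mem hi)) hp), ih]
    · rw [List.getD_eq_default _ _ hi]; exact ih

theorem qW_okSide {q : ℕ} (hq : q < 512) : okSide true (qW q) = true := by
  have := allLo_spec words_ok.1 hq
  simp only [Bool.and_eq_true] at this
  exact (kWord_ok this.1).1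

theorem endp_qW_inv {q p : ℕ} (hq : q < 512) (hp : p < 120) : endp (winv iv11 (qW q)) p = p := by
  have e := endp_congr (u := qW q ++ winv iv11 (qW q)) (v := [])
    (okS_append (qW_okSide hq) (okSide_winv (qW_okSide hq))) rfl
    (by rw [wv_append, wv_winv g11 g11_inv, mul_inv_cancel, wv_nil]) hp
  rw [endp_append, endp_qW hp] at e
  exact e

/-- The word of a signed letter, given words for the generators. -/
def subL (im : ℕ → List ℕ) (l : ℕ) : List ℕ :=
  bif Nat.beq (Nat.land l 1) 0 then im (Nat.shiftRight l 1) else winv iv11 (im (Nat.shiftRight l 1))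

/-- A word in signed letters, with words for the generators. -/
def subW (im : ℕ → List ℕ) (r : List ℕ) : List ℕ := r.flatMap (subL im)

/-- A signed letter, given values for the generators. -/
def gval {G : Type*} [Group G] (f : ℕ → G) (l : ℕ) : G :=
  bif Nat.beq (Nat.land l 1) 0 then f (Nat.shiftRight l 1) else (f (Nat.shiftRight l 1))⁻¹

theorem wv_subW {im : ℕ → List ℕ} {f : ℕ → Cfsg.Spor.Th} :
    ∀ r : List ℕ, (∀ l ∈ r, wv g11 (im (Nat.shiftRight l 1)) = f (Nat.shiftRight l 1)) →
      wv g11 (subW im r) = wv (gval f) r := by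
  intro r
  induction r with
  | nil => intro _; rfl
  | cons l r ih =>
    intro h
    have hl := h l List.mem_cons_self
    rw [subW, List.flatMap_cons, wv_append, wv_cons, ← subW, ih fun m hm => h m (List.mem_cons_of_mem _ hm)]
    congr 1
    unfold subL gval
    cases Nat.beq (Nat.land l 1) 0
    · simp only [cond_false, wv_winv g11 g11_inv, hl]
    · simp only [cond_true, hl]

/-- The words of the generators, with `W` in place of generator `slot`. -/
def fillW (base : List (List ℕ)) (slot : ℕ) (W : List ℕ) (i : ℕ) : List ℕ :=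
  bif Nat.beq i slot then W else base.getD i []

theorem fillW_ok {base : List (List ℕ)} {slot : ℕ} {W : List ℕ}
    (hb : ∀ i, okSide true (base.getD i []) = true) (hW : okSide true W = true) (i : ℕ) :
    okSide true (fillW base slot W i) = true := by
  unfold fillW
  cases Nat.beq i slot
  · exact hb i
  · exact hW

theorem subW_ok {im : ℕ → List ℕ} (h : ∀ i, okSide true (im i) = true) :
    ∀ r : List ℕ, okSide true (subW im r) = true := by
  intro r
  induction r with
  | nil => rfl
  | cons l r ih =>
    rw [subW, List.flatMap_cons, ← subW]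
    refine okS_append ?_ ih
    unfold subL
    cases Nat.beq (Nat.land l 1) 0
    · exact okSide_winv (h _)
    · exact h _

theorem endp_fill {base : List (List ℕ)} {slot q : ℕ} {w : List ℕ} (hq : q < 512)
    (hb : ∀ i, okSide true (base.getD i []) = true) (hw : okSide true w = true) :
    ∀ (r : List ℕ) {p : ℕ}, p < 120 →
      endp (subW (fillW base slot (qW q ++ w)) r) p = endp (subW (fillW base slot w) r) p := by
  intro r
  induction r with
  | nil => intro p _; rfl
  | cons l r ih =>
    intro p hp
    simp only [subW, List.flatMap_cons, endp_append]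
    have hlt : endp (subL (fillW base slot w) l) p < 120 := by
      refine endp_lt ?_ hp
      have := subW_ok (fillW_ok (slot := slot) hb hw) [l]
      simpa [subW, List.flatMap_cons] using this
    have key : endp (subL (fillW base slot (qW q ++ w)) l) p = endp (subL (fillW base slot w) l) p := by
      unfold subL fillW
      cases Nat.beq (Nat.shiftRight l 1) slot <;> cases Nat.beq (Nat.land l 1) 0 <;>
        simp only [cond_false, cond_true]
      · have hh : winv iv11 (qW q ++ w) = winv iv11 w ++ winv iv11 (qW q) := by simp [winv]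
        rw [hh, endp_append, endp_qW_inv hq (endp_lt (okSide_winv hw) hp)]
      · rw [endp_append, endp_qW hp]
    rw [key]; exact ih hlt

/-- A system for one unknown: the other generators, the slot of the unknown, relations, a conjugation
relation `B x = x A`, the test points, the cosets of the normal subgroup passing, and the solutions. -/
structure Prob where
  base : List (List ℕ)
  slot : ℕ
  conds : List (List ℕ)
  B : List ℕ
  A : List ℕ
  pts : List ℕ
  surv : List (ℕ × ℕ × List ℕ)
  targets : List (List ℕ)

/-- A coset of the normal subgroup fails a relation on the test points. -/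
def Prob.miss (P : Prob) (w : List ℕ) : Bool :=
  P.conds.any fun r => P.pts.any fun p => !(Nat.beq (cEnd (subW (fillW P.base P.slot w) r) p) p)

/-- All elements of one coset of the normal subgroup are settled. -/
def Prob.qOK (P : Prob) (w κ : List ℕ) : Bool :=
  kWord κ && eqS true (w ++ P.A ++ winv iv11 w) κ && allLo (fun q =>
    !(eqH (winv iv11 (qW q) ++ P.B ++ qW q) κ) || ((P.targets.any fun T => eqS true (qW q ++ w) T) ||
      (P.conds.any fun r => !(eqS true (subW (fillW P.base P.slot (qW q ++ w)) r) [])))) 512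

/-- The checks on the data. -/
def Prob.wf (P : Prob) : Bool :=
  P.base.all (okSide true) && kWord P.B && okSide true P.A && P.pts.all (fun p => Nat.blt p 120) &&
    P.targets.all (okSide true)

/-- The check of one coset of the table. -/
def Prob.jOK (P : Prob) (j : ℕ) : Bool :=
  !(Nat.beq (cEnd P.A j) j) || allLo (fun r => P.miss (rW r ++ tauW j) ||
    P.surv.any fun s => Nat.beq s.1 j && Nat.beq s.2.1 r && P.qOK (rW r ++ tauW j) s.2.2) 1512

/-- **The solutions of a checked system.** -/
theorem Prob.solve {P : Prob} (hinj : Function.Injective psi) (hwf : P.wf = true)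
    (hj : allLo P.jOK 120 = true) {X : Cfsg.Spor.Th} (hX : X ∈ centC) {f : ℕ → Cfsg.Spor.Th}
    (hslot : f P.slot = X)
    (hf : ∀ r ∈ P.conds, ∀ l ∈ r, Nat.shiftRight l 1 ≠ P.slot →
      f (Nat.shiftRight l 1) = wv g11 (P.base.getD (Nat.shiftRight l 1) []))
    (hc : ∀ r ∈ P.conds, wv (gval f) r = 1) (hB : wv g11 P.B * X = X * wv g11 P.A) :
    ∃ T ∈ P.targets, X = wv g11 T := by
  simp only [Prob.wf, Bool.and_eq_true, List.all_eq_true, Nat.blt_eq] at hwf
  obtain ⟨⟨⟨⟨hbase, hBk⟩, hA⟩, hp⟩, hT⟩ := hwf
  have hb : ∀ i, okSide true (P.base.getD i []) = true := by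
    intro i
    rcases lt_or_ge i P.base.length with hi | hi
    · rw [List.getD_eq_getElem _ _ hi]; exact hbase _ (List.getElem_mem hi)
    · rw [List.getD_eq_default _ _ hi]; rfl
  obtain ⟨w₀, hw₀, rfl⟩ := hX
  obtain ⟨q, hq, r, hr, j, hjlt, e⟩ := form w₀ hw₀
  have hqk : kWord (qW q) = true := by
    have := allLo_spec words_ok.1 hq
    simp only [Bool.and_eq_true] at this
    exact this.1
  have hrk := allLo_spec words_ok.2.1 hr
  obtain ⟨hτ, hτok⟩ := wv_tauW hjlt
  set w := rW r ++ tauW j with hwdef
  have hw : okSide true w = true := okS_append (kWord_ok hrk).1 hτok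
  have hfull : okSide true (qW q ++ w) = true := okS_append (kWord_ok hqk).1 hw
  have eX : wv g11 w₀ = wv g11 (qW q ++ w) := by rw [e, hwdef, List.append_assoc]
  have hfix : endp P.A j = j := by
    set κ := winv iv11 (qW q ++ rW r) ++ P.B ++ (qW q ++ rW r) with hκ
    have hκ9 : ∀ l ∈ κ, l < 9 := by
      intro l hl
      simp only [hκ, winv, List.mem_append, List.mem_map, List.mem_reverse] at hl
      rcases hl with (⟨m, hm, rfl⟩ | hl) | hl
      · have : m < 9 := by
          rcases hm with hm | hm
          · exact (kWord_ok hqk).2 m hm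
          · exact (kWord_ok hrk).2 m hm
        interval_cases m <;> decide
      · exact (kWord_ok hBk).2 l hl
      · rcases hl with hl | hl
        · exact (kWord_ok hqk).2 l hl
        · exact (kWord_ok hrk).2 l hl
    have h1 : tauC j * wv g11 P.A = psi (el κ) * tauC j := by
      rw [psi_el hκ9, hκ, wv_append, wv_append, wv_winv g11 g11_inv]
      rw [e, wv_append g11 (qW q ++ rW r), hτ] at hB
      calc tauC j * wv g11 P.A
          = (wv g11 (qW q ++ rW r))⁻¹ * (wv g11 (qW q ++ rW r) * tauC j * wv g11 P.A) := by group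
        _ = _ := by rw [← hB]; group
    have h2 := cfold_spec P.A j hA hjlt
    rw [h1, ← endp_cEnd] at h2
    refine (tauC_inj hjlt (endp_lt hA hjlt) (h := (el κ)⁻¹ * el (cLab P.A j)) ?_).symm
    rw [map_mul, map_inv, mul_assoc, ← h2, inv_mul_cancel_left]
  have hcond : ∀ c ∈ P.conds, wv g11 (subW (fillW P.base P.slot (qW q ++ w)) c) = 1 := by
    intro c hcm
    rw [wv_subW (f := f) c fun l hl => ?_]
    · exact hc c hcm
    unfold fillW
    cases hs : Nat.beq (Nat.shiftRight l 1) P.slot with
    | true => rw [cond_true, ← eX, Nat.eq_of_beq_eq_true hs, hslot]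
    | false => rw [cond_false]; exact (hf c hcm l hl (Nat.ne_of_beq_eq_false hs)).symm
  have hmiss : P.miss w = false := by
    rw [Prob.miss, List.any_eq_false]
    intro c hcm
    simp only [List.any_eq_true, Bool.not_eq_true', not_exists, not_and, Bool.not_eq_false]
    intro p hpm
    refine Eq.mpr Nat.beq_eq ?_
    rw [← endp_cEnd]
    rw [← endp_fill hq hb hw c (hp p hpm), endp_congr (v := []) (subW_ok (fillW_ok hb hfull) c) rfl
      (by rw [hcond c hcm, wv_nil]) (hp p hpm)]
    rfl
  have hJ := allLo_spec hj hjlt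
  simp only [Prob.jOK, ← endp_cEnd, hfix, Nat.beq_refl, Bool.not_true, Bool.false_or] at hJ
  have hR := allLo_spec hJ hr
  rw [← hwdef, hmiss, Bool.false_or, List.any_eq_true] at hR
  obtain ⟨s, -, hs⟩ := hR
  simp only [Bool.and_eq_true, Prob.qOK] at hs
  obtain ⟨-, ⟨hκk, hκe⟩, hQ⟩ := hs
  have hq' := allLo_spec hQ hq
  have hconj : eqH (winv iv11 (qW q) ++ P.B ++ qW q) s.2.2 = true := by
    refine el_of_kWord hinj ?_ hκk ?_
    · simp only [kWord, winv, List.all_append, List.all_eq_true, List.mem_map, List.mem_reverse,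
        Bool.and_eq_true, Nat.blt_eq, Bool.not_eq_true'] at hqk hBk ⊢
      refine ⟨⟨?_, hBk⟩, hqk⟩
      rintro _ ⟨m, hm, rfl⟩
      obtain ⟨h1, h2⟩ := hqk m hm
      interval_cases m <;> first | exact ⟨by decide, rfl⟩ | simp_all [iv11]
    · rw [← eqS_eq hκe]
      simp only [wv_append, wv_winv g11 g11_inv]
      rw [eX, wv_append] at hB
      calc (wv g11 (qW q))⁻¹ * wv g11 P.B * wv g11 (qW q)
          = (wv g11 (qW q))⁻¹ * (wv g11 P.B * (wv g11 (qW q) * wv g11 w)) * (wv g11 w)⁻¹ := by group
        _ = _ := by rw [hB]; group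
  rw [hconj, Bool.not_true, Bool.false_or, Bool.or_eq_true] at hq'
  rcases hq' with h | h
  · obtain ⟨T, hTm, hTe⟩ := List.any_eq_true.1 h
    exact ⟨T, hTm, eX.trans (eqS_eq hTe)⟩
  · obtain ⟨c, hcm, hne⟩ := List.any_eq_true.1 h
    rw [Bool.not_eq_true'] at hne
    exact absurd (hcond c hcm)
      (wv_nil g11 ▸ ne_of_eqS hinj (subW_ok (fillW_ok hb hfull) c) rfl hne)

end

end Cfsg.Agent.ThOut
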