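import Cfsg.Agent.Lib.ThOut.Solver

/-! The systems of relations for the images of the generators of the centraliser, with their solutions. -/

set_option autoImplicit false
set_option maxRecDepth 100000
set_option Elab.async false

namespace Cfsg.Agent.ThOut

open Cfsg.Agent.HN Cfsg.Agent.Th

noncomputable section

/-- relations, cosets and solutions -/
def probT : Prob where
  base := [[0], [], [2], [3], [4], [5], [7], [9]]
  slot := 6
  conds := [[12, 12, 12], [13, 10, 12, 11, 11]]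
  B := [5]
  A := [5, 5]
  pts := [0, 1, 5, 17]
  surv := [(0, 5, [5]), (0, 19, [5]), (0, 23, [5]), (0, 25, [5]), (0, 26, [5]), (0, 69, [5]), (0, 70, [5])]
  targets := [[7], [6, 7, 5], [6, 6, 7, 5, 5], [6, 6, 6, 7, 5, 5, 5], [6, 6, 6, 6, 7, 5, 5, 5, 5], [6, 6, 6, 6, 6, 7, 5, 5, 5, 5, 5], [6, 6, 6, 6, 6, 6, 7, 5, 5, 5, 5, 5, 5]]

theorem probT_ok : probT.wf = true ∧ allLo probT.jOK 120 = true := by decide +kernel

/-- relations, cosets and solutions -/
def probC : Prob where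
  base := [[0], [], [2], [3], [4], [5], [7], [9]]
  slot := 2
  conds := [[4, 4], [11, 5, 10, 4], [13, 5, 12, 4]]
  B := [5]
  A := [5]
  pts := [0, 1, 5, 17]
  surv := [(0, 0, [5])]
  targets := [[], [0], [2], [0, 2], [3, 0, 2, 3], [3, 2, 3]]

theorem probC_ok : probC.wf = true ∧ allLo probC.jOK 120 = true := by decide +kernel

/-- relations, cosets and solutions -/
def probD : Prob where
  base := [[0], [], [2], [3], [4], [5], [7], [9]]
  slot := 3
  conds := [[6, 6], [10, 6, 10, 6], [13, 7, 12, 6]]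
  B := [7]
  A := [7]
  pts := [0, 1, 5, 17]
  surv := [(0, 1, [7])]
  targets := [[3], [3, 0], [0, 2, 3, 2], [2, 3, 2]]

theorem probD_ok : probD.wf = true ∧ allLo probD.jOK 120 = true := by decide +kernel

/-- relations, cosets and solutions -/
def probE : Prob where
  base := [[0], [], [2], [3], [4], [5], [7], [9]]
  slot := 4
  conds := [[8, 8], [0, 8, 0, 8], [13, 9, 12, 8], [9, 11, 8, 10, 11, 11, 11, 9, 10, 10, 10]]
  B := [7]
  A := [7]
  pts := [0, 1, 5, 17]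
  surv := [(0, 0, [7]), (0, 2, [7]), (3, 7, [7])]
  targets := [[], [4], [3, 4, 2, 3, 2, 4, 3], [3, 2, 3, 10, 3, 2, 3, 9]]

theorem probE_ok : probE.wf = true ∧ allLo probE.jOK 120 = true := by decide +kernel

/-- relations, cosets and solutions -/
def probV : Prob where
  base := [[0], [], [2], [3], [4], [5], [7], [9]]
  slot := 1
  conds := [[3, 5, 2, 4], [3, 9, 2, 8], [3, 11, 2, 10], [3, 13, 2, 12], [3, 15, 2, 14]]
  B := [5]
  A := [5]
  pts := [0, 1, 5, 17]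
  surv := [(0, 0, [5])]
  targets := [[], [0], [2], [0, 2]]

theorem probV_ok : probV.wf = true ∧ allLo probV.jOK 120 = true := by decide +kernel

/-- relations, cosets and solutions -/
def probX : Prob where
  base := [[0], [], [2], [3], [4], [5], [7], [9]]
  slot := 1
  conds := [[3, 7, 2, 6], [3, 9, 2, 8], [3, 11, 2, 10], [3, 13, 2, 12]]
  B := [5]
  A := [5]
  pts := [0, 1, 5, 17]
  surv := [(0, 0, [5])]
  targets := [[], [0]]

theorem probX_ok : probX.wf = true ∧ allLo probX.jOK 120 = true := by decide +kernel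

/-- relations, cosets and solutions -/
def probU0 : Prob where
  base := [[0], [], [2], [3], [4], [5], [7], [9]]
  slot := 7
  conds := [[14, 14, 5, 1], [15, 1, 14, 0], [15, 5, 14, 4], [15, 9, 14, 8], [15, 12, 14, 12], [0, 4, 11, 15, 11, 15, 11, 15], [6, 8, 15, 6, 14, 6, 8, 15, 6, 14], [9, 11, 11, 15, 10, 10, 8, 11, 11, 14, 10, 10], [0, 4, 11, 15, 10, 14, 11, 15, 10, 14, 11, 15, 10, 14, 11, 15, 10, 14], [6, 11, 11, 14, 10, 10, 6, 11, 11, 14, 10, 10, 6, 11, 11, 14, 10, 10, 6, 11, 11, 14, 10, 10, 11, 11, 9, 7, 5, 6, 8, 10, 10, 10, 9, 7, 5, 6, 8, 11, 7, 5, 6, 5, 1]]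
  B := [7]
  A := [8]
  pts := [0, 1, 5, 17]
  surv := [(1, 0, [7])]
  targets := [[9]]

theorem probU0_ok : probU0.wf = true ∧ allLo probU0.jOK 120 = true := by decide +kernel

/-- relations, cosets and solutions -/
def probU1 : Prob where
  base := [[0], [], [2], [3, 0], [3, 4, 2, 3, 2, 4, 3], [5], [7], [9]]
  slot := 7
  conds := [[14, 14, 5, 1], [15, 1, 14, 0], [15, 5, 14, 4], [15, 9, 14, 8], [15, 12, 14, 12], [0, 4, 11, 15, 11, 15, 11, 15], [6, 8, 15, 6, 14, 6, 8, 15, 6, 14], [9, 11, 11, 15, 10, 10, 8, 11, 11, 14, 10, 10], [0, 4, 11, 15, 10, 14, 11, 15, 10, 14, 11, 15, 10, 14, 11, 15, 10, 14], [6, 11, 11, 14, 10, 10, 6, 11, 11, 14, 10, 10, 6, 11, 11, 14, 10, 10, 6, 11, 11, 14, 10, 10, 11, 11, 9, 7, 5, 6, 8, 10, 10, 10, 9, 7, 5, 6, 8, 11, 7, 5, 6, 5, 1]]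
  B := [7]
  A := [8]
  pts := [0, 1, 5, 17]
  surv := [(1, 0, [7])]
  targets := []

theorem probU1_ok : probU1.wf = true ∧ allLo probU1.jOK 120 = true := by decide +kernel

/-- relations, cosets and solutions -/
def probU2 : Prob where
  base := [[0], [], [2], [0, 2, 3, 2], [3, 4, 2, 3, 2, 4, 3], [5], [7], [9]]
  slot := 7
  conds := [[14, 14, 5, 1], [15, 1, 14, 0], [15, 5, 14, 4], [15, 9, 14, 8], [15, 12, 14, 12], [0, 4, 11, 15, 11, 15, 11, 15], [6, 8, 15, 6, 14, 6, 8, 15, 6, 14], [9, 11, 11, 15, 10, 10, 8, 11, 11, 14, 10, 10], [0, 4, 11, 15, 10, 14, 11, 15, 10, 14, 11, 15, 10, 14, 11, 15, 10, 14], [6, 11, 11, 14, 10, 10, 6, 11, 11, 14, 10, 10, 6, 11, 11, 14, 10, 10, 6, 11, 11, 14, 10, 10, 11, 11, 9, 7, 5, 6, 8, 10, 10, 10, 9, 7, 5, 6, 8, 11, 7, 5, 6, 5, 1]]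
  B := [7]
  A := [8]
  pts := [0, 1, 5, 17]
  surv := [(1, 0, [7])]
  targets := []

theorem probU2_ok : probU2.wf = true ∧ allLo probU2.jOK 120 = true := by decide +kernel

/-- relations, cosets and solutions -/
def probU3 : Prob where
  base := [[0], [], [0, 2], [3], [4], [5], [7], [9]]
  slot := 7
  conds := [[14, 14, 5, 1], [15, 1, 14, 0], [15, 5, 14, 4], [15, 9, 14, 8], [15, 12, 14, 12], [0, 4, 11, 15, 11, 15, 11, 15], [6, 8, 15, 6, 14, 6, 8, 15, 6, 14], [9, 11, 11, 15, 10, 10, 8, 11, 11, 14, 10, 10], [0, 4, 11, 15, 10, 14, 11, 15, 10, 14, 11, 15, 10, 14, 11, 15, 10, 14], [6, 11, 11, 14, 10, 10, 6, 11, 11, 14, 10, 10, 6, 11, 11, 14, 10, 10, 6, 11, 11, 14, 10, 10, 11, 11, 9, 7, 5, 6, 8, 10, 10, 10, 9, 7, 5, 6, 8, 11, 7, 5, 6, 5, 1]]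
  B := [7]
  A := [8]
  pts := [0, 1, 5, 17]
  surv := [(1, 0, [7])]
  targets := []

theorem probU3_ok : probU3.wf = true ∧ allLo probU3.jOK 120 = true := by decide +kernel

/-- relations, cosets and solutions -/
def probU4 : Prob where
  base := [[0], [], [0, 2], [2, 3, 2], [4], [5], [7], [9]]
  slot := 7
  conds := [[14, 14, 5, 1], [15, 1, 14, 0], [15, 5, 14, 4], [15, 9, 14, 8], [15, 12, 14, 12], [0, 4, 11, 15, 11, 15, 11, 15], [6, 8, 15, 6, 14, 6, 8, 15, 6, 14], [9, 11, 11, 15, 10, 10, 8, 11, 11, 14, 10, 10], [0, 4, 11, 15, 10, 14, 11, 15, 10, 14, 11, 15, 10, 14, 11, 15, 10, 14], [6, 11, 11, 14, 10, 10, 6, 11, 11, 14, 10, 10, 6, 11, 11, 14, 10, 10, 6, 11, 11, 14, 10, 10, 11, 11, 9, 7, 5, 6, 8, 10, 10, 10, 9, 7, 5, 6, 8, 11, 7, 5, 6, 5, 1]]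
  B := [7]
  A := [8]
  pts := [0, 1, 5, 17]
  surv := [(1, 0, [7])]
  targets := []

theorem probU4_ok : probU4.wf = true ∧ allLo probU4.jOK 120 = true := by decide +kernel

end

end Cfsg.Agent.ThOut
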